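import Cfsg.Agent.Lib.Invol.KondoAlt.Clique

/-!
# The orbit of `t` on the subgroup of one block

Some element normalising the image of `blkS o₁ o₂` carries the element `e0 o₁ o₂`, which lies outside
`E`, to `t`.
-/

set_option autoImplicit false
set_option linter.unusedSectionVars false
set_option linter.style.haveILetI false

namespace CfsgLib.KondoAlt

open Equiv Finset

variable {Ω : Type*} [Fintype Ω] [DecidableEq Ω] {G : Type*} [Group G] [Finite G] {o₁ o₂ : Ω}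

/-- the bit vector of the block -/
def pairVec (o₁ o₂ : Ω) : Vec Ω := ev o₁ + ev o₂

/-- the bit vector of the points outside the block -/
def outVec (o₁ o₂ : Ω) : Vec Ω := fun i => if i = o₁ ∨ i = o₂ then 0 else 1

/-- the element outside `E` that fuses with `t` -/
def e0 (o₁ o₂ : Ω) : Wm Ω := Wm.bs (outVec o₁ o₂) * Wm.pm (swap o₁ o₂)

theorem pairVec_left (ho : o₁ ≠ o₂) : pairVec o₁ o₂ o₁ = 1 := by simp [pairVec, ev_apply, ho]

theorem pairVec_right (ho : o₁ ≠ o₂) : pairVec o₁ o₂ o₂ = 1 := by simp [pairVec, ev_apply, ho.symm]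

theorem pairVec_of_ne {i : Ω} (h1 : i ≠ o₁) (h2 : i ≠ o₂) : pairVec o₁ o₂ i = 0 := by
  simp [pairVec, ev_apply, h1, h2]

theorem bs_pairVec_mem (ho : o₁ ≠ o₂) : Wm.bs (pairVec o₁ o₂) ∈ blkS o₁ o₂ :=
  bs_mem_blkS (by rw [pairVec_left ho, pairVec_right ho])

theorem e0_mem : e0 o₁ o₂ ∈ blkS o₁ o₂ := mul_mem (bs_mem_blkS (by simp [outVec])) pm_swap_mem_blkS

theorem ext_pairVec (ho : o₁ ≠ o₂) {k : Option Ω} (hk : k ∈ restPts o₁ o₂) : ext (pairVec o₁ o₂) k = 0 := by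
  obtain ⟨h1, h2⟩ := mem_restPts.1 hk
  cases k with
  | none =>
    show ∑ i, (ev o₁ + ev o₂ : Vec Ω) i = 0
    simp only [Pi.add_apply, sum_add_distrib, sum_ev, z2_add_self]
  | some i => exact pairVec_of_ne (fun e => h1 (by rw [e])) (fun e => h2 (by rw [e]))

theorem vec_mul_blkS {x y : Wm Ω} (hx : x ∈ blkS o₁ o₂) (hy : y ∈ blkS o₁ o₂) :
    Wm.vec (x * y) = Wm.vec x + Wm.vec y := by
  funext i
  rw [Wm.vec_mul, Pi.add_apply]
  rcases ((blkS o₁ o₂).inv_mem hx).1 i with h | h <;> rw [Wm.prm_inv] at h <;> rw [h]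
  rw [hy.2 i]

theorem prm_blkS {x : Wm Ω} (hx : x ∈ blkS o₁ o₂) : Wm.prm x = 1 ∨ Wm.prm x = swap o₁ o₂ := by
  obtain ⟨-, h | h⟩ := blkS_cases hx
  · exact Or.inl (by rw [h]; rfl)
  · exact Or.inr (by rw [h, Wm.prm_mul, Wm.prm_bs, one_mul, Wm.prm_pm])

theorem swap_ne_one (ho : o₁ ≠ o₂) : swap o₁ o₂ ≠ (1 : Perm Ω) := fun h => ho (by
  have h1 := DFunLike.congr_fun h o₁
  rw [swap_apply_left, Perm.one_apply] at h1
  exact h1.symm)

/-- elements normalising `blkS o₁ o₂` preserve the block -/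
theorem prm_comm_of_normal (ho : o₁ ≠ o₂) {r : Wm Ω} (h : ∀ x ∈ blkS o₁ o₂, r * x * r⁻¹ ∈ blkS o₁ o₂) :
    Wm.prm r * swap o₁ o₂ = swap o₁ o₂ * Wm.prm r := by
  rcases prm_blkS (h _ (pm_swap_mem_blkS (o₁ := o₁) (o₂ := o₂))) with h1 | h1 <;>
    rw [Wm.prm_mul, Wm.prm_mul, Wm.prm_inv, Wm.prm_pm] at h1
  · exact absurd (conj_eq_one_iff.1 h1) (swap_ne_one ho)
  · exact mul_inv_eq_iff_eq_mul.1 h1

theorem apply_mem_pair (ho : o₁ ≠ o₂) {π : Perm Ω} (hπ : π * swap o₁ o₂ = swap o₁ o₂ * π) {i : Ω}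
    (hi : i = o₁ ∨ i = o₂) : π i = o₁ ∨ π i = o₂ := by
  by_contra hc
  push Not at hc
  have h1 := DFunLike.congr_fun hπ i
  rw [Perm.mul_apply, Perm.mul_apply, swap_apply_of_ne_of_ne hc.1 hc.2] at h1
  rcases hi with h | h <;> subst h
  · rw [swap_apply_left] at h1
    exact ho (π.injective h1).symm
  · rw [swap_apply_right] at h1
    exact ho (π.injective h1)

theorem conj_bs_ev {μ : Perm Ω} {hμ : μ * μ = 1} {x : Wm Ω} (hx : x ∈ Wm.blk μ hμ) (a : Ω) :
    Wm.bs (ev a) * x * (Wm.bs (ev a))⁻¹ = x ∨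
      Wm.bs (ev a) * x * (Wm.bs (ev a))⁻¹ = x * Wm.bs (ev a + ev (μ a)) := by
  have hμμ : ∀ i, μ (μ i) = i := fun i => by rw [← Perm.mul_apply, hμ]; rfl
  have hconj : Wm.bs (ev a) * x * (Wm.bs (ev a))⁻¹ = Wm.bs (ev a + ev (Wm.prm x a)) * x := by
    rw [Wm.bs_inv, Wm.bs_add, ← pe_ev, mul_assoc, mul_assoc]
    refine congrArg _ ?_
    rw [show Wm.bs (pe (Wm.prm x) (ev a)) = x * Wm.bs (ev a) * x⁻¹ from
      (Wm.conj_bs x (ev a)).symm, inv_mul_cancel_right]
  rw [hconj]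
  rcases hx.1 a with h | h <;> rw [h]
  · exact Or.inl (by rw [vec_add_self, Wm.bs_zero, one_mul])
  · refine Or.inr (Wm.blk_comm hμ ((Wm.bs_mem_blk hμ).2 fun y => ?_) hx)
    have key : ∀ z, ev z (μ y) = ev (μ z) y := fun z => by
      rw [ev_apply, ev_apply]
      exact if_congr ⟨fun h => by rw [← h, hμμ], fun h => by rw [h, hμμ]⟩ rfl rfl
    rw [Pi.add_apply, Pi.add_apply, key, key, hμμ, add_comm]

theorem bs_pair_mem {μ : Perm Ω} (hμ : μ * μ = 1) (a : Ω) : Wm.bs (ev a + ev (μ a)) ∈ Wm.blk μ hμ := by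
  have hμμ : ∀ i, μ (μ i) = i := fun i => by rw [← Perm.mul_apply, hμ]; rfl
  refine (Wm.bs_mem_blk hμ).2 fun y => ?_
  have key : ∀ z, ev z (μ y) = ev (μ z) y := fun z => by
    rw [ev_apply, ev_apply]
    exact if_congr ⟨fun h => by rw [← h, hμμ], fun h => by rw [h, hμμ]⟩ rfl rfl
  rw [Pi.add_apply, Pi.add_apply, key, key, hμμ, add_comm]

end CfsgLib.KondoAlt

namespace CfsgLib.KondoAlt

open Equiv Finset

variable {Ω : Type*} [Fintype Ω] [DecidableEq Ω] {G : Type*} [Group G] [Finite G] {o₁ o₂ : Ω}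

namespace SymData

variable (D : SymData Ω G) {g : G} {μ : Perm Ω} {hμ : μ * μ = 1} {e : Wm Ω}

theorem card_fixed_invol (μ : Perm Ω) :
    (univ.filter fun i => μ i = i).card + μ.support.card = Fintype.card Ω := by
  rw [← card_union_of_disjoint (disjoint_left.2 fun i h h' => Perm.mem_support.1 h' (mem_filter.1 h).2), ← card_univ]
  refine congrArg card (eq_univ_of_forall fun i => ?_)
  simp only [mem_union, mem_filter, mem_univ, true_and, Perm.mem_support]
  exact em _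

theorem two_le_support (hμ1 : μ ≠ 1) : 2 ≤ μ.support.card := Perm.two_le_card_support_of_ne_one hμ1

theorem good_of_cls (H : Carry D o₁ o₂ g μ hμ e) {d : ZMod 2} (h3 : 3 ≤ (cls o₁ o₂ e d).card) {p q : Option Ω}
    (hp : p ∈ cls o₁ o₂ e d) (hq : q ∈ cls o₁ o₂ e d) (hpq : p ≠ q) : Good D g μ e o₁ o₂ p q := by
  obtain ⟨r, hr, hr'⟩ := exists_mem_notMem_of_card_lt_card (s := {p, q}) (t := cls o₁ o₂ e d)
    (by rw [card_pair hpq]; omega)
  simp only [mem_insert, mem_singleton, not_or] at hr'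
  obtain ⟨hp1, hp2⟩ := mem_filter.1 hp
  obtain ⟨hq1, hq2⟩ := mem_filter.1 hq
  obtain ⟨hr1, hr2⟩ := mem_filter.1 hr
  exact D.good_of_third H hp1 hq1 hr1 hpq (Ne.symm hr'.1) (Ne.symm hr'.2) (hp2.trans hq2.symm) (hq2.trans hr2.symm)

/-- dropping different points of the zero class gives different sums -/
theorem not_all_eq (H : Carry D o₁ o₂ g μ hμ e) (T₁ : Finset (Option Ω)) (hT₁ : T₁ ⊆ cls o₁ o₂ e 1)
    (hT₁e : Even T₁.card) (h3 : 3 ≤ (cls o₁ o₂ e 0).card) (hodd : Odd (cls o₁ o₂ e 0).card)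
    (hgood : ∀ p ∈ T₁, ∀ q ∈ T₁, p ≠ q → Good D g μ e o₁ o₂ p q) :
    T₁.card + ((cls o₁ o₂ e 0).card - 1) < (univ.filter fun i => μ i = i).card := by
  have hT : ∀ p ∈ cls o₁ o₂ e 0, T₁.card + ((cls o₁ o₂ e 0).card - 1) ≤ (univ.filter fun i => μ i = i).card ∧
      (T₁.card + ((cls o₁ o₂ e 0).card - 1) = (univ.filter fun i => μ i = i).card →
        g * D.b (vT (T₁ ∪ (cls o₁ o₂ e 0).erase p)) * g⁻¹ = D.b fun i => if μ i = i then 1 else 0) := by
    intro p hp
    have h := D.good_sets_bound H (fun d => if d = 1 then T₁ else (cls o₁ o₂ e 0).erase p) (fun d => by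
      rcases z2_cases d with rfl | rfl
      · rw [if_neg zero_ne_one, card_erase_of_mem hp]
        exact ⟨erase_subset _ _, hodd.tsub_odd odd_one⟩
      · rw [if_pos rfl]; exact ⟨hT₁, hT₁e⟩) (fun d a ha b hb hab => by
      rcases z2_cases d with rfl | rfl
      · rw [if_neg zero_ne_one] at ha hb
        exact D.good_of_cls H h3 (mem_of_mem_erase ha) (mem_of_mem_erase hb) hab
      · rw [if_pos rfl] at ha hb
        exact hgood a ha b hb hab)
    simp only [if_true, if_neg (zero_ne_one (α := ZMod 2)), card_erase_of_mem hp] at h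
    exact h
  obtain ⟨p, hp, p', hp', hne⟩ := one_lt_card.1 (show 1 < (cls o₁ o₂ e 0).card by omega)
  refine lt_of_le_of_ne (hT p hp).1 fun heq => hne ?_
  have e1 := ((hT p hp).2 heq).trans ((hT p' hp').2 heq).symm
  have e2 := congrFun (congrArg ext (D.toData.b_injective (mul_left_cancel (mul_right_cancel e1)))) p
  have hev : ∀ z ∈ cls o₁ o₂ e 0, Even (T₁ ∪ (cls o₁ o₂ e 0).erase z).card := fun z hz => by
    rw [card_union_of_disjoint (s := T₁) (t := (cls o₁ o₂ e 0).erase z) (disjoint_left.2 fun a ha ha' => one_ne_zero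
      ((mem_filter.1 (hT₁ ha)).2.symm.trans (mem_filter.1 (mem_of_mem_erase ha')).2)), card_erase_of_mem hz]
    exact hT₁e.add (hodd.tsub_odd odd_one)
  rw [ext_vT (hev p hp), ext_vT (hev p' hp')] at e2
  have hpT : p ∉ T₁ := fun h => one_ne_zero ((mem_filter.1 (hT₁ h)).2.symm.trans (mem_filter.1 hp).2)
  simp only [mem_union, mem_erase, hpT, false_or, ne_eq, not_true_eq_false, false_and, if_false, hp, and_true] at e2
  by_contra hne'
  simp [hne'] at e2

/-- **the classes of the preimage of `t`** -/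
theorem classes_cases (H : Carry D o₁ o₂ g μ hμ e) (ho : o₁ ≠ o₂) (hμ1 : μ ≠ 1) (h4 : 4 ≤ Fintype.card Ω) :
    ((cls o₁ o₂ e 1).card = 2 ∧ 3 ≤ (cls o₁ o₂ e 0).card ∧ μ.support.card = 2) ∨
      ((cls o₁ o₂ e 0).card = 1 ∧ (6 ≤ Fintype.card Ω → μ.support.card = 2)) := by
  have hev := even_cls_one ho H.mem
  have hsum := card_cls (e := e) ho
  have hodd : Odd (cls o₁ o₂ e 0).card := by
    have hN := D.even_card
    rw [Nat.even_iff] at hev hN; rw [Nat.odd_iff]; omega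
  have hs := support_card_invol hμ
  have hs2 := two_le_support hμ1
  have hF := card_fixed_invol μ
  by_cases h3 : 3 ≤ (cls o₁ o₂ e 0).card
  · left
    by_cases h2 : (cls o₁ o₂ e 1).card = 2
    · refine ⟨h2, h3, ?_⟩
      have h := D.not_all_eq H ∅ (empty_subset _) (by simp) h3 hodd (fun p hp => absurd hp (notMem_empty p))
      have hN := D.even_card
      rw [Nat.even_iff] at hN; rw [Nat.odd_iff] at hodd
      simp only [card_empty] at h
      omega
    · exfalso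
      have h := D.not_all_eq H (cls o₁ o₂ e 1) subset_rfl hev h3 hodd fun p hp q hq hpq => by
        refine D.good_of_cls H ?_ hp hq hpq
        have : 1 < (cls o₁ o₂ e 1).card := one_lt_card.2 ⟨p, hp, q, hq, hpq⟩
        rw [Nat.even_iff] at hev; omega
      omega
  · right
    have h1 : (cls o₁ o₂ e 0).card = 1 := by rw [Nat.odd_iff] at hodd; omega
    refine ⟨h1, fun h6 => ?_⟩
    have h := D.good_sets_bound H (fun d => if d = 1 then cls o₁ o₂ e 1 else ∅) (fun d => by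
      rcases z2_cases d with rfl | rfl
      · simp
      · rw [if_pos rfl]; exact ⟨subset_rfl, hev⟩) (fun d a ha b hb hab => by
      rcases z2_cases d with rfl | rfl
      · simp at ha
      · rw [if_pos rfl] at ha hb
        exact D.good_of_cls H (by omega) ha hb hab)
    have h1' := h.1
    simp only [if_true, if_neg (zero_ne_one (α := ZMod 2)), card_empty] at h1'
    omega

/-- the element of one block cannot have a class of size two -/
theorem no_pair_class (H : Carry D o₁ o₂ g (swap o₁ o₂) (swap_mul_self _ _) e) (ho : o₁ ≠ o₂)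
    (h2 : (cls o₁ o₂ e 1).card = 2) (h3 : 3 ≤ (cls o₁ o₂ e 0).card) : False := by
  classical
  obtain ⟨p, q, hpq, hcls⟩ := card_eq_two.1 h2
  have hp : p ∈ cls o₁ o₂ e 1 := by rw [hcls]; simp
  have hq : q ∈ cls o₁ o₂ e 1 := by rw [hcls]; simp
  obtain ⟨hp', hpe⟩ := mem_filter.1 hp
  obtain ⟨hq', hqe⟩ := mem_filter.1 hq
  have hodd : Odd (cls o₁ o₂ e 0).card := by
    have hN := D.even_card
    have hsum := card_cls (e := e) ho
    rw [Nat.even_iff] at hN; rw [Nat.odd_iff]; omega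
  have hng : ¬ Good D g (swap o₁ o₂) e o₁ o₂ p q := fun hg => by
    have h := D.not_all_eq H (cls o₁ o₂ e 1) subset_rfl (by rw [h2]; exact even_two) h3 hodd
      fun a ha b hb hab => by
        rw [hcls, mem_insert, mem_singleton] at ha hb
        rcases ha with rfl | rfl <;> rcases hb with rfl | rfl
        · exact absurd rfl hab
        · exact hg
        · obtain ⟨h0, h1, h1', hcl, p', q', hne, hfp, hfq, hgc, hfix⟩ := hg
          refine ⟨h0.symm, h1', h1, hcl.symm, p', q', hne, hfp, hfq, ?_, fun x hx v hv hxv => hfix x hx v hv hxv.symm⟩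
          rw [show ({a, b} : Finset (Option Ω)) = {b, a} from Finset.pair_comm _ _]
          exact hgc
        · exact absurd rfl hab
    have := card_fixed_invol (swap o₁ o₂)
    rw [Perm.card_support_swap ho] at this
    have hsum := card_cls (e := e) ho
    omega
  -- the image of the fixed hyperplane is the base
  have hbase : ∀ x ∈ blkS o₁ o₂, ext (Wm.vec x) p = ext (Wm.vec x) q →
      ∀ a, g * D.φ x * g⁻¹ = D.φ a → Wm.prm a = 1 := by
    intro x hx hxe a ha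
    obtain ⟨r, hr, hr'⟩ := exists_mem_notMem_of_card_lt_card (s := ({p, q} : Finset (Option Ω))) (t := cls o₁ o₂ e 0)
      (by rw [card_pair hpq]; omega)
    obtain ⟨hr1, hr2⟩ := mem_filter.1 hr
    simp only [mem_insert, mem_singleton, not_or] at hr'
    have hx₀ : Wm.bs (vT {p, r}) ∈ blkS o₁ o₂ :=
      bs_mem_blkS (vT_eq_of_subset (by simp [insert_subset_iff, hp', hr1]))
    have hx₀e : ext (Wm.vec (Wm.bs (vT {p, r}))) p ≠ ext (Wm.vec (Wm.bs (vT {p, r}))) q := by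
      rw [Wm.vec_bs, ext_vT (by rw [card_pair (Ne.symm hr'.1)]; exact even_two)]
      simp [hpq.symm, Ne.symm hr'.2]
    obtain ⟨a₀, ha₀, hga₀⟩ := H.into _ hx₀
    have hnb : ∀ z ∈ blkS o₁ o₂, ext (Wm.vec z) p ≠ ext (Wm.vec z) q → ∀ b, g * D.φ z * g⁻¹ = D.φ b →
        Wm.prm b ≠ 1 := fun z hz hze b hb hb1 =>
      hng (D.good_of_moved H hp' hq' hpq (hpe.trans hqe.symm) hz hze (w := Wm.vec b)
        (by rw [hb, ← Wm.eq_bs_of_mem hb1]))
    by_contra hne
    obtain ⟨a', ha', hga'⟩ := H.into x hx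
    obtain rfl : a' = a := D.inj (hga'.symm.trans ha)
    have hs := (prm_blkS ha').resolve_left hne
    have hs₀ := (prm_blkS ha₀).resolve_left (hnb _ hx₀ hx₀e _ hga₀)
    refine hnb (Wm.bs (vT {p, r}) * x) (mul_mem hx₀ hx) ?_ (a₀ * a') ?_ ?_
    · rw [vec_mul_blkS hx₀ hx, ext_add, Pi.add_apply, Pi.add_apply, hxe, ne_eq, add_left_inj]
      exact hx₀e
    · rw [map_mul, map_mul, ← hga₀, ← hga']; group
    · rw [Wm.prm_mul, hs₀, hs, swap_mul_self]
  have hop : ∀ x ∈ blkS o₁ o₂, ext (Wm.vec x) p = ext (Wm.vec x) q → (∃ c, c * D.t * c⁻¹ = D.φ x) →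
      ∃ k, k ∈ restPts o₁ o₂ ∧ g * D.φ x * g⁻¹ = D.b (op k) := by
    intro x hx hxe ⟨c, hc⟩
    obtain ⟨a, ha, hga⟩ := H.into x hx
    have hab := Wm.eq_bs_of_mem (Wm.mem_baseG.2 (hbase x hx hxe a hga))
    obtain ⟨k, hk⟩ := D.exists_op_of_conj (g := g * c) (w := Wm.vec a) (by
      rw [show g * c * D.t * (g * c)⁻¹ = g * (c * D.t * c⁻¹) * g⁻¹ by group, hc, hga]
      exact congrArg D.φ hab)
    refine ⟨k, mem_restPts.2 ?_, by rw [hga, ← hk]; exact congrArg D.φ hab⟩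
    have hv := (blkS_cases ha).1
    rw [hk] at hv
    constructor <;> rintro rfl <;> simp [op, ev_apply, ho, ho.symm] at hv
  -- too many elements
  have hpe0 : Wm.prm e = swap o₁ o₂ := by
    refine (prm_blkS H.mem).resolve_left fun he1 => ?_
    obtain ⟨k, hk⟩ := D.exists_op_of_conj (g := g⁻¹) (w := Wm.vec e) (by
      rw [Data.b, ← Wm.eq_bs_of_mem (Wm.mem_baseG.2 he1), ← H.map]; group)
    have hsub : cls o₁ o₂ e 0 ⊆ {k} := fun l hl => by
      have h := (mem_filter.1 hl).2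
      rw [hk, ext_op D.even_card] at h
      by_contra hne
      rw [mem_singleton] at hne
      simp [hne] at h
    have := card_le_card hsub
    rw [card_singleton] at this
    omega
  obtain ⟨r₁, hr₁, r₂, hr₂, hr12⟩ := one_lt_card.1 (show 1 < (cls o₁ o₂ e 0).card by omega)
  obtain ⟨hr₁', hr₁e⟩ := mem_filter.1 hr₁
  obtain ⟨hr₂', hr₂e⟩ := mem_filter.1 hr₂
  have hne0 : ∀ {a b : Option Ω}, ext (Wm.vec e) a = 1 → ext (Wm.vec e) b = 0 → a ≠ b := fun ha hb h => by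
    rw [h, hb] at ha; exact zero_ne_one ha
  let π : Perm (Option Ω) := swap p r₁ * swap q r₂
  have hfixpt : ∀ o, o = o₁ ∨ o = o₂ → π (some o) = some o := by
    intro o ho'
    have key : ∀ k, k ∈ restPts o₁ o₂ → some o ≠ k := fun k hk h => by
      rcases ho' with rfl | rfl
      exacts [(mem_restPts.1 hk).1 h.symm, (mem_restPts.1 hk).2 h.symm]
    simp only [π, Perm.mul_apply]
    rw [swap_apply_of_ne_of_ne (key q hq') (key r₂ hr₂'), swap_apply_of_ne_of_ne (key p hp') (key r₁ hr₁')]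
  have hπp : π⁻¹ p = r₁ := by
    simp [π, mul_inv_rev, swap_apply_of_ne_of_ne (Ne.symm (hne0 hqe hr₁e)) hr12]
  have hπq : π⁻¹ q = r₂ := by
    simp [π, mul_inv_rev, swap_apply_of_ne_of_ne hpq.symm (hne0 hqe hr₁e)]
  let e₁ : Wm Ω := Wm.bs (ev o₁) * e * (Wm.bs (ev o₁))⁻¹
  have he₁ : e₁ = e * Wm.bs (pairVec o₁ o₂) := by
    rcases conj_bs_ev H.mem o₁ with h | h
    · exfalso
      have h1 := congrFun (congrArg Wm.vec h) o₁
      simp [Wm.vec_mul, Wm.vec_inv, hpe0, ev_apply, ho, ho.symm] at h1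
    · rw [swap_apply_left] at h; exact h
  let e₂ : Wm Ω := Wm.bs (peE π (Wm.vec e)) * Wm.pm (swap o₁ o₂)
  have hee : e = Wm.bs (Wm.vec e) * Wm.pm (swap o₁ o₂) := by
    conv_lhs => rw [Wm.eq_bs_mul_pm e, hpe0]
  have he₂ : D.s π * D.φ e * (D.s π)⁻¹ = D.φ e₂ := by
    conv_lhs => rw [hee]
    rw [map_mul D.φ (Wm.bs (Wm.vec e)), map_mul D.φ (Wm.bs (peE π (Wm.vec e))),
      show D.φ (Wm.bs (peE π (Wm.vec e))) = D.s π * D.φ (Wm.bs (Wm.vec e)) * (D.s π)⁻¹ from (D.s_conj _ _).symm]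
    calc D.s π * (D.φ (Wm.bs (Wm.vec e)) * D.φ (Wm.pm (swap o₁ o₂))) * (D.s π)⁻¹
        = D.s π * D.φ (Wm.bs (Wm.vec e)) * (D.s π)⁻¹ * (D.s π * D.φ (Wm.pm (swap o₁ o₂)) * (D.s π)⁻¹) := by group
      _ = _ := by rw [D.s_fix_swap (hfixpt o₁ (Or.inl rfl)) (hfixpt o₂ (Or.inr rfl)), mul_inv_cancel_right]
  have hte : g⁻¹ * D.t * g = D.φ e := by rw [← H.map]; group
  let z : {k // k ∈ ((restPts o₁ o₂).erase p).erase q} ⊕ Fin 3 → Wm Ω :=
    Sum.elim (fun k => Wm.bs (op k.1)) ![e, e₁, e₂]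
  have hvee₁ : Wm.vec e₁ = Wm.vec e + pairVec o₁ o₂ := by
    rw [he₁, vec_mul_blkS H.mem (bs_pairVec_mem ho), Wm.vec_bs]
  have hve₂ : Wm.vec e₂ = peE π (Wm.vec e) := by
    funext i
    simp [e₂, Wm.vec_mul]
  have hz : ∀ i, z i ∈ blkS o₁ o₂ ∧ ext (Wm.vec (z i)) p = ext (Wm.vec (z i)) q ∧
      ∃ c, c * D.t * c⁻¹ = D.φ (z i) := by
    rintro (⟨k, hk⟩ | j)
    · obtain ⟨hkq, hk'⟩ := mem_erase.1 hk
      obtain ⟨hkp, hkr⟩ := mem_erase.1 hk'
      obtain ⟨hk1, hk2⟩ := mem_restPts.1 hkr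
      refine ⟨bs_mem_blkS ?_, ?_, D.s (swap none k), ?_⟩
      · cases k with
        | none => rfl
        | some i =>
          have h1 : o₁ ≠ i := fun h => hk1 (by rw [h])
          have h2 : o₂ ≠ i := fun h => hk2 (by rw [h])
          simp [op, ev_apply, h1, h2]
      · show ext (Wm.vec (Wm.bs (op k))) p = ext (Wm.vec (Wm.bs (op k))) q
        rw [Wm.vec_bs, ext_op D.even_card]
        simp [Ne.symm hkp, Ne.symm hkq]
      · show D.s (swap none k) * D.b (op none) * (D.s (swap none k))⁻¹ = D.b (op k)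
        rw [D.s_conj_b, peE_op D.even_card, swap_apply_left]
    · fin_cases j
      · exact ⟨H.mem, hpe.trans hqe.symm, g⁻¹, by rw [inv_inv]; exact hte⟩
      · refine ⟨show e₁ ∈ _ from he₁ ▸ mul_mem H.mem (bs_pairVec_mem ho), ?_, D.φ (Wm.bs (ev o₁)) * g⁻¹, ?_⟩
        · show ext (Wm.vec e₁) p = ext (Wm.vec e₁) q
          rw [hvee₁, ext_add, Pi.add_apply, Pi.add_apply, ext_pairVec ho hp', ext_pairVec ho hq', hpe, hqe]
        · show D.φ (Wm.bs (ev o₁)) * g⁻¹ * D.t * (D.φ (Wm.bs (ev o₁)) * g⁻¹)⁻¹ = D.φ e₁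
          rw [map_mul, map_mul, map_inv, ← hte]; group
      · refine ⟨mul_mem (bs_mem_blkS (peE_fix (hfixpt o₁ (Or.inl rfl)) (hfixpt o₂ (Or.inr rfl))
          (blkS_cases H.mem).1)) pm_swap_mem_blkS, ?_, D.s π * g⁻¹, ?_⟩
        · show ext (Wm.vec e₂) p = ext (Wm.vec e₂) q
          rw [hve₂, ext_peE]
          show ext (Wm.vec e) (π⁻¹ p) = ext (Wm.vec e) (π⁻¹ q)
          rw [hπp, hπq, hr₁e, hr₂e]
        · show D.s π * g⁻¹ * D.t * (D.s π * g⁻¹)⁻¹ = D.φ e₂
          rw [← he₂, ← hte]; group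
  choose K hKmem hKeq using fun i => hop (z i) (hz i).1 (hz i).2.1 (hz i).2.2
  have hKinj : Function.Injective K := by
    intro i j hij
    have e1 : g * D.φ (z i) * g⁻¹ = g * D.φ (z j) * g⁻¹ := by rw [hKeq, hKeq, hij]
    have e2 : z i = z j := D.inj (mul_left_cancel (mul_right_cancel e1))
    have hprm : ∀ j, Wm.prm (z (Sum.inr j)) = swap o₁ o₂ := fun j => by
      fin_cases j
      · exact hpe0
      · show Wm.prm e₁ = _
        rw [he₁, Wm.prm_mul, Wm.prm_bs, mul_one, hpe0]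
      · show Wm.prm e₂ = _
        simp [e₂]
    rcases i with ⟨k, hk⟩ | i <;> rcases j with ⟨l, hl⟩ | j
    · exact congrArg Sum.inl (Subtype.ext (op_injective D.even_card (Wm.bs_injective e2)))
    · exact absurd ((congrArg Wm.prm e2).trans (hprm j)).symm (swap_ne_one ho)
    · exact absurd ((hprm i).symm.trans (congrArg Wm.prm e2)) (swap_ne_one ho)
    · have hv := congrArg Wm.vec e2
      have hsep : ∀ {u v : Wm Ω}, u = v → Wm.vec u o₁ = Wm.vec v o₁ ∧ ext (Wm.vec u) p = ext (Wm.vec v) p :=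
        fun h => by subst h; exact ⟨rfl, rfl⟩
      have h12 : ext (Wm.vec e₂) p = 0 := by
        rw [hve₂, ext_peE]
        show ext (Wm.vec e) (π⁻¹ p) = 0
        rw [hπp, hr₁e]
      have h11 : ext (Wm.vec e₁) p = 1 := by
        rw [hvee₁, ext_add, Pi.add_apply, ext_pairVec ho hp', hpe, add_zero]
      have h01 : Wm.vec e o₁ ≠ Wm.vec e₁ o₁ := by
        rw [hvee₁, Pi.add_apply, pairVec_left ho]
        simp
      fin_cases i <;> fin_cases j
      · rfl
      · exact absurd (hsep e2).1 h01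
      · exact absurd ((hpe.symm.trans (hsep e2).2).trans h12) one_ne_zero
      · exact absurd (hsep e2).1.symm h01
      · rfl
      · exact absurd ((h11.symm.trans (hsep e2).2).trans h12) one_ne_zero
      · exact absurd ((hpe.symm.trans (hsep e2).2.symm).trans h12) one_ne_zero
      · exact absurd ((h11.symm.trans (hsep e2).2.symm).trans h12) one_ne_zero
      · rfl
  have hle := card_le_card_of_injOn (s := univ) (t := restPts o₁ o₂) K (fun i _ => hKmem i) hKinj.injOn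
  rw [card_univ, Fintype.card_sum, Fintype.card_coe, Fintype.card_fin,
    card_erase_of_mem (mem_erase.2 ⟨hpq.symm, hq'⟩), card_erase_of_mem hp'] at hle
  have := card_restPts ho
  have : 2 ≤ (restPts o₁ o₂).card := by
    have h := card_le_card (show ({p, q} : Finset (Option Ω)) ⊆ restPts o₁ o₂ by simp [insert_subset_iff, hp', hq'])
    rwa [card_pair hpq] at h
  omega

/-- the image of `blkS o₁ o₂` is a block subgroup -/
theorem exists_blk_image (ho : o₁ ≠ o₂) {g : G} (hg : ∀ x ∈ blkS o₁ o₂, ∃ a, g * D.φ x * g⁻¹ = D.φ a) :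
    ∃ (μ : Perm Ω) (hμ : μ * μ = 1) (e : Wm Ω), Carry D o₁ o₂ g μ hμ e := by
  classical
  choose f hf using hg
  let F : blkS o₁ o₂ →* Wm Ω := MonoidHom.mk' (fun x => f x x.2) fun x y => D.inj (by
    rw [map_mul, ← hf, ← hf, ← hf]
    push_cast
    rw [map_mul]
    group)
  have hFinj : Function.Injective F := fun x y e => by
    have h1 := hf x x.2
    rw [show f x x.2 = f y y.2 from e, ← hf y y.2] at h1
    exact Subtype.ext (D.inj (mul_left_cancel (mul_right_cancel h1)))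
  obtain ⟨μ, hμ, hF⟩ := exists_eq_blk F.range
    (by rintro _ ⟨x, rfl⟩ _ ⟨y, rfl⟩; rw [← map_mul, ← map_mul, show x * y = y * x from
      Subtype.ext (Wm.blk_comm _ x.2 y.2)])
    (by rintro _ ⟨x, rfl⟩; rw [← map_mul, show x * x = 1 from Subtype.ext (Wm.blk_sq _ x.2), map_one])
    (by rw [← Nat.card_congr (F.ofInjective hFinj).toEquiv, Wm.card_blk_swap ho, Nat.card_eq_fintype_card])
  have hsur : ∀ a ∈ Wm.blk μ hμ, ∃ x ∈ blkS o₁ o₂, g * D.φ x * g⁻¹ = D.φ a := fun a ha => by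
    rw [← hF] at ha
    obtain ⟨x, rfl⟩ := ha
    exact ⟨x, x.2, hf _ _⟩
  obtain ⟨e, he, hge⟩ := hsur _ (Wm.tm_mem_blk hμ)
  exact ⟨μ, hμ, e, ⟨fun x hx => ⟨f x hx, by rw [← hF]; exact ⟨⟨x, hx⟩, rfl⟩, hf x hx⟩, hsur, he, hge⟩⟩

/-- a permutation acting on the outside points fixing the single point of the zero class -/
theorem stab_centre (ho : o₁ ≠ o₂) (h4 : Fintype.card Ω = 4) (hbase : ∀ n, D.Norm1 o₁ o₂ n →
      ∀ y, n * D.t * n⁻¹ = D.φ y → Wm.prm y = 1)
    (he : e ∈ blkS o₁ o₂) (hpe : Wm.prm e = swap o₁ o₂) (h0 : (cls o₁ o₂ e 0).card = 1)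
    {n : G} (hn : D.Norm1 o₁ o₂ n) (hne : n * D.φ e * n⁻¹ = D.φ e)
    {x y : Wm Ω} (hx : x ∈ blkS o₁ o₂) (hxy : n * D.φ x * n⁻¹ = D.φ y) :
    y = x ∨ y = x * Wm.bs (vT (cls o₁ o₂ e 1)) := by
  classical
  obtain ⟨y₁, hy₁, hny₁⟩ := hn _ (Wm.tm_mem_blk _)
  have hy₁b := Wm.eq_bs_of_mem (Wm.mem_baseG.2 (hbase n hn y₁ hny₁))
  obtain ⟨k, hk⟩ := D.exists_op_of_conj (g := n) (w := Wm.vec y₁) (hny₁.trans (congrArg D.φ hy₁b))
  have hkr : k ∈ restPts o₁ o₂ := by
    refine mem_restPts.2 ?_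
    have hv := (blkS_cases hy₁).1
    rw [hk] at hv
    constructor <;> rintro rfl <;> simp [op, ev_apply, ho, ho.symm] at hv
  obtain ⟨hk1, hk2⟩ := mem_restPts.1 hkr
  let τ : Perm (Option Ω) := swap none k
  have hτ1 : τ (some o₁) = some o₁ := swap_apply_of_ne_of_ne (Option.some_ne_none _) (Ne.symm hk1)
  have hτ2 : τ (some o₂) = some o₂ := swap_apply_of_ne_of_ne (Option.some_ne_none _) (Ne.symm hk2)
  have hn't : D.s τ * n * D.t = D.t * (D.s τ * n) := by
    refine mul_inv_eq_iff_eq_mul.1 ?_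
    rw [show D.s τ * n * D.t * (D.s τ * n)⁻¹ = D.s τ * (n * D.t * n⁻¹) * (D.s τ)⁻¹ by group, Data.t, hny₁, hy₁b, hk]
    show D.s τ * D.b (op k) * (D.s τ)⁻¹ = D.b (op none)
    rw [D.s_conj_b, peE_op D.even_card, show τ k = none from swap_apply_right _ _]
  obtain ⟨r, hr⟩ : ∃ r, r = D.ρ ⟨D.s τ * n, Subgroup.mem_centralizer_singleton_iff.2 hn't⟩ := ⟨_, rfl⟩
  have hact : ∀ x ∈ blkS o₁ o₂, r * x * r⁻¹ ∈ blkS o₁ o₂ ∧
      n * D.φ x * n⁻¹ = D.s τ * D.φ (r * x * r⁻¹) * (D.s τ)⁻¹ := by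
    intro x hx
    obtain ⟨z, hz, hzx⟩ := D.norm1_mul (D.norm1_s hτ1 hτ2) hn x hx
    have h := congrArg D.ρ (show (⟨D.s τ * n, Subgroup.mem_centralizer_singleton_iff.2 hn't⟩ *
      ⟨D.φ x, D.toData.phi_mem x⟩ * ⟨D.s τ * n, Subgroup.mem_centralizer_singleton_iff.2 hn't⟩⁻¹ :
        Subgroup.centralizer ({D.φ (Wm.tm Ω)} : Set G)) = ⟨D.φ z, D.toData.phi_mem z⟩ from Subtype.ext hzx)
    rw [map_mul, map_mul, map_inv, D.toData.retr', D.toData.retr', ← hr] at h
    refine ⟨h ▸ hz, ?_⟩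
    have hττ : D.s τ * D.s τ = 1 := by rw [← map_mul, swap_mul_self, map_one]
    rw [h, ← hzx, inv_eq_of_mul_eq_one_right hττ]
    calc n * D.φ x * n⁻¹ = (D.s τ)⁻¹ * (D.s τ * n * D.φ x * (D.s τ * n)⁻¹) * D.s τ := by group
      _ = _ := by rw [inv_eq_of_mul_eq_one_right hττ]
  have hπ := prm_comm_of_normal ho fun x hx => (hact x hx).1
  let π' : Perm (Option Ω) := τ * optionCongr (Wm.prm r)
  have hbs : ∀ v : Vec Ω, v o₁ = v o₂ → n * D.b v * n⁻¹ = D.b (peE π' v) := fun v hv => by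
    have h := (hact _ (bs_mem_blkS hv)).2
    rw [Wm.conj_bs] at h
    rw [show n * D.b v * n⁻¹ = _ from h, map_mul, Perm.mul_apply, peE_optionCongr]
    exact D.s_conj τ _
  -- the image of the block transposition
  obtain ⟨hσmem, hσeq⟩ := hact _ (pm_swap_mem_blkS (o₁ := o₁) (o₂ := o₂))
  set d := Wm.vec (r * Wm.pm (swap o₁ o₂) * r⁻¹) with hd
  have hdσ : r * Wm.pm (swap o₁ o₂) * r⁻¹ = Wm.bs d * Wm.pm (swap o₁ o₂) := by
    rw [hd]
    conv_lhs => rw [Wm.eq_bs_mul_pm (r * Wm.pm (swap o₁ o₂) * r⁻¹)]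
    rw [Wm.prm_mul, Wm.prm_mul, Wm.prm_inv, Wm.prm_pm, hπ, mul_inv_cancel_right]
  have hd0 : ∀ i, i ≠ o₁ → i ≠ o₂ → d i = 0 := fun i h1 h2 => by
    have hc : Wm.prm r * swap o₁ o₂ * (Wm.prm r)⁻¹ = swap o₁ o₂ := by rw [hπ, mul_inv_cancel_right]
    rw [hd, Wm.vec_mul, Wm.vec_mul, Wm.vec_pm, Wm.vec_inv, Pi.zero_apply, add_zero, Wm.prm_mul, Wm.prm_pm]
    have h3 := DFunLike.congr_fun hc i
    rw [swap_apply_of_ne_of_ne h1 h2, Perm.mul_apply, Perm.mul_apply] at h3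
    have h5 : swap o₁ o₂ ((Wm.prm r)⁻¹ i) = (Wm.prm r)⁻¹ i := (Wm.prm r).injective (h3.trans (apply_inv _ i).symm)
    rw [show Wm.prm r ((Wm.prm r * swap o₁ o₂)⁻¹ i) = i by
      rw [mul_inv_rev, Perm.inv_def (swap o₁ o₂), symm_swap, Perm.mul_apply, h5, apply_inv]]
    exact z2_add_self _
  have hdpair : d = d o₁ • pairVec o₁ o₂ := by
    funext i
    rw [Pi.smul_apply, smul_eq_mul]
    rcases eq_or_ne i o₁ with rfl | h1
    · rw [pairVec_left ho, mul_one]
    rcases eq_or_ne i o₂ with rfl | h2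
    · rw [pairVec_right ho, mul_one]
      exact (blkS_cases hσmem).1.symm
    · rw [hd0 i h1 h2, pairVec_of_ne h1 h2, mul_zero]
  have hτu : peE τ (pairVec o₁ o₂) = pairVec o₁ o₂ := by
    rcases eq_or_ne (none : Option Ω) k with hk0 | hk0
    · show peE (swap none k) _ = _
      rw [← hk0, swap_self]; rfl
    · show peE (swap none k) _ = _
      rw [peE_swap_eq none k hk0, ext_pairVec ho hkr, ext_pairVec ho (mem_restPts.2 ⟨by simp, by simp⟩), add_zero,
        zero_smul, add_zero]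
  have hσ : n * D.φ (Wm.pm (swap o₁ o₂)) * n⁻¹ = D.φ (Wm.bs d * Wm.pm (swap o₁ o₂)) := by
    rw [hσeq, hdσ, map_mul]
    calc D.s τ * (D.φ (Wm.bs d) * D.φ (Wm.pm (swap o₁ o₂))) * (D.s τ)⁻¹
        = D.s τ * D.φ (Wm.bs d) * (D.s τ)⁻¹ * (D.s τ * D.φ (Wm.pm (swap o₁ o₂)) * (D.s τ)⁻¹) := by group
      _ = D.φ (Wm.bs (peE τ d)) * D.φ (Wm.pm (swap o₁ o₂)) := by
        rw [D.s_fix_swap hτ1 hτ2, mul_inv_cancel_right, D.s_conj]
      _ = _ := by
        congr 3
        rcases z2_cases (d o₁) with h | h <;> rw [hdpair, h]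
        · rw [zero_smul]
          funext i
          rw [peE_apply]
          cases τ⁻¹ (some i) <;> simp [ext]
        · rw [one_smul, hτu]
  -- the stabilizer of `e`
  have hpair : ∀ o, o = o₁ ∨ o = o₂ → π'⁻¹ (some o) = some o₁ ∨ π'⁻¹ (some o) = some o₂ := fun o ho' => by
    have hτo : τ (some o) = some o := by rcases ho' with rfl | rfl <;> assumption
    have hπi : (Wm.prm r)⁻¹ * swap o₁ o₂ = swap o₁ o₂ * (Wm.prm r)⁻¹ := by
      rw [inv_mul_eq_iff_eq_mul, ← mul_assoc, hπ, mul_inv_cancel_right]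
    rw [mul_inv_rev, Perm.mul_apply, Perm.inv_eq_iff_eq.2 hτo.symm]
    rcases apply_mem_pair ho hπi ho' with h | h
    · exact Or.inl (congrArg some h)
    · exact Or.inr (congrArg some h)
  have hpval : ∀ {v : Vec Ω}, v o₁ = v o₂ → ∀ o, o = o₁ ∨ o = o₂ → peE π' v o = v o₁ := by
    intro v hv o ho'
    rw [peE_apply]
    rcases hpair o ho' with h | h <;> rw [h]
    · rfl
    · exact hv.symm
  have hev := (blkS_cases he).1
  have hee : e = Wm.bs (Wm.vec e) * Wm.pm (swap o₁ o₂) := by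
    conv_lhs => rw [Wm.eq_bs_mul_pm e, hpe]
  have himg : ∀ v : Vec Ω, v o₁ = v o₂ → n * D.φ (Wm.bs v * Wm.pm (swap o₁ o₂)) * n⁻¹ =
      D.φ (Wm.bs (peE π' v + d) * Wm.pm (swap o₁ o₂)) := fun v hv => by
    rw [map_mul, show n * (D.φ (Wm.bs v) * D.φ (Wm.pm (swap o₁ o₂))) * n⁻¹ =
      n * D.φ (Wm.bs v) * n⁻¹ * (n * D.φ (Wm.pm (swap o₁ o₂)) * n⁻¹) by group, hσ]
    rw [show n * D.φ (Wm.bs v) * n⁻¹ = D.φ (Wm.bs (peE π' v)) from hbs v hv, ← map_mul, ← mul_assoc, ← Wm.bs_add]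
  have heq : peE π' (Wm.vec e) + d = Wm.vec e := by
    have h := hne
    conv_lhs at h => rw [hee, himg _ hev]
    conv_rhs at h => rw [hee]
    exact Wm.bs_injective (mul_right_cancel (D.inj h))
  have hd1 : d = 0 := by
    have h := congrFun heq o₁
    rw [Pi.add_apply, hpval hev o₁ (Or.inl rfl), add_eq_left] at h
    rw [hdpair, h, zero_smul]
  rw [hd1, add_zero] at heq
  have hinv : ∀ l, ext (Wm.vec e) (π'⁻¹ l) = ext (Wm.vec e) l := fun l => by
    have h := congrFun (ext_peE π' (Wm.vec e)) l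
    rw [heq] at h
    exact h.symm
  obtain ⟨p, hp⟩ := card_eq_one.1 h0
  have h1 : (cls o₁ o₂ e 1).card = 2 := by have := card_cls (e := e) ho; omega
  obtain ⟨q, q', hqq, hcls1⟩ := card_eq_two.1 h1
  have hmem : ∀ l, l ∈ restPts o₁ o₂ → l = p ∨ l = q ∨ l = q' := fun l hl => by
    rcases z2_cases (ext (Wm.vec e) l) with h | h
    · left
      have : l ∈ cls o₁ o₂ e 0 := mem_filter.2 ⟨hl, h⟩
      rw [hp] at this
      exact mem_singleton.1 this
    · right
      have : l ∈ cls o₁ o₂ e 1 := mem_filter.2 ⟨hl, h⟩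
      rw [hcls1, mem_insert, mem_singleton] at this
      exact this
  have hrest : ∀ l, l ∈ restPts o₁ o₂ → π'⁻¹ l ∈ restPts o₁ o₂ := by
    intro l hl
    obtain ⟨hl1, hl2⟩ := mem_restPts.1 hl
    refine mem_restPts.2 ⟨fun h => ?_, fun h => ?_⟩ <;>
    · rcases hpair o₁ (Or.inl rfl) with h1 | h1 <;> rcases hpair o₂ (Or.inr rfl) with h2 | h2
      · exact ho (Option.some_injective _ (π'⁻¹.injective (h1.trans h2.symm)))
      · first
          | exact hl1 (π'⁻¹.injective (h.trans h1.symm))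
          | exact hl2 (π'⁻¹.injective (h.trans h2.symm))
      · first
          | exact hl2 (π'⁻¹.injective (h.trans h2.symm))
          | exact hl1 (π'⁻¹.injective (h.trans h1.symm))
      · exact ho (Option.some_injective _ (π'⁻¹.injective (h1.trans h2.symm)))
  have hp0 : p ∈ cls o₁ o₂ e 0 := by rw [hp]; exact mem_singleton_self p
  have hq1 : ∀ l, l = q ∨ l = q' → l ∈ cls o₁ o₂ e 1 := fun l hl => by rw [hcls1]; simpa using hl
  have hπp : π'⁻¹ p = p := by
    have h : π'⁻¹ p ∈ cls o₁ o₂ e 0 := mem_filter.2 ⟨hrest p (mem_filter.1 hp0).1, by rw [hinv]; exact (mem_filter.1 hp0).2⟩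
    rw [hp] at h
    exact mem_singleton.1 h
  have hπq : ∀ l, l = q ∨ l = q' → π'⁻¹ l = q ∨ π'⁻¹ l = q' := fun l hl => by
    have h : π'⁻¹ l ∈ cls o₁ o₂ e 1 := mem_filter.2
      ⟨hrest l (mem_filter.1 (hq1 l hl)).1, by rw [hinv]; exact (mem_filter.1 (hq1 l hl)).2⟩
    rw [hcls1] at h
    simpa using h
  have hvswap : ∀ v : Vec Ω, v o₁ = v o₂ → peE π' v = v ∨ peE π' v = v + vT (cls o₁ o₂ e 1) := by
    intro v hv
    have hout : ∀ l, l ∉ restPts o₁ o₂ → ext (peE π' v) l = ext v l := fun l hl => by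
      obtain ⟨o, rfl, ho'⟩ : ∃ o, l = some o ∧ (o = o₁ ∨ o = o₂) := by
        simp only [restPts, mem_filter, mem_univ, true_and, not_and_or, not_not] at hl
        rcases hl with h | h
        exacts [⟨o₁, h, Or.inl rfl⟩, ⟨o₂, h, Or.inr rfl⟩]
      show peE π' v o = v o
      rw [hpval hv o ho']
      rcases ho' with rfl | rfl
      exacts [rfl, hv]
    rcases hπq q (Or.inl rfl) with h | h
    · left
      refine ext_injective (funext fun l => ?_)
      by_cases hl : l ∈ restPts o₁ o₂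
      · rw [ext_peE]
        show ext v (π'⁻¹ l) = ext v l
        rcases hmem l hl with rfl | rfl | rfl
        · rw [hπp]
        · rw [h]
        · rcases hπq l (Or.inr rfl) with h' | h'
          · exact absurd (π'⁻¹.injective (h'.trans h.symm)) hqq.symm
          · rw [h']
      · exact hout l hl
    · have key : peE π' v = peE (swap q q') v := by
        refine ext_injective (funext fun l => ?_)
        by_cases hl : l ∈ restPts o₁ o₂
        · rw [ext_peE, ext_peE, Perm.inv_def (swap q q'), symm_swap]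
          show ext v (π'⁻¹ l) = ext v (swap q q' l)
          rcases hmem l hl with rfl | rfl | rfl
          · have : ∀ m, m = q ∨ m = q' → l ≠ m := fun m hm e' => by
              subst e'
              exact one_ne_zero ((mem_filter.1 (hq1 l hm)).2.symm.trans (mem_filter.1 hp0).2)
            rw [hπp, swap_apply_of_ne_of_ne (this q (Or.inl rfl)) (this q' (Or.inr rfl))]
          · rw [h, swap_apply_left]
          · rw [swap_apply_right]
            rcases hπq l (Or.inr rfl) with h' | h'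
            · rw [h']
            · exact absurd (π'⁻¹.injective (h'.trans h.symm)) hqq.symm
        · rw [hout l hl, ext_peE, Perm.inv_def (swap q q'), symm_swap]
          show ext v l = ext v (swap q q' l)
          rw [swap_apply_of_ne_of_ne (fun e' => hl (by rw [e']; exact (mem_filter.1 (hq1 q (Or.inl rfl))).1))
            (fun e' => hl (by rw [e']; exact (mem_filter.1 (hq1 q' (Or.inr rfl))).1))]
      rw [key, peE_swap_eq q q' hqq, ← hcls1]
      rcases z2_cases (ext v q + ext v q') with h'' | h'' <;> rw [h'']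
      · left; rw [zero_smul, add_zero]
      · right; rw [one_smul]
  have hcm : Wm.bs (vT (cls o₁ o₂ e 1)) ∈ blkS o₁ o₂ := bs_mem_blkS (vT_eq_of_subset (filter_subset _ _))
  have hxv := (blkS_cases hx).1
  rcases (blkS_cases hx).2 with hx' | hx'
  · have h : y = Wm.bs (peE π' (Wm.vec x)) := D.inj (by
      rw [← hxy]; conv_lhs => rw [hx']
      exact hbs _ hxv)
    rcases hvswap _ hxv with h' | h' <;> rw [h'] at h
    · exact Or.inl (by rw [h, ← hx'])
    · refine Or.inr ?_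
      rw [h, Wm.bs_add, ← hx']
  · have h : y = Wm.bs (peE π' (Wm.vec x)) * Wm.pm (swap o₁ o₂) := D.inj (by
      rw [← hxy]; conv_lhs => rw [hx']
      rw [himg _ hxv, hd1, add_zero])
    rcases hvswap _ hxv with h' | h' <;> rw [h'] at h
    · exact Or.inl (by rw [h, ← hx'])
    · refine Or.inr ?_
      rw [h, Wm.bs_add, mul_assoc, Wm.blk_comm _ hcm pm_swap_mem_blkS, ← mul_assoc, ← hx']

/-- **`t` leaves `E` inside the automorphisms of one block** -/
theorem exists_outside (ho : o₁ ≠ o₂) (h4 : 4 ≤ Fintype.card Ω) :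
    ∃ (h : G) (e : Wm Ω), Carry D o₁ o₂ h (swap o₁ o₂) (swap_mul_self _ _) e ∧ Wm.prm e = swap o₁ o₂ := by
  classical
  obtain ⟨g, v, hgσ, hg⟩ := D.exists_into_base ho
  obtain ⟨μ, hμ, e, H⟩ := D.exists_blk_image ho hg
  have hpe : Wm.prm e = swap o₁ o₂ := by
    refine (prm_blkS H.mem).resolve_left fun he1 => ?_
    have hee := Wm.eq_bs_of_mem (Wm.mem_baseG.2 he1)
    obtain ⟨k, hk⟩ := D.exists_op_of_conj (g := g⁻¹) (w := Wm.vec e) (by
      rw [Data.b, ← hee, ← H.map]; group)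
    have hv := (blkS_cases H.mem).1
    rw [hk] at hv
    have hk1 : k ≠ some o₁ := by rintro rfl; simp [op, ev_apply, ho.symm] at hv
    have hk2 : k ≠ some o₂ := by rintro rfl; simp [op, ev_apply, ho] at hv
    let τ : Perm (Option Ω) := swap none k
    have hτ1 : τ (some o₁) = some o₁ := swap_apply_of_ne_of_ne (Option.some_ne_none _) hk1.symm
    have hτ2 : τ (some o₂) = some o₂ := swap_apply_of_ne_of_ne (Option.some_ne_none _) hk2.symm
    have hct : g * D.s τ * D.t = D.t * (g * D.s τ) := by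
      refine mul_inv_eq_iff_eq_mul.1 ?_
      rw [show g * D.s τ * D.t * (g * D.s τ)⁻¹ = g * (D.s τ * D.b (op none) * (D.s τ)⁻¹) * g⁻¹ by
        show g * D.s τ * D.b (op none) * _ = _; group, D.s_conj_b, peE_op D.even_card,
        show τ none = k from swap_apply_left _ _, ← hk]
      show g * D.φ (Wm.bs (Wm.vec e)) * g⁻¹ = D.t
      rw [← hee, H.map]
    have hconj : g * D.s τ * D.φ (Wm.pm (swap o₁ o₂)) * (g * D.s τ)⁻¹ = D.b v := by
      rw [show g * D.s τ * D.φ (Wm.pm (swap o₁ o₂)) * (g * D.s τ)⁻¹ =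
        g * (D.s τ * D.φ (Wm.pm (swap o₁ o₂)) * (D.s τ)⁻¹) * g⁻¹ by group, D.s_fix_swap hτ1 hτ2,
        mul_inv_cancel_right, hgσ]
    have h := congrArg (fun z => Wm.prm (D.ρ z)) (show (⟨g * D.s τ, Subgroup.mem_centralizer_singleton_iff.2 hct⟩ *
      ⟨D.φ (Wm.pm (swap o₁ o₂)), D.toData.phi_mem _⟩ * ⟨g * D.s τ, Subgroup.mem_centralizer_singleton_iff.2 hct⟩⁻¹ :
        Subgroup.centralizer ({D.φ (Wm.tm Ω)} : Set G)) = ⟨D.φ (Wm.bs v), D.toData.phi_mem _⟩ from Subtype.ext hconj)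
    simp only [map_mul, map_inv, D.toData.retr', Wm.prm_mul, Wm.prm_inv, Wm.prm_pm, Wm.prm_bs] at h
    exact swap_ne_one ho (conj_eq_one_iff.1 h)
  have hμ1 : μ ≠ 1 := by
    rintro rfl
    have hinto : D.Into g⁻¹ := fun w => by
      obtain ⟨x, -, hx⟩ := H.onto (Wm.bs w) (by rw [Wm.bs_mem_blk]; exact fun i => rfl)
      exact ⟨x, by rw [Data.b, ← hx]; group⟩
    obtain ⟨w, hw⟩ := D.toData.norm_of_into hinto v
    have h : D.φ (Wm.pm (swap o₁ o₂)) = D.φ (Wm.bs w) := by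
      rw [← show g⁻¹ * D.b v * g⁻¹⁻¹ = D.φ (Wm.bs w) from hw, ← hgσ]; group
    exact swap_ne_one ho (congrArg Wm.prm (D.inj h))
  by_cases hs2 : μ.support.card = 2
  · obtain ⟨a, b, hab, rfl⟩ := Perm.card_support_eq_two.1 hs2
    obtain ⟨π, hπ⟩ := isConj_iff.1 ((Perm.isConj_iff_cycleType_eq).2 (by
      rw [cycleType_invol hμ, cycleType_invol (swap_mul_self o₁ o₂), Perm.card_support_swap hab,
        Perm.card_support_swap ho]) : IsConj (swap a b) (swap o₁ o₂))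
    refine ⟨D.φ (Wm.pm π) * g, e, ⟨fun x hx => ?_, fun y hy => ?_, H.mem, ?_⟩, hpe⟩
    · obtain ⟨z, hz, hgz⟩ := H.into x hx
      refine ⟨_, Wm.conj_mem_blk hμ π hπ.symm hz, ?_⟩
      rw [map_mul, map_mul, map_inv, ← hgz]; group
    · obtain ⟨x, hx, hgx⟩ := H.onto (Wm.pm π⁻¹ * y * (Wm.pm π⁻¹)⁻¹)
        (Wm.conj_mem_blk _ π⁻¹ (by rw [← hπ]; group) hy)
      refine ⟨x, hx, ?_⟩
      rw [show D.φ (Wm.pm π) * g * D.φ x * (D.φ (Wm.pm π) * g)⁻¹ =
        D.φ (Wm.pm π) * (g * D.φ x * g⁻¹) * (D.φ (Wm.pm π))⁻¹ by group, hgx, ← map_inv, ← map_mul, ← map_mul]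
      refine congrArg D.φ ?_
      rw [← Wm.pm_inv]
      group
    · rw [show D.φ (Wm.pm π) * g * D.φ e * (D.φ (Wm.pm π) * g)⁻¹ =
        D.φ (Wm.pm π) * (g * D.φ e * g⁻¹) * (D.φ (Wm.pm π))⁻¹ by group, H.map, Data.t, ← map_inv, ← map_mul,
        ← map_mul, Wm.tm_comm, mul_inv_cancel_right]
  rcases D.classes_cases H ho hμ1 h4 with ⟨-, -, h⟩ | ⟨h0, h6⟩
  · exact absurd h hs2
  have hN : Fintype.card Ω = 4 := by
    have hev := D.even_card
    rw [Nat.even_iff] at hev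
    by_contra hne
    exact hs2 (h6 (by omega))
  by_contra hout
  have hbase : ∀ n, D.Norm1 o₁ o₂ n → ∀ y, n * D.t * n⁻¹ = D.φ y → Wm.prm y = 1 := by
    intro n hn y hy
    obtain ⟨y', hy', hny'⟩ := hn _ (Wm.tm_mem_blk _)
    obtain rfl : y' = y := D.inj (hny'.symm.trans hy)
    refine (prm_blkS hy').resolve_right fun hs => hout ⟨n⁻¹, y', ⟨fun x hx => ?_, fun a ha => ?_, hy', ?_⟩, hs⟩
    · exact D.norm1_inv hn x hx
    · obtain ⟨x, hx, hnx⟩ := hn a ha
      exact ⟨x, hx, by rw [← hnx]; group⟩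
    · rw [← hny']; show n⁻¹ * (n * D.φ (Wm.tm Ω) * n⁻¹) * n⁻¹⁻¹ = D.φ (Wm.tm Ω); group
  have hsupp : μ.support.card = 4 := by
    have h1 := support_card_invol hμ
    have h2 := two_le_support hμ1
    have h3 : μ.support.card ≤ 4 := hN ▸ card_le_univ _
    omega
  have hμμ : ∀ i, μ (μ i) = i := fun i => by rw [← Perm.mul_apply, hμ]; rfl
  have hfpf : ∀ i, μ i ≠ i := fun i h => by
    have := card_fixed_invol μ
    have : 0 < (univ.filter fun i => μ i = i).card := card_pos.2 ⟨i, by simp [h]⟩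
    omega
  have key : ∀ a, g * D.φ (Wm.bs (vT (cls o₁ o₂ e 1))) * g⁻¹ = D.φ (Wm.bs (ev a + ev (μ a))) := by
    intro a
    have hn : D.Norm1 o₁ o₂ (g⁻¹ * D.φ (Wm.bs (ev a)) * g) := fun x hx => by
      obtain ⟨z, hz, hgz⟩ := H.into x hx
      have hz' : Wm.bs (ev a) * z * (Wm.bs (ev a))⁻¹ ∈ Wm.blk μ hμ := by
        rcases conj_bs_ev hz a with h | h <;> rw [h]
        exacts [hz, mul_mem hz (bs_pair_mem hμ a)]
      obtain ⟨y, hy, hgy⟩ := H.onto _ hz'
      refine ⟨y, hy, ?_⟩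
      rw [show g⁻¹ * D.φ (Wm.bs (ev a)) * g * D.φ x * (g⁻¹ * D.φ (Wm.bs (ev a)) * g)⁻¹ =
        g⁻¹ * (D.φ (Wm.bs (ev a)) * (g * D.φ x * g⁻¹) * (D.φ (Wm.bs (ev a)))⁻¹) * g by group, hgz, ← map_inv,
        ← map_mul, ← map_mul, ← hgy]
      group
    have hne : g⁻¹ * D.φ (Wm.bs (ev a)) * g * D.φ e * (g⁻¹ * D.φ (Wm.bs (ev a)) * g)⁻¹ = D.φ e := by
      rw [show g⁻¹ * D.φ (Wm.bs (ev a)) * g * D.φ e * (g⁻¹ * D.φ (Wm.bs (ev a)) * g)⁻¹ =
        g⁻¹ * (D.φ (Wm.bs (ev a)) * (g * D.φ e * g⁻¹) * (D.φ (Wm.bs (ev a)))⁻¹) * g by group, H.map, Data.t,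
        ← map_inv, ← map_mul, ← map_mul, Wm.tm_comm, mul_inv_cancel_right,
        show D.φ (Wm.tm Ω) = g * D.φ e * g⁻¹ from H.map.symm]
      group
    have hp : Wm.pm (swap a (μ a)) ∈ Wm.blk μ hμ := by
      refine ⟨fun j => ?_, fun _ => rfl⟩
      rw [Wm.prm_pm]
      rcases eq_or_ne j a with rfl | hja
      · exact Or.inr (swap_apply_left _ _)
      rcases eq_or_ne j (μ a) with rfl | hjm
      · exact Or.inr (by rw [swap_apply_right, hμμ])
      · exact Or.inl (swap_apply_of_ne_of_ne hja hjm)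
    obtain ⟨x, hx, hgx⟩ := H.onto _ hp
    have hmoved : Wm.bs (ev a) * Wm.pm (swap a (μ a)) * (Wm.bs (ev a))⁻¹ =
        Wm.pm (swap a (μ a)) * Wm.bs (ev a + ev (μ a)) := by
      refine (conj_bs_ev hp a).resolve_left fun h => ?_
      have h1 := congrFun (congrArg Wm.vec h) a
      simp [Wm.vec_mul, Wm.vec_inv, ev_apply, hfpf a] at h1
    obtain ⟨c, hc, hgc⟩ := H.onto _ (bs_pair_mem hμ a)
    have hy : g⁻¹ * D.φ (Wm.bs (ev a)) * g * D.φ x * (g⁻¹ * D.φ (Wm.bs (ev a)) * g)⁻¹ = D.φ (x * c) := by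
      rw [show g⁻¹ * D.φ (Wm.bs (ev a)) * g * D.φ x * (g⁻¹ * D.φ (Wm.bs (ev a)) * g)⁻¹ =
        g⁻¹ * (D.φ (Wm.bs (ev a)) * (g * D.φ x * g⁻¹) * (D.φ (Wm.bs (ev a)))⁻¹) * g by group, hgx, ← map_inv,
        ← map_mul, ← map_mul, hmoved, map_mul, map_mul, ← hgx, ← hgc]
      group
    have hc' : c = Wm.bs (vT (cls o₁ o₂ e 1)) := by
      rcases D.stab_centre ho hN hbase H.mem hpe h0 hn hne hx hy with h | h
      · exfalso
        rw [mul_eq_left] at h
        subst h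
        rw [map_one, mul_one, mul_inv_cancel, ← D.toData.b_zero] at hgc
        have h1 := congrFun (D.toData.b_injective hgc) a
        simp [ev_apply, (hfpf a).symm] at h1
      · exact mul_left_cancel h
    rw [← hc', hgc]
  obtain ⟨a⟩ : Nonempty Ω := ⟨o₁⟩
  obtain ⟨a', -, ha'⟩ := exists_mem_notMem_of_card_lt_card (s := ({a, μ a} : Finset Ω)) (t := univ)
    (by rw [card_pair (Ne.symm (hfpf a)), card_univ, hN]; omega)
  simp only [mem_insert, mem_singleton, not_or] at ha'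
  have h := congrFun (Wm.bs_injective (D.inj ((key a).symm.trans (key a')))) a'
  simp [ev_apply, ha'.1, ha'.2, hfpf a', (hfpf a').symm] at h

/-- **the element `e0` fuses with `t` in the automorphisms of one block** -/
theorem exists_move (ho : o₁ ≠ o₂) (h4 : 4 ≤ Fintype.card Ω) :
    ∃ h, D.Norm1 o₁ o₂ h ∧ h * D.φ (e0 o₁ o₂) * h⁻¹ = D.t := by
  classical
  obtain ⟨h, e, H, hpe⟩ := D.exists_outside ho h4
  have hn : D.Norm1 o₁ o₂ h := fun x hx => H.into x hx
  rcases D.classes_cases H ho (swap_ne_one ho) h4 with ⟨h2, h3, -⟩ | ⟨h0, -⟩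
  · exact absurd (D.no_pair_class H ho h2 h3) not_false
  obtain ⟨p, hp⟩ := card_eq_one.1 h0
  have hp' : p ∈ cls o₁ o₂ e 0 := by rw [hp]; exact mem_singleton_self p
  obtain ⟨hp1, hp2⟩ := mem_restPts.1 (mem_filter.1 hp').1
  let τ : Perm (Option Ω) := swap none p
  have hτ1 : τ (some o₁) = some o₁ := swap_apply_of_ne_of_ne (Option.some_ne_none _) hp1.symm
  have hτ2 : τ (some o₂) = some o₂ := swap_apply_of_ne_of_ne (Option.some_ne_none _) hp2.symm
  have hw : peE τ (outVec o₁ o₂) + (Wm.vec e o₁) • pairVec o₁ o₂ = Wm.vec e := by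
    refine ext_injective (funext fun l => ?_)
    rw [ext_add, Pi.add_apply, ext_peE]
    show ext (outVec o₁ o₂) (τ⁻¹ l) + ext ((Wm.vec e o₁) • pairVec o₁ o₂) l = ext (Wm.vec e) l
    have hout : ext (outVec o₁ o₂) = fun m => if m = none ∨ m = some o₁ ∨ m = some o₂ then 0 else 1 := by
      funext m
      cases m with
      | none =>
        show ∑ i, outVec o₁ o₂ i = _
        rw [if_pos (Or.inl rfl), show outVec o₁ o₂ = 1 + pairVec o₁ o₂ by
          funext i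
          rcases eq_or_ne i o₁ with rfl | h1
          · simp [outVec, pairVec_left ho, z2_add_self]
          rcases eq_or_ne i o₂ with rfl | h2
          · simp [outVec, pairVec_right ho, z2_add_self]
          · simp [outVec, pairVec_of_ne h1 h2, h1, h2]]
        simp only [Pi.add_apply, sum_add_distrib]
        rw [show ∑ i, (1 : Vec Ω) i = 0 from sum_one D.even_card, zero_add]
        exact ext_pairVec ho (k := none) (mem_restPts.2 ⟨by simp, by simp⟩)
      | some i => simp [ext, outVec]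
    have hsm : ext ((Wm.vec e o₁) • pairVec o₁ o₂) l = Wm.vec e o₁ * ext (pairVec o₁ o₂) l := by
      cases l <;> simp [ext, Finset.mul_sum]
    rw [hout, hsm]
    by_cases hl : l ∈ restPts o₁ o₂
    · obtain ⟨hl1, hl2⟩ := mem_restPts.1 hl
      rw [ext_pairVec ho hl, mul_zero, add_zero, show τ⁻¹ l = τ l by simp [τ]]
      by_cases hlp : l = p
      · subst hlp
        rw [show τ l = none from swap_apply_right _ _, (mem_filter.1 hp').2]
        simp
      · have hne : ext (Wm.vec e) l = 1 := (z2_cases _).resolve_left fun h' => hlp (by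
          have : l ∈ cls o₁ o₂ e 0 := mem_filter.2 ⟨hl, h'⟩
          rw [hp] at this
          exact mem_singleton.1 this)
        rw [hne]
        show (if τ l = none ∨ τ l = some o₁ ∨ τ l = some o₂ then (0 : ZMod 2) else 1) = 1
        refine if_neg ?_
        rintro (h' | h' | h')
        · exact hlp (τ.injective (h'.trans (swap_apply_right _ _).symm))
        · exact hl1 (τ.injective (h'.trans hτ1.symm))
        · exact hl2 (τ.injective (h'.trans hτ2.symm))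
    · obtain ⟨o, rfl, ho'⟩ : ∃ o, l = some o ∧ (o = o₁ ∨ o = o₂) := by
        simp only [restPts, mem_filter, mem_univ, true_and, not_and_or, not_not] at hl
        rcases hl with h' | h'
        exacts [⟨o₁, h', Or.inl rfl⟩, ⟨o₂, h', Or.inr rfl⟩]
      have hτo : τ⁻¹ (some o) = some o :=
        Perm.inv_eq_iff_eq.2 (by rcases ho' with rfl | rfl; exacts [hτ1.symm, hτ2.symm])
      rw [hτo]
      rcases ho' with rfl | rfl
      · show _ + _ * pairVec o o₂ o = Wm.vec e o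
        rw [pairVec_left ho, mul_one]; simp
      · show _ + _ * pairVec o₁ o o = Wm.vec e o
        rw [pairVec_right ho, mul_one, ← (blkS_cases H.mem).1]; simp
  let a : Wm Ω := Wm.bs ((Wm.vec e o₁) • ev o₁)
  have ha : D.Norm1 o₁ o₂ (D.φ a) := D.norm1_phi (by simp [a])
  refine ⟨h * (D.φ a * D.s τ), D.norm1_mul hn (D.norm1_mul ha (D.norm1_s hτ1 hτ2)), ?_⟩
  have hconj : D.φ a * D.s τ * D.φ (e0 o₁ o₂) * (D.φ a * D.s τ)⁻¹ = D.φ e := by
    rw [show D.φ a * D.s τ * D.φ (e0 o₁ o₂) * (D.φ a * D.s τ)⁻¹ =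
      D.φ a * (D.s τ * D.φ (e0 o₁ o₂) * (D.s τ)⁻¹) * (D.φ a)⁻¹ by group, e0, map_mul,
      show D.s τ * (D.φ (Wm.bs (outVec o₁ o₂)) * D.φ (Wm.pm (swap o₁ o₂))) * (D.s τ)⁻¹ =
        D.s τ * D.φ (Wm.bs (outVec o₁ o₂)) * (D.s τ)⁻¹ * (D.s τ * D.φ (Wm.pm (swap o₁ o₂)) * (D.s τ)⁻¹) by group,
      D.s_fix_swap hτ1 hτ2, mul_inv_cancel_right, D.s_conj, ← map_inv, ← map_mul, ← map_mul, ← map_mul]
    refine congrArg D.φ ?_
    conv_rhs => rw [Wm.eq_bs_mul_pm e, hpe, ← hw, Wm.bs_add]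
    rcases z2_cases (Wm.vec e o₁) with h' | h'
    · simp [a, h', Wm.bs_zero]
    · rcases conj_bs_ev (x := Wm.bs (peE τ (outVec o₁ o₂)) * Wm.pm (swap o₁ o₂)) (hμ := swap_mul_self o₁ o₂)
        (mul_mem (bs_mem_blkS (peE_fix hτ1 hτ2 (by simp [outVec]))) pm_swap_mem_blkS) o₁ with hh | hh
      · exfalso
        have h1 := congrFun (congrArg Wm.vec hh) o₁
        simp [Wm.vec_mul, Wm.vec_inv, ev_apply, ho, ho.symm] at h1
      · simp only [a, h', one_smul]
        rw [hh, swap_apply_left, mul_assoc, mul_assoc]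
        exact congrArg _ (Wm.blk_comm _ pm_swap_mem_blkS (bs_pairVec_mem ho))
  rw [show h * (D.φ a * D.s τ) * D.φ (e0 o₁ o₂) * (h * (D.φ a * D.s τ))⁻¹ =
    h * (D.φ a * D.s τ * D.φ (e0 o₁ o₂) * (D.φ a * D.s τ)⁻¹) * h⁻¹ by group, hconj, H.map]

end SymData

end CfsgLib.KondoAlt
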