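import Cfsg.Agent.Lib.Invol.KondoAlt.Triality

/-!
# The classes of involutions
-/

set_option autoImplicit false
set_option linter.unusedSectionVars false
set_option linter.style.haveILetI false

namespace CfsgLib.KondoAlt

open Equiv Finset

variable {Ω : Type*} [Fintype Ω] [DecidableEq Ω] {G : Type*} [Group G] [Finite G]

namespace SymData

variable (D : SymData Ω G)

/-- one block fewer, given a triality element -/
theorem reduce_step {z τ : G} {U Sg d : G} (hd3 : d ^ 3 = 1) (hdS : d * Sg * d⁻¹ = U)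
    (hdU : d * U * d⁻¹ = U * Sg) (hUS : U * Sg = Sg * U) (hU1 : U ≠ 1) (hU2 : U * U = 1) (hS2 : Sg * Sg = 1)
    (hzU : z * U = U * z) (hzS : z * Sg = Sg * z)
    {c : G} (hc : c = 1 ∨ c = U ∨ c = Sg ∨ c = U * Sg) (hzd : z * d * z⁻¹ = c * d)
    {a : G} (haz : a * z * a⁻¹ = z) (haτ : a * τ * a⁻¹ = τ * U) (hτ : τ = Sg ∨ τ = U * Sg) :
    ∃ g, g * (τ * z) * g⁻¹ = z ∨ g * (τ * z) * g⁻¹ = U * z := by
  have hdS' : d * (U * Sg) * d⁻¹ = Sg := by
    rw [show d * (U * Sg) * d⁻¹ = d * U * d⁻¹ * (d * Sg * d⁻¹) by group, hdU, hdS, hUS, mul_assoc, hU2, mul_one]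
  -- the element of `V` that makes `z` centralize `d`
  obtain ⟨w, hw, hwc⟩ : ∃ w, (w = 1 ∨ w = U ∨ w = Sg ∨ w = U * Sg) ∧ w * (d * w * d⁻¹) * c = 1 := by
    rcases hc with h | h | h | h <;> rw [h]
    · exact ⟨1, Or.inl rfl, by group⟩
    · refine ⟨U * Sg, Or.inr (Or.inr (Or.inr rfl)), ?_⟩
      rw [hdS', mul_assoc U Sg Sg, hS2, mul_one, hU2]
    · refine ⟨U, Or.inr (Or.inl rfl), ?_⟩
      rw [hdU, ← mul_assoc, hU2, one_mul, hS2]
    · refine ⟨Sg, Or.inr (Or.inr (Or.inl rfl)), ?_⟩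
      rw [hdS, ← hUS, ← mul_assoc, mul_assoc U Sg U, ← hUS, ← mul_assoc, hU2, one_mul, hS2]
  have hww : w * w = 1 := by
    rcases hw with h | h | h | h <;> rw [h]
    · exact one_mul 1
    · exact hU2
    · exact hS2
    · rw [mul_assoc, ← mul_assoc Sg, ← hUS, mul_assoc U Sg Sg, hS2, mul_one, hU2]
  have hzw : z * w = w * z := by
    rcases hw with h | h | h | h <;> rw [h]
    · rw [mul_one, one_mul]
    · exact hzU
    · exact hzS
    · rw [← mul_assoc, hzU, mul_assoc, hzS, mul_assoc]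
  have hwV : ∀ y, (y = 1 ∨ y = U ∨ y = Sg ∨ y = U * Sg) → y * w = w * y := by
    intro y hy
    have hUSU : U * (U * Sg) = U * Sg * U := by rw [mul_assoc, ← hUS]
    have hSUS : Sg * (U * Sg) = U * Sg * Sg := by rw [← mul_assoc, ← hUS]
    rcases hy with hy | hy | hy | hy <;> rcases hw with hw | hw | hw | hw <;> rw [hy, hw] <;>
      first | rfl | simp | exact hUS | exact hUS.symm | exact hUSU | exact hUSU.symm | exact hSUS | exact hSUS.symm
  have hcomm : Commute (z * w) d := by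
    refine mul_inv_eq_iff_eq_mul.1 ?_
    rw [hzw, show w * z * d * (w * z)⁻¹ = w * (z * d * z⁻¹) * w⁻¹ by group, hzd]
    rw [inv_eq_of_mul_eq_one_right hww]
    have hcw := hwV c hc
    calc w * (c * d) * w = c * (w * (d * w * d⁻¹)) * d := by rw [← mul_assoc, ← hcw]; group
      _ = d := by
        rw [eq_inv_of_mul_eq_one_left hwc, mul_inv_cancel, one_mul]
  -- the orbit of `U`
  let R : G → G → Prop := fun x y => ∃ g, Commute g (z * w) ∧ g * x * g⁻¹ = y
  have hRt : ∀ {x y v}, R x y → R y v → R x v := fun ⟨g, hg, hgx⟩ ⟨g', hg', hgy⟩ =>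
    ⟨g' * g, hg'.mul_left hg, by rw [← hgy, ← hgx]; group⟩
  have hRs : ∀ {x y}, R x y → R y x := fun ⟨g, hg, hgx⟩ => ⟨g⁻¹, hg.inv_left, by rw [← hgx]; group⟩
  have h1 : R Sg U := ⟨d, hcomm.symm, hdS⟩
  have h2 : R U (U * Sg) := ⟨d, hcomm.symm, hdU⟩
  have hall : ∀ x, (x = U ∨ x = Sg ∨ x = U * Sg) → R x U := by
    rintro x (h | h | h) <;> rw [h]
    exacts [⟨1, Commute.one_left _, by group⟩, h1, hRs h2]
  -- with the nontrivial part
  have main : ∀ τ', (τ' = Sg ∨ τ' = U * Sg) → τ' * w ≠ 1 →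
      ∃ g, g * (τ' * z) * g⁻¹ = z ∨ g * (τ' * z) * g⁻¹ = U * z := by
    intro τ' hτ' hne
    have hz' : τ' * z = τ' * w * (z * w) := by rw [hzw, mul_assoc τ' w, ← mul_assoc w w z, hww, one_mul]
    have hx : τ' * w = U ∨ τ' * w = Sg ∨ τ' * w = U * Sg := by
      rcases hτ' with h | h <;> rw [h] at hne ⊢ <;> rcases hw with h' | h' | h' | h' <;> rw [h'] at hne hww ⊢
      · exact Or.inr (Or.inl (mul_one _))
      · exact Or.inr (Or.inr hUS.symm)
      · exact absurd hS2 hne
      · exact Or.inl (by rw [← mul_assoc, ← hUS, mul_assoc, hS2, mul_one])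
      · exact Or.inr (Or.inr (mul_one _))
      · exact Or.inr (Or.inl (by rw [hUS, mul_assoc, hU2, mul_one]))
      · exact Or.inl (by rw [mul_assoc, hS2, mul_one])
      · exact absurd hww hne
    obtain ⟨e, he, hew⟩ : ∃ e, (e = U ∨ e = Sg ∨ e = U * Sg) ∧ (e * w = 1 ∨ e * w = U) := by
      rcases hw with h | hw'
      · exact ⟨U, Or.inl rfl, Or.inr (by rw [h, mul_one])⟩
      · exact ⟨w, hw', Or.inl hww⟩
    obtain ⟨g, hg, hgx⟩ := hRt (hall _ hx) (hRs (hall e he))
    refine ⟨g, ?_⟩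
    have key : g * (τ' * z) * g⁻¹ = e * w * z := by
      rw [hz', show g * (τ' * w * (z * w)) * g⁻¹ = g * (τ' * w) * g⁻¹ * (g * (z * w) * g⁻¹) by group, hgx, hg.eq,
        mul_inv_cancel_right, hzw, mul_assoc]
    rcases hew with h | h <;> rw [h] at key
    · rw [one_mul] at key; exact Or.inl key
    · exact Or.inr key
  by_cases hne : τ * w = 1
  · obtain ⟨g, hg⟩ := main (τ * U) (by
      rcases hτ with h | h <;> rw [h]
      · exact Or.inr hUS.symm
      · exact Or.inl (by rw [hUS, mul_assoc, hU2, mul_one]))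
      (fun h => hU1 (mul_eq_left.1 (mul_right_cancel (h.trans hne.symm))))
    refine ⟨g * a, ?_⟩
    have e : g * a * (τ * z) * (g * a)⁻¹ = g * (τ * U * z) * g⁻¹ := by
      rw [show g * a * (τ * z) * (g * a)⁻¹ = g * (a * τ * a⁻¹ * (a * z * a⁻¹)) * g⁻¹ by group, haτ, haz]
    rwa [e]
  · exact main τ hτ hne

end SymData

end CfsgLib.KondoAlt

namespace CfsgLib.KondoAlt

open Equiv Finset

variable {Ω : Type*} [Fintype Ω] [DecidableEq Ω] {G : Type*} [Group G] [Finite G]

namespace SymData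

variable (D : SymData Ω G)

/-- an involution of the model with a block splits off that block -/
theorem split_block {y : Wm Ω} (hy : y * y = 1) {o₁ o₂ : Ω} (ho : o₁ ≠ o₂) (h1 : Wm.prm y o₁ = o₂) :
    ∃ z : Wm Ω, y = Wm.bs (Wm.vec y o₁ • pairVec o₁ o₂) * Wm.pm (swap o₁ o₂) * z ∧ z * z = 1 ∧
      Wm.prm z o₁ = o₁ ∧ Wm.prm z o₂ = o₂ ∧ Wm.vec z o₁ = 0 ∧ Wm.vec z o₂ = 0 ∧
      (Wm.prm z).support.card < (Wm.prm y).support.card := by
  obtain ⟨hπ, hv⟩ := (Wm.sq_eq_one_iff y).1 hy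
  have hππ : ∀ i, Wm.prm y (Wm.prm y i) = i := fun i => by rw [← Perm.mul_apply, hπ]; rfl
  have hinv : (Wm.prm y)⁻¹ = Wm.prm y := inv_eq_of_mul_eq_one_right hπ
  have h2 : Wm.prm y o₂ = o₁ := by rw [← h1, hππ]
  have hvc : ∀ i, Wm.vec y (Wm.prm y i) = Wm.vec y i := fun i => by
    have h := hv i
    rwa [hinv] at h
  set τ := Wm.bs (Wm.vec y o₁ • pairVec o₁ o₂) * Wm.pm (swap o₁ o₂) with hτ
  refine ⟨τ⁻¹ * y, (mul_inv_cancel_left τ y).symm, ?_, ?_, ?_, ?_, ?_, ?_⟩
  all_goals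
    have hτp : Wm.prm (τ⁻¹ * y) = swap o₁ o₂ * Wm.prm y := by
      rw [hτ, Wm.prm_mul, Wm.prm_inv, Wm.prm_mul, Wm.prm_bs, one_mul, Wm.prm_pm, Perm.inv_def, symm_swap]
  · have hc : τ * y = y * τ := by
      refine Wm.ext' (funext fun i => ?_) ?_
      · rw [Wm.vec_mul τ y, Wm.vec_mul y τ, hinv]
        have e1 : Wm.vec τ = Wm.vec y o₁ • pairVec o₁ o₂ := by funext k; simp [hτ, Wm.vec_mul]
        have e2 : (Wm.prm τ)⁻¹ = swap o₁ o₂ := by simp [hτ]
        rw [e1, e2]
        rcases eq_or_ne i o₁ with hi | hi1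
        · rw [hi, swap_apply_left, h1, ← h1, hvc, h1]
          simp [pairVec_left ho, pairVec_right ho, z2_add_self]
        rcases eq_or_ne i o₂ with hi | hi2
        · rw [hi, swap_apply_right, h2]
          have e3 : Wm.vec y o₂ = Wm.vec y o₁ := by rw [← h1, hvc]
          simp [pairVec_left ho, pairVec_right ho, z2_add_self, e3]
        · rw [swap_apply_of_ne_of_ne hi1 hi2]
          have hn1 : Wm.prm y i ≠ o₁ := fun e => hi2 (by rw [← hππ i, e, h1])
          have hn2 : Wm.prm y i ≠ o₂ := fun e => hi1 (by rw [← hππ i, e, h2])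
          simp [pairVec_of_ne hi1 hi2, pairVec_of_ne hn1 hn2]
      · simp only [hτ, Wm.prm_mul, Wm.prm_bs, one_mul, Wm.prm_pm]
        rw [mul_swap_eq_swap_mul, h1, h2, swap_comm o₂ o₁]
    have hτmem : τ ∈ blkS o₁ o₂ :=
      mul_mem (bs_mem_blkS (by simp [pairVec_left ho, pairVec_right ho])) pm_swap_mem_blkS
    rw [inv_eq_of_mul_eq_one_right (Wm.blk_sq _ hτmem), show τ * y * (τ * y) = τ * (y * τ) * y by group, ← hc,
      ← mul_assoc, Wm.blk_sq _ hτmem, one_mul, hy]
  · rw [hτp, Perm.mul_apply, h1, swap_apply_right]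
  · rw [hτp, Perm.mul_apply, h2, swap_apply_left]
  · have hτinv : τ⁻¹ = τ := inv_eq_of_mul_eq_one_right (Wm.blk_sq (swap_mul_self o₁ o₂)
      (mul_mem (bs_mem_blkS (by simp [pairVec_left ho, pairVec_right ho])) pm_swap_mem_blkS))
    rw [hτinv, Wm.vec_mul]
    have e3 : Wm.vec y o₂ = Wm.vec y o₁ := by rw [← h1, hvc]
    simp [hτ, Wm.vec_mul, pairVec_left ho, e3, z2_add_self]
  · have hτinv : τ⁻¹ = τ := inv_eq_of_mul_eq_one_right (Wm.blk_sq (swap_mul_self o₁ o₂)
      (mul_mem (bs_mem_blkS (by simp [pairVec_left ho, pairVec_right ho])) pm_swap_mem_blkS))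
    rw [hτinv, Wm.vec_mul]
    simp [hτ, Wm.vec_mul, pairVec_right ho, z2_add_self]
  · refine card_lt_card ((ssubset_iff_of_subset fun i hi => ?_).2 ⟨o₁, ?_, ?_⟩)
    · rw [Perm.mem_support, hτp, Perm.mul_apply] at hi
      rw [Perm.mem_support]
      intro e
      rw [e] at hi
      rcases eq_or_ne i o₁ with hi1 | hi1
      · rw [hi1] at e; exact ho (e.symm.trans h1)
      rcases eq_or_ne i o₂ with hi2 | hi2
      · rw [hi2] at e; exact ho (h2.symm.trans e)
      exact hi (swap_apply_of_ne_of_ne hi1 hi2)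
    · rw [Perm.mem_support, h1]; exact ho.symm
    · rw [Perm.mem_support, hτp, Perm.mul_apply, h1, swap_apply_right, not_not]

/-- a single block is conjugate into `E` -/
theorem exists_base_of_two (hN : Fintype.card Ω = 2) {y : Wm Ω} (hy : y * y = 1) (hne : Wm.prm y ≠ 1) :
    ∃ g v, g * D.φ y * g⁻¹ = D.b v := by
  obtain ⟨o₁, ho'⟩ : ∃ i, Wm.prm y i ≠ i := by
    by_contra! h
    exact hne (Equiv.ext h)
  obtain ⟨o₂, ho₂⟩ : ∃ o₂, Wm.prm y o₁ = o₂ := ⟨_, rfl⟩
  have ho : o₁ ≠ o₂ := by rw [← ho₂]; exact Ne.symm ho'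
  obtain ⟨z, hyz, hz, hz1, hz2, hv1, hv2, -⟩ := split_block hy ho ho₂
  have hall : ∀ i, i = o₁ ∨ i = o₂ := fun i => by
    by_contra hc
    push Not at hc
    have h := card_le_univ ({o₁, o₂, i} : Finset Ω)
    rw [card_insert_of_notMem (by simp [ho, hc.1.symm]), card_pair hc.2.symm, hN] at h
    omega
  have hz0 : z = 1 := Wm.ext' (funext fun i => by rcases hall i with rfl | rfl; exacts [hv1, hv2])
    (Equiv.ext fun i => by rcases hall i with rfl | rfl; exacts [hz1, hz2])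
  rw [hz0, mul_one] at hyz
  obtain ⟨g, v, hg, -⟩ := D.exists_into_base ho
  rcases z2_cases (Wm.vec y o₁) with h | h <;> rw [h] at hyz
  · exact ⟨g, v, by rw [hyz, zero_smul, Wm.bs_zero, one_mul, hg]⟩
  · refine ⟨g * D.φ (Wm.bs (ev o₁)), v, ?_⟩
    have e : Wm.bs (ev o₁) * y * (Wm.bs (ev o₁))⁻¹ = Wm.pm (swap o₁ o₂) := by
      rw [hyz, one_smul]
      rcases conj_bs_ev (hμ := swap_mul_self o₁ o₂)
        (mul_mem (bs_pairVec_mem ho) pm_swap_mem_blkS) o₁ with hh | hh
      · exfalso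
        have h1 := congrFun (congrArg Wm.vec hh) o₁
        simp [Wm.vec_mul, Wm.vec_inv, ev_apply, ho.symm] at h1
      · rw [hh, swap_apply_left, mul_assoc, Wm.blk_comm _ pm_swap_mem_blkS
          (bs_mem_blkS (v := ev o₁ + ev o₂) (by simp [ev_apply, ho, ho.symm])), ← mul_assoc,
          show Wm.bs (pairVec o₁ o₂) * Wm.bs (ev o₁ + ev o₂) = 1 from Wm.bs_sq _, one_mul]
    rw [show g * D.φ (Wm.bs (ev o₁)) * D.φ y * (g * D.φ (Wm.bs (ev o₁)))⁻¹ =
      g * (D.φ (Wm.bs (ev o₁)) * D.φ y * (D.φ (Wm.bs (ev o₁)))⁻¹) * g⁻¹ by group, ← map_inv, ← map_mul, ← map_mul, e,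
      hg]

/-- **every involution of the model is conjugate into `E`** -/
theorem exists_base_conj : ∀ (m : ℕ) (y : Wm Ω), (Wm.prm y).support.card = m → y * y = 1 →
    ∃ g v, g * D.φ y * g⁻¹ = D.b v := by
  classical
  intro m
  induction m using Nat.strong_induction_on with
  | _ m ih =>
    intro y hm hy
    by_cases hne : Wm.prm y = 1
    · exact ⟨1, Wm.vec y, by rw [one_mul, inv_one, mul_one]; exact congrArg D.φ (Wm.eq_bs_of_mem hne)⟩
    have hev := D.even_card
    rw [Nat.even_iff] at hev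
    by_cases hN : Fintype.card Ω = 2
    · exact D.exists_base_of_two hN hy hne
    obtain ⟨o₁, ho'⟩ : ∃ i, Wm.prm y i ≠ i := by
      by_contra! h
      exact hne (Equiv.ext h)
    obtain ⟨o₂, ho₂⟩ : ∃ o₂, Wm.prm y o₁ = o₂ := ⟨_, rfl⟩
    have ho : o₁ ≠ o₂ := by rw [← ho₂]; exact Ne.symm ho'
    have h4 : 4 ≤ Fintype.card Ω := by
      have : 1 < Fintype.card Ω := Fintype.one_lt_card_iff.2 ⟨o₁, o₂, ho⟩
      omega
    obtain ⟨z, hyz, hz, hz1, hz2, hv1, hv2, hlt⟩ := split_block hy ho ho₂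
    obtain ⟨d, hd3, hdS, hdU, hdv⟩ := D.exists_triality ho h4
    set U := D.b (pairVec o₁ o₂) with hUdef
    set Sg := D.φ (Wm.pm (swap o₁ o₂)) with hSdef
    set Z := D.φ z with hZdef
    have hzπ : Wm.prm z * Wm.prm z = 1 := ((Wm.sq_eq_one_iff z).1 hz).1
    have hzfix : ∀ i, i = o₁ ∨ i = o₂ → (Wm.prm z)⁻¹ i = i := fun i hi => by
      rw [inv_eq_of_mul_eq_one_right hzπ]
      rcases hi with h | h <;> rw [h] <;> assumption
    have hZU : Z * U = U * Z := by
      refine mul_inv_eq_iff_eq_mul.1 ?_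
      rw [hZdef, hUdef, D.conj_b]
      refine congrArg D.b (funext fun i => ?_)
      rw [pe_apply]
      by_cases hi : i = o₁ ∨ i = o₂
      · rw [hzfix i hi]
      · push Not at hi
        have h1 : (Wm.prm z)⁻¹ i ≠ o₁ ∧ (Wm.prm z)⁻¹ i ≠ o₂ := by
          constructor <;> intro e <;> rw [Perm.inv_eq_iff_eq] at e
          exacts [hi.1 (by rw [e, hz1]), hi.2 (by rw [e, hz2])]
        rw [pairVec_of_ne hi.1 hi.2, pairVec_of_ne h1.1 h1.2]
    have hzσ : z * Wm.pm (swap o₁ o₂) = Wm.pm (swap o₁ o₂) * z := by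
      refine Wm.ext' (funext fun i => ?_) ?_
      · rw [Wm.vec_mul, Wm.vec_mul]
        simp only [Wm.vec_pm, Pi.zero_apply, add_zero, zero_add, Wm.prm_pm, Perm.inv_def (swap o₁ o₂), symm_swap]
        rcases eq_or_ne i o₁ with hi | hi1
        · rw [hi, swap_apply_left, hv1, hv2]
        rcases eq_or_ne i o₂ with hi | hi2
        · rw [hi, swap_apply_right, hv1, hv2]
        · rw [swap_apply_of_ne_of_ne hi1 hi2]
      · simp only [Wm.prm_mul, Wm.prm_pm]
        rw [mul_swap_eq_swap_mul, hz1, hz2]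
    have hZS : Z * Sg = Sg * Z := by rw [hZdef, hSdef, ← map_mul, ← map_mul, hzσ]
    have hUS : U * Sg = Sg * U := by
      rw [hUdef, hSdef, Data.b, ← map_mul, ← map_mul, Wm.blk_comm _ (bs_pairVec_mem ho) pm_swap_mem_blkS]
    have hU1 : U ≠ 1 := fun e => by
      rw [hUdef, ← D.toData.b_zero] at e
      have h1 := congrFun (D.toData.b_injective e) o₁
      rw [pairVec_left ho] at h1
      exact one_ne_zero h1
    have hU2 : U * U = 1 := D.b_sq _
    have hS2 : Sg * Sg = 1 := by rw [hSdef, ← map_mul, Wm.blk_sq _ pm_swap_mem_blkS, map_one]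
    -- the quotient of the two elements of order three
    obtain ⟨c, hc, hec⟩ := D.exists_of_comm1 (g := Z * d * Z⁻¹ * d⁻¹) (by
      obtain ⟨q, -, hq⟩ := exists_mem_notMem_of_card_lt_card (s := ({o₁, o₂} : Finset Ω)) (t := univ)
        (by rw [card_pair ho, card_univ]; omega)
      simp only [mem_insert, mem_singleton, not_or] at hq
      exact ⟨q, hq.1, hq.2⟩) (fun x hx => by
      have hdUS : d * (U * Sg) * d⁻¹ = Sg := by
        rw [show d * (U * Sg) * d⁻¹ = d * U * d⁻¹ * (d * Sg * d⁻¹) by group, hdU, hdS, map_mul,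
          show D.φ (Wm.bs (pairVec o₁ o₂)) = U from rfl, ← hSdef, hUS, mul_assoc, hU2, mul_one]
      let W : G → Prop := fun x => Commute (Z * d * Z⁻¹ * d⁻¹) x
      have hd' : ∀ {x x'}, d⁻¹ * x * d = x' → Z * d * Z⁻¹ * d⁻¹ * x * (Z * d * Z⁻¹ * d⁻¹)⁻¹ =
          Z * (d * (Z⁻¹ * x' * Z) * d⁻¹) * Z⁻¹ := fun h => by rw [← h]; group
      have hWU : W U := mul_inv_eq_iff_eq_mul.1 (by
        rw [hd' (x' := Sg) (by rw [← hdS]; group), inv_mul_eq_iff_eq_mul.2 hZS.symm |> fun h => (show Z⁻¹ * Sg * Z = Sg by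
          rw [mul_assoc, ← hZS, inv_mul_cancel_left]), hdS, hZU, mul_inv_cancel_right])
      have hWS : W Sg := mul_inv_eq_iff_eq_mul.1 (by
        rw [hd' (x' := U * Sg) (by conv_lhs => rw [← hdUS]
                                   group)]
        rw [show Z⁻¹ * (U * Sg) * Z = U * Sg by
          rw [mul_assoc, mul_assoc U, ← hZS, ← mul_assoc U, ← hZU, mul_assoc Z, inv_mul_cancel_left], hdUS, hZS,
          mul_inv_cancel_right])
      have hWv : ∀ v : Vec Ω, v o₁ = 0 → v o₂ = 0 → W (D.b v) := fun v h1 h2 => mul_inv_eq_iff_eq_mul.1 (by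
        have hd0 : d⁻¹ * D.b v * d = D.b v := by conv_lhs => rw [← hdv v h1 h2]
                                                 group
        rw [hd' hd0]
        have e1 : Z⁻¹ * D.b v * Z = D.b (pe (Wm.prm z⁻¹) v) := by
          rw [← D.conj_b, map_inv, inv_inv]
        rw [e1, hdv _ (by rw [pe_apply, Wm.prm_inv, inv_inv, hz1, h1]) (by rw [pe_apply, Wm.prm_inv, inv_inv, hz2, h2]),
          ← e1]
        group)
      show W (D.φ x)
      obtain ⟨hxv, hx' | hx'⟩ := blkS_cases hx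
      all_goals
        have hdec : Wm.vec x = Wm.vec x o₁ • pairVec o₁ o₂ + (Wm.vec x + Wm.vec x o₁ • pairVec o₁ o₂) := by
          rw [add_comm (Wm.vec x), ← add_assoc, vec_add_self, zero_add]
        have hWb : W (D.b (Wm.vec x)) := by
          rw [hdec, D.b_add]
          refine Commute.mul_right ?_ (hWv _ (by simp [pairVec_left ho, z2_add_self])
            (by simp [pairVec_right ho, hxv, z2_add_self]))
          rcases z2_cases (Wm.vec x o₁) with h | h <;> rw [h]
          · rw [zero_smul, D.b_zero]; exact Commute.one_right _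
          · rw [one_smul]; exact hWU
        rw [hx']
      · exact hWb
      · rw [map_mul]; exact hWb.mul_right hWS)
    have hzd : Z * d * Z⁻¹ = D.φ c * d := by rw [← hec]; group
    -- its part outside the block vanishes
    obtain ⟨hcv, hcc⟩ := blkS_cases hc
    set k := Wm.vec c + Wm.vec c o₁ • pairVec o₁ o₂ with hk
    have hk1 : k o₁ = 0 := by simp [hk, pairVec_left ho, z2_add_self]
    have hk2 : k o₂ = 0 := by simp [hk, pairVec_right ho, hcv, z2_add_self]
    have hkmem : Wm.bs k ∈ blkS o₁ o₂ := bs_mem_blkS (by rw [hk1, hk2])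
    obtain ⟨cV, hcV, hcsplit⟩ : ∃ cV, (cV = 1 ∨ cV = U ∨ cV = Sg ∨ cV = U * Sg) ∧ D.φ c = cV * D.b k := by
      have hvec : Wm.vec c = Wm.vec c o₁ • pairVec o₁ o₂ + k := by
        rw [hk, add_comm (Wm.vec c), ← add_assoc, vec_add_self, zero_add]
      rcases hcc with h | h <;> rcases z2_cases (Wm.vec c o₁) with h' | h'
      · refine ⟨1, Or.inl rfl, ?_⟩
        conv_lhs => rw [h, hvec, h', zero_smul, zero_add]
        rw [one_mul]; rfl
      · refine ⟨U, Or.inr (Or.inl rfl), ?_⟩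
        conv_lhs => rw [h, hvec, h', one_smul]
        exact D.b_add _ _
      · refine ⟨Sg, Or.inr (Or.inr (Or.inl rfl)), ?_⟩
        conv_lhs => rw [h, hvec, h', zero_smul, zero_add]
        rw [hSdef, Data.b, ← map_mul, Wm.blk_comm _ hkmem pm_swap_mem_blkS]
      · refine ⟨U * Sg, Or.inr (Or.inr (Or.inr rfl)), ?_⟩
        conv_lhs => rw [h, hvec, h', one_smul, Wm.bs_add, mul_assoc, Wm.blk_comm _ hkmem pm_swap_mem_blkS]
        rw [hUdef, hSdef, Data.b, Data.b, ← map_mul, ← map_mul, mul_assoc]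
    have hk0 : D.b k = 1 := by
      have hcube : (D.φ c * d) ^ 3 = 1 := by rw [← hzd, conj_pow, hd3, mul_one, mul_inv_cancel]
      have hdk : d * D.b k = D.b k * d := mul_inv_eq_iff_eq_mul.1 (hdv k hk1 hk2)
      have hcdk : cV * D.b k = D.b k * cV := by
        rcases hcV with h | h | h | h <;> rw [h]
        · group
        · exact D.b_comm _ _
        · rw [hSdef, Data.b, ← map_mul, ← map_mul, Wm.blk_comm _ pm_swap_mem_blkS hkmem]
        · rw [hUdef, hSdef, Data.b, Data.b, ← map_mul, ← map_mul, ← map_mul,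
            Wm.blk_comm _ (mul_mem (bs_pairVec_mem ho) pm_swap_mem_blkS) hkmem]
      have hV3 : (cV * d) ^ 3 = 1 := by
        have e : (cV * d) ^ 3 = cV * (d * cV * d⁻¹) * (d * (d * cV * d⁻¹) * d⁻¹) * d ^ 3 := by
          simp only [pow_succ, pow_zero, one_mul]; group
        rw [e, hd3, mul_one]
        have hdUS : d * (U * Sg) * d⁻¹ = Sg := by
          rw [show d * (U * Sg) * d⁻¹ = d * U * d⁻¹ * (d * Sg * d⁻¹) by group, hdU, hdS, map_mul,
            show D.φ (Wm.bs (pairVec o₁ o₂)) = U from rfl, ← hSdef, hUS, mul_assoc, hU2, mul_one]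
        have hdU' : d * U * d⁻¹ = U * Sg := by rw [hdU, map_mul]; rfl
        rcases hcV with h | h | h | h <;> rw [h]
        · group
        · rw [hdU', hdUS, ← mul_assoc, hU2, one_mul, hS2]
        · rw [hdS, hdU', ← mul_assoc, mul_assoc Sg U U, hU2, mul_one, hS2]
        · rw [hdUS, hdS, mul_assoc U Sg Sg, hS2, mul_one, hU2]
      have hcd : Commute (D.b k) (cV * d) := Commute.mul_right hcdk.symm hdk.symm
      rw [hcsplit, hcdk, mul_assoc, hcd.mul_pow, hV3, mul_one, pow_succ, pow_two, D.b_sq, one_mul] at hcube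
      exact hcube
    rw [hcsplit, hk0, mul_one] at hzd
    -- the reduction
    have hyτ : D.φ y = D.φ (Wm.bs (Wm.vec y o₁ • pairVec o₁ o₂) * Wm.pm (swap o₁ o₂)) * Z := by
      rw [hZdef, ← map_mul, ← hyz]
    obtain ⟨g, hg⟩ := reduce_step (z := Z) (τ := D.φ (Wm.bs (Wm.vec y o₁ • pairVec o₁ o₂) * Wm.pm (swap o₁ o₂)))
      hd3 hdS (by rw [hdU, map_mul]; rfl) hUS hU1 hU2 hS2 hZU hZS hcV hzd (a := D.φ (Wm.bs (ev o₁)))
      (by
        rw [hZdef, ← map_inv, ← map_mul, ← map_mul]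
        refine congrArg D.φ ?_
        have hc1 : z * Wm.bs (ev o₁) = Wm.bs (ev o₁) * z := by
          refine mul_inv_eq_iff_eq_mul.1 ?_
          rw [Wm.conj_bs]
          exact congrArg Wm.bs ((pe_ev (Wm.prm z) o₁).trans (by rw [hz1]))
        rw [← hc1, mul_inv_cancel_right])
      (by
        rw [hUdef, Data.b, ← map_inv, ← map_mul, ← map_mul, ← map_mul]
        refine congrArg D.φ ?_
        rcases conj_bs_ev (hμ := swap_mul_self o₁ o₂) (x := Wm.bs (Wm.vec y o₁ • pairVec o₁ o₂) * Wm.pm (swap o₁ o₂))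
          (mul_mem (bs_mem_blkS (by simp [pairVec_left ho, pairVec_right ho])) pm_swap_mem_blkS) o₁ with hh | hh
        · exfalso
          have h1 := congrFun (congrArg Wm.vec hh) o₁
          simp [Wm.vec_mul, Wm.vec_inv, ev_apply, pairVec_left ho, ho.symm] at h1
        · rw [hh, swap_apply_left]; rfl)
      (by
        rcases z2_cases (Wm.vec y o₁) with h | h <;> rw [h]
        · exact Or.inl (by rw [zero_smul, Wm.bs_zero, one_mul])
        · exact Or.inr (by rw [one_smul, map_mul]; rfl))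
    rw [← hyτ] at hg
    have hrec : ∀ w : Wm Ω, Wm.prm w = Wm.prm z → w * w = 1 → g * D.φ y * g⁻¹ = D.φ w →
        ∃ g' v, g' * D.φ y * g'⁻¹ = D.b v := fun w hw hww hgw => by
      obtain ⟨g', v, hg'⟩ := ih _ (hm ▸ hlt) w (by rw [hw]) hww
      exact ⟨g' * g, v, by rw [← hg', ← hgw]; group⟩
    rcases hg with h | h
    · exact hrec z rfl hz h
    · refine hrec (Wm.bs (pairVec o₁ o₂) * z) (by rw [Wm.prm_mul, Wm.prm_bs, one_mul]) (D.inj ?_) ?_
      · rw [map_mul, map_mul, map_one, show D.φ (Wm.bs (pairVec o₁ o₂)) = U from rfl, ← hZdef,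
          show U * Z * (U * Z) = U * (Z * U) * Z by group, hZU, ← mul_assoc, hU2, one_mul, hZdef, ← map_mul, hz,
          map_one]
      · rw [map_mul]; exact h

theorem exists_perm_map {A B : Finset (Option Ω)} (h : A.card = B.card) :
    ∃ π : Perm (Option Ω), ∀ k, π k ∈ B ↔ k ∈ A := by
  classical
  let e : {k // k ∈ A} ≃ {k // k ∈ B} := Finset.equivOfCardEq h
  refine ⟨e.extendSubtype, fun k => ?_⟩
  by_cases hk : k ∈ A
  · exact ⟨fun _ => hk, fun _ => e.extendSubtype_mem k hk⟩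
  · exact ⟨fun hb => absurd hb (e.extendSubtype_not_mem k hk), fun h' => absurd h' hk⟩

include D in
/-- **the number of classes of involutions** -/
theorem card_classes {n : ℕ} (hn : Fintype.card Ω = 2 * n) :
    Nat.card {c : ConjClasses G // ∃ x ∈ c.carrier, orderOf x = 2} = n := by
  classical
  have hT : ∀ l : Fin n, ∃ T : Finset (Option Ω), T.card = 2 * ((l : ℕ) + 1) := fun l => by
    obtain ⟨T, -, hT⟩ := exists_subset_card_eq (s := (univ : Finset (Option Ω))) (n := 2 * ((l : ℕ) + 1))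
      (by rw [card_univ, Fintype.card_option, hn]; omega)
    exact ⟨T, hT⟩
  choose T hT using hT
  have hTe : ∀ l, Even (T l).card := fun l => by rw [hT]; exact even_two_mul _
  have hne : ∀ l, vT (T l) ≠ 0 := fun l h => by
    have h1 := ext_vT (hTe l)
    rw [h] at h1
    obtain ⟨k, hk⟩ := card_pos.1 (by rw [hT]; omega : 0 < (T l).card)
    have h2 := congrFun h1 k
    rw [if_pos hk] at h2
    cases k <;> simp [ext] at h2
  let F : Fin n → {c : ConjClasses G // ∃ x ∈ c.carrier, orderOf x = 2} := fun l =>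
    ⟨ConjClasses.mk (D.b (vT (T l))), D.b (vT (T l)), ConjClasses.mem_carrier_mk,
      orderOf_eq_prime (by rw [pow_two]; exact D.b_sq _) fun h => hne l (D.toData.b_injective (h.trans D.toData.b_zero.symm))⟩
  have hinj : Function.Injective F := by
    intro l l' h
    obtain ⟨g, hg⟩ := isConj_iff.1 (ConjClasses.mk_eq_mk_iff_isConj.1 (congrArg Subtype.val h))
    obtain ⟨m, hm, hmw⟩ := D.toData.exists_norm_of_conj (v := vT (T l)) (w := vT (T l')) hg
    obtain ⟨v, π, rfl⟩ := D.norm_eq m hm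
    have h1 : peE π (vT (T l)) = vT (T l') := D.toData.b_injective (by
      rw [← D.s_conj_b, ← hmw]
      show _ = D.b v * D.s π * D.b (vT (T l)) * (D.b v * D.s π)⁻¹
      rw [show D.b v * D.s π * D.b (vT (T l)) * (D.b v * D.s π)⁻¹ =
        D.b v * (D.s π * D.b (vT (T l)) * (D.s π)⁻¹) * (D.b v)⁻¹ by group, D.s_conj_b, D.b_comm,
        mul_inv_cancel_right])
    have h2 := congrArg ext h1
    rw [ext_peE, ext_vT (hTe l), ext_vT (hTe l')] at h2
    have h3 : T l' = (T l).map π.toEmbedding := by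
      ext k
      rw [mem_map_equiv]
      have h4 := congrFun h2 k
      show k ∈ T l' ↔ π⁻¹ k ∈ T l
      dsimp only at h4
      by_cases ha : π⁻¹ k ∈ T l
      · rw [if_pos ha] at h4
        by_cases hb : k ∈ T l'
        · exact ⟨fun _ => ha, fun _ => hb⟩
        · rw [if_neg hb] at h4; exact absurd h4 one_ne_zero
      · rw [if_neg ha] at h4
        by_cases hb : k ∈ T l'
        · rw [if_pos hb] at h4; exact absurd h4 zero_ne_one
        · exact ⟨fun h => absurd h hb, fun h => absurd h ha⟩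
    have h5 := congrArg Finset.card h3
    rw [card_map, hT, hT] at h5
    exact Fin.ext (by omega)
  have hsurj : Function.Surjective F := by
    rintro ⟨c, x, hx, hxo⟩
    obtain ⟨S₀⟩ := (Sylow.nonempty : Nonempty (Sylow 2 (Wm Ω)))
    have hxx : x * x = 1 := by rw [← pow_two, ← hxo, pow_orderOf_eq_one]
    have hp : IsPGroup 2 (Subgroup.zpowers x) := IsPGroup.of_card (n := 1) (by rw [Nat.card_zpowers, hxo, pow_one])
    obtain ⟨P, hP⟩ := hp.exists_le_sylow
    obtain ⟨g, hg⟩ := MulAction.exists_smul_eq G P (D.sylow S₀)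
    have hxS : g * x * g⁻¹ ∈ (D.sylow S₀ : Subgroup G) := by
      rw [← hg, Sylow.coe_subgroup_smul, Subgroup.pointwise_smul_def]
      exact ⟨x, hP (Subgroup.mem_zpowers x), rfl⟩
    obtain ⟨y, -, hy⟩ := hxS
    have hyy : y * y = 1 := D.inj (by
      rw [map_mul, map_one, hy, show g * x * g⁻¹ * (g * x * g⁻¹) = g * (x * x) * g⁻¹ by group, hxx, mul_one,
        mul_inv_cancel])
    obtain ⟨g', v, hv⟩ := D.exists_base_conj _ y rfl hyy
    set A : Finset (Option Ω) := univ.filter fun k => ext v k = 1 with hA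
    have hAe : Even A.card := by
      rw [← ZMod.natCast_eq_zero_iff_even, hA, card_filter, Nat.cast_sum, ← sum_ext v]
      refine sum_congr rfl fun k _ => ?_
      rcases z2_cases (ext v k) with h | h <;> simp [h]
    have hA0 : A.card ≠ 0 := fun h => by
      have h0 : v = 0 := funext fun i => (z2_cases (v i)).resolve_right fun e => by
        have h1 : some i ∈ A := mem_filter.2 ⟨mem_univ _, e⟩
        rw [card_eq_zero.1 h] at h1
        exact notMem_empty _ h1
      rw [h0, D.toData.b_zero, conj_eq_one_iff, hy, conj_eq_one_iff] at hv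
      rw [hv, orderOf_one] at hxo
      norm_num at hxo
    have hAle : A.card ≤ 2 * n + 1 := by
      refine (card_le_univ A).trans (le_of_eq ?_)
      rw [Fintype.card_option, hn]
    rw [Nat.even_iff] at hAe
    refine ⟨⟨A.card / 2 - 1, by omega⟩, Subtype.ext ?_⟩
    obtain ⟨π, hπ⟩ := exists_perm_map (A := T ⟨A.card / 2 - 1, by omega⟩) (B := A) (by rw [hT]; simp only; omega)
    rw [ConjClasses.mem_carrier_iff_mk_eq] at hx
    refine Eq.trans ?_ hx
    refine ConjClasses.mk_eq_mk_iff_isConj.2 (isConj_iff.2 ⟨(g' * g)⁻¹ * D.s π, ?_⟩)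
    have hmap : peE π (vT (T ⟨A.card / 2 - 1, by omega⟩)) = v := by
      refine ext_injective (funext fun k => ?_)
      rw [ext_peE, ext_vT (hTe _)]
      show (if π⁻¹ k ∈ T _ then (1 : ZMod 2) else 0) = ext v k
      have h := hπ (π⁻¹ k)
      rw [apply_inv] at h
      rcases z2_cases (ext v k) with h' | h'
      · rw [h', if_neg]
        intro hm
        have := (mem_filter.1 (h.2 hm)).2
        rw [h'] at this
        exact zero_ne_one this
      · rw [h', if_pos (h.1 (mem_filter.2 ⟨mem_univ _, h'⟩))]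
    rw [show (g' * g)⁻¹ * D.s π * D.b (vT (T ⟨A.card / 2 - 1, by omega⟩)) * ((g' * g)⁻¹ * D.s π)⁻¹ =
      (g' * g)⁻¹ * (D.s π * D.b (vT (T ⟨A.card / 2 - 1, by omega⟩)) * (D.s π)⁻¹) * (g' * g) by group,
      D.s_conj_b, hmap, ← hv, hy]
    group
  exact (Nat.card_eq_of_bijective F ⟨hinj, hsurj⟩).symm.trans (Nat.card_fin n)

end SymData

end CfsgLib.KondoAlt
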