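import Cfsg.Agent.Lib.Invol.KondoAlt.Model

/-!
# The elementary abelian subgroups of largest order
-/

set_option autoImplicit false
set_option linter.unusedSectionVars false
set_option linter.style.haveILetI false

namespace CfsgLib.KondoAlt

open Equiv

variable {Ω : Type*} [Finite Ω] [DecidableEq Ω]

theorem two_mul_le_two_pow : ∀ k : ℕ, 2 * k ≤ 2 ^ k
  | 0 => by norm_num
  | 1 => by norm_num
  | k + 2 => by
    have h := two_mul_le_two_pow (k + 1)
    rw [pow_succ 2 (k + 1)]
    omega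

theorem two_mul_lt_two_pow {k : ℕ} (hk : 3 ≤ k) : 2 * k < 2 ^ k := by
  induction k, hk using Nat.le_induction with
  | base => norm_num
  | succ k hk ih => rw [pow_succ]; omega

/-- **elementary abelian subgroups of order `2 ^ |Ω|` are block subgroups** -/
theorem exists_eq_blk (A : Subgroup (Wm Ω)) (hcomm : ∀ a ∈ A, ∀ b ∈ A, a * b = b * a)
    (hsq : ∀ a ∈ A, a * a = 1) (hcard : Nat.card A = 2 ^ Nat.card Ω) :
    ∃ (μ : Perm Ω) (hμ : μ * μ = 1), A = Wm.blk μ hμ := by
  classical
  letI := Fintype.ofFinite Ω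
  set P := A.map (Wm.prmHom Ω) with hP
  have hPc : ∀ π ∈ P, ∀ ρ ∈ P, π * ρ = ρ * π := by
    rintro _ ⟨a, ha, rfl⟩ _ ⟨b, hb, rfl⟩
    rw [← map_mul, ← map_mul, hcomm a ha b hb]
  letI st : Setoid Ω :=
    { r := fun i j => ∃ π ∈ P, π i = j
      iseqv := ⟨fun i => ⟨1, one_mem P, rfl⟩, fun {i j} ⟨π, hπ, h⟩ => ⟨π⁻¹, inv_mem hπ, by rw [← h, inv_apply]⟩,
        fun {i j k} ⟨π, hπ, h⟩ ⟨ρ, hρ, h'⟩ => ⟨ρ * π, mul_mem hρ hπ, by rw [Perm.mul_apply, h, h']⟩⟩ }
  let Q := Quotient st
  haveI : Finite Q := Quotient.finite _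
  letI := Fintype.ofFinite Q
  let q : Ω → Q := Quotient.mk st
  have hq : ∀ i j, q i = q j ↔ ∃ π ∈ P, π i = j := fun i j => Quotient.eq
  -- invariance
  have hbase : ∀ a ∈ A, ∀ b ∈ A, Wm.prm b = 1 → ∀ i, Wm.vec b ((Wm.prm a)⁻¹ i) = Wm.vec b i := by
    intro a ha b hb hb1 i
    have h := congrFun (congrArg Wm.vec (hcomm a ha b hb)) i
    rw [Wm.vec_mul, Wm.vec_mul, hb1, inv_one, Perm.one_apply, add_comm] at h
    exact add_right_cancel h
  have hbase' : ∀ b ∈ A, Wm.prm b = 1 → ∀ i j, q i = q j → Wm.vec b i = Wm.vec b j := by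
    intro b hb hb1 i j hij
    obtain ⟨π, ⟨a, ha, rfl⟩, rfl⟩ := (hq i j).1 hij
    have h := hbase a ha b hb hb1 (Wm.prm a i)
    rw [inv_apply] at h
    exact h
  -- the injection
  let fib : Q → Type _ := fun o => {i : Ω // q i = o}
  let rep : Q → Ω := Quotient.out
  have hrep : ∀ o, q (rep o) = o := Quotient.out_eq
  let img : P → ∀ o, fib o := fun π o => ⟨(π : Perm Ω) (rep o), by
    rw [← hrep o]; exact ((hq _ _).2 ⟨π, π.2, by rw [hrep]⟩).symm⟩
  have himg : Function.Injective img := fun π ρ h => Subtype.ext (Equiv.ext fun i => by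
    obtain ⟨σ, hσ, hσi⟩ := (hq (rep (q i)) i).1 (hrep (q i))
    have h1 : (π : Perm Ω) (rep (q i)) = (ρ : Perm Ω) (rep (q i)) := congrArg Subtype.val (congrFun h (q i))
    rw [← hσi, ← Perm.mul_apply, ← Perm.mul_apply, hPc _ π.2 _ hσ, hPc _ ρ.2 _ hσ, Perm.mul_apply, Perm.mul_apply, h1])
  let f : A →* P := (Wm.prmHom Ω).subgroupMap A
  have hf : Function.Surjective f := (Wm.prmHom Ω).subgroupMap_surjective A
  let bits : f.ker → Q → ZMod 2 := fun b o => Wm.vec ((b : A) : Wm Ω) (rep o)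
  have hker : ∀ b : f.ker, Wm.prm ((b : A) : Wm Ω) = 1 := fun b =>
    congrArg Subtype.val (MonoidHom.mem_ker.1 b.2)
  have hbits : Function.Injective bits := fun b c h => Subtype.ext (Subtype.ext (Wm.ext' (funext fun i => by
    rw [hbase' _ b.1.2 (hker b) i (rep (q i)) (hrep _).symm, hbase' _ c.1.2 (hker c) i (rep (q i)) (hrep _).symm]
    exact congrFun h (q i)) ((hker b).trans (hker c).symm)))
  -- counting
  have h1 : Nat.card P ≤ ∏ o, Nat.card (fib o) := by
    rw [← Nat.card_pi]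
    exact Nat.card_le_card_of_injective img himg
  have h2 : Nat.card f.ker ≤ 2 ^ Fintype.card Q := by
    refine (Nat.card_le_card_of_injective bits hbits).trans (le_of_eq ?_)
    rw [Nat.card_fun, Nat.card_zmod, Nat.card_eq_fintype_card]
  have h3 : Nat.card A = Nat.card P * Nat.card f.ker := by
    rw [← f.ker.index_mul_card, Subgroup.index_ker, MonoidHom.range_eq_top.2 hf, Subgroup.card_top]
  have h4 : Nat.card Ω = ∑ o, Nat.card (fib o) := by
    rw [← Nat.card_sigma]
    exact (Nat.card_congr (Equiv.sigmaFiberEquiv q)).symm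
  have h5 : ∏ o, 2 ^ Nat.card (fib o) ≤ ∏ o, 2 * Nat.card (fib o) := by
    rw [Finset.prod_pow_eq_pow_sum, ← h4, ← hcard, h3, Finset.prod_mul_distrib, Finset.prod_const,
      Finset.card_univ, mul_comm]
    exact Nat.mul_le_mul h2 h1
  have hfpos : ∀ o, 0 < Nat.card (fib o) := fun o => by
    haveI : Nonempty (fib o) := ⟨⟨rep o, hrep o⟩⟩
    exact Nat.card_pos
  have hsmall : ∀ o, Nat.card (fib o) ≤ 2 := by
    intro o
    by_contra hlt
    refine absurd h5 (not_le.2 ?_)
    refine Finset.prod_lt_prod (fun o _ => Nat.mul_pos two_pos (hfpos o)) (fun o _ => two_mul_le_two_pow _)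
      ⟨o, Finset.mem_univ _, two_mul_lt_two_pow (by omega)⟩
  have hPeq : Nat.card P = ∏ o, Nat.card (fib o) := by
    refine le_antisymm h1 (le_of_not_gt fun hlt => ?_)
    have h6 : Nat.card A < ∏ o, 2 * Nat.card (fib o) := by
      rw [h3, Finset.prod_mul_distrib, Finset.prod_const, Finset.card_univ, mul_comm (2 ^ _)]
      exact Nat.mul_lt_mul_of_lt_of_le hlt h2 (Nat.two_pow_pos _)
    rw [hcard, h4, ← Finset.prod_pow_eq_pow_sum] at h6
    exact absurd h6 (not_lt.2 (Finset.prod_le_prod' fun o _ => by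
      rcases Nat.lt_or_ge (Nat.card (fib o)) 2 with h | h
      · have := hfpos o
        rw [show Nat.card (fib o) = 1 by omega]
        norm_num
      · rw [show Nat.card (fib o) = 2 by have := hsmall o; omega]
        norm_num))
  have hkereq : Nat.card f.ker = 2 ^ Fintype.card Q := by
    refine le_antisymm h2 (le_of_not_gt fun hlt => ?_)
    have h6 : Nat.card A < ∏ o, 2 * Nat.card (fib o) := by
      rw [h3, Finset.prod_mul_distrib, Finset.prod_const, Finset.card_univ, mul_comm (2 ^ _)]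
      refine Nat.mul_lt_mul_of_le_of_lt h1 hlt ?_
      exact Finset.prod_pos fun o _ => hfpos o
    rw [hcard, h4, ← Finset.prod_pow_eq_pow_sum] at h6
    exact absurd h6 (not_lt.2 (Finset.prod_le_prod' fun o _ => by
      rcases Nat.lt_or_ge (Nat.card (fib o)) 2 with h | h
      · have := hfpos o
        rw [show Nat.card (fib o) = 1 by omega]
        norm_num
      · rw [show Nat.card (fib o) = 2 by have := hsmall o; omega]
        norm_num))
  -- the involution
  have hex : ∀ i : Ω, ∃ j, q j = q i ∧ ((∃ k, q k = q i ∧ k ≠ i) → j ≠ i) := fun i => by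
    by_cases h : ∃ k, q k = q i ∧ k ≠ i
    · exact ⟨h.choose, h.choose_spec.1, fun _ => h.choose_spec.2⟩
    · exact ⟨i, rfl, fun h' => absurd h' h⟩
  choose μf hμq hμne using hex
  have huniq : ∀ i k, q k = q i → k = i ∨ k = μf i := by
    intro i k hk
    by_contra hc
    push Not at hc
    have hne := hμne i ⟨k, hk, hc.1⟩
    haveI : Fintype (fib (q i)) := Fintype.ofFinite _
    let a : fib (q i) := ⟨i, rfl⟩
    let b : fib (q i) := ⟨k, hk⟩
    let c : fib (q i) := ⟨μf i, hμq i⟩
    have h3 : ({a, b, c} : Finset (fib (q i))).card = 3 :=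
      Finset.card_eq_three.2 ⟨a, b, c, fun h => hc.1 (congrArg Subtype.val h).symm,
        fun h => hne (congrArg Subtype.val h).symm, fun h => hc.2 (congrArg Subtype.val h), rfl⟩
    have := h3 ▸ Finset.card_le_univ ({a, b, c} : Finset (fib (q i)))
    rw [← Nat.card_eq_fintype_card] at this
    have := hsmall (q i)
    omega
  have hinv : ∀ i, μf (μf i) = i := fun i => by
    rcases eq_or_ne (μf i) i with h | h
    · rw [h, h]
    · have h1 := hμne (μf i) ⟨i, (hμq i).symm, Ne.symm h⟩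
      exact ((huniq (μf i) i (hμq i).symm).resolve_left (Ne.symm h)).symm
  let μ : Perm Ω := ⟨μf, μf, hinv, hinv⟩
  have hμ : μ * μ = 1 := Equiv.ext hinv
  have hμa : ∀ i, μ i = μf i := fun _ => rfl
  refine ⟨μ, hμ, le_antisymm ?_ ?_⟩
  · intro a ha
    have hp : ∀ i, Wm.prm a i = i ∨ Wm.prm a i = μ i := fun i => by
      rw [hμa]
      exact huniq i _ ((hq _ _).2 ⟨Wm.prm a, ⟨a, ha, rfl⟩, rfl⟩).symm
    refine ⟨hp, fun i => ?_⟩
    rcases eq_or_ne (μ i) i with hfix | hne
    · rw [hfix]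
    obtain ⟨π, ⟨b, hb, rfl⟩, hbi⟩ := (hq i (μ i)).1 (hμq i).symm
    have hbi' : Wm.prm b i = μ i := hbi
    have hb' : (Wm.prm b)⁻¹ (μ i) = i := by rw [← hbi', inv_apply]
    have hb'' : (Wm.prm b)⁻¹ i = μ i := by
      have h1 := congrArg Wm.prm (hsq b hb)
      rw [Wm.prm_mul, Wm.prm_one] at h1
      rw [inv_eq_of_mul_eq_one_right h1, hbi']
    rcases hp i with h | h
    · -- fixed by `a`
      have h0 := congrFun (congrArg Wm.vec (hcomm b hb a ha)) i
      rw [Wm.vec_mul, Wm.vec_mul, hb'', Perm.inv_eq_iff_eq.2 h.symm, add_comm (Wm.vec a i)] at h0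
      exact (add_left_cancel h0)
    · have h0 := ((Wm.sq_eq_one_iff a).1 (hsq a ha)).2 (μ i)
      rw [show (Wm.prm a)⁻¹ (μ i) = i by rw [← h, inv_apply]] at h0
      exact h0.symm
  · intro x hx
    -- the permutation part
    have hbij := (Nat.bijective_iff_injective_and_card img).2 ⟨himg, by rw [Nat.card_pi]; exact hPeq⟩
    obtain ⟨π, hπ⟩ := hbij.2 (fun o => ⟨Wm.prm x (rep o), by
      rcases hx.1 (rep o) with h | h <;> rw [h]
      · exact hrep o
      · rw [hμa, hμq, hrep]⟩)
    have hxp : ∀ i, Wm.prm x i = (π : Perm Ω) i := by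
      intro i
      have h1 : (π : Perm Ω) (rep (q i)) = Wm.prm x (rep (q i)) := congrArg Subtype.val (congrFun hπ (q i))
      have h3 : ∀ j, (π : Perm Ω) j = j ∨ (π : Perm Ω) j = μ j := fun j => by
        rw [hμa]; exact huniq j _ ((hq _ _).2 ⟨π, π.2, rfl⟩).symm
      rcases huniq (rep (q i)) i (hrep (q i)).symm with h2 | h2
      · rw [h2, h1]
      · rw [← hμa] at h2
        rw [h2, Wm.blk_conj hμ hx, ← h1]
        rcases h3 (rep (q i)) with h4 | h4
        · rcases h3 (μ (rep (q i))) with h5 | h5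
          · rw [h4, h5]
          · have h6 := (π : Perm Ω).injective (h4.trans (by rw [hμa, hμa, hinv] : rep (q i) = μ (μ (rep (q i))))
              |>.trans h5.symm)
            rw [h4, h5, ← h6, ← h6]
        · rcases h3 (μ (rep (q i))) with h5 | h5
          · have h6 := (π : Perm Ω).injective (h4.trans h5.symm)
            rw [h4, h5, ← h6, ← h6]
          · rw [h4, h5]
    obtain ⟨a, hav⟩ := hf π
    set a' : Wm Ω := (a : Wm Ω) with ha'
    have hap : Wm.prm a' = (π : Perm Ω) := congrArg Subtype.val hav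
    -- the bit part
    have hbij2 := (Nat.bijective_iff_injective_and_card bits).2
      ⟨hbits, by rw [hkereq, Nat.card_fun, Nat.card_zmod, Nat.card_eq_fintype_card]⟩
    obtain ⟨b, hb⟩ := hbij2.2 (fun o => Wm.vec x (rep o) + Wm.vec a' (rep o))
    have haA : ∀ i, Wm.vec a' i = Wm.vec a' (rep (q i)) := by
      intro i
      rcases huniq (rep (q i)) i (hrep (q i)).symm with h | h
      · exact congrArg _ h
      · rw [← hμa] at h
        rcases eq_or_ne (μ (rep (q i))) (rep (q i)) with hfix | hne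
        · exact congrArg _ (h.trans hfix)
        set j := rep (q i) with hj
        obtain ⟨ρ, ⟨c, hc, rfl⟩, hcj⟩ := (hq j (μ j)).1 (hμq j).symm
        have hc' : (Wm.prm c)⁻¹ j = μ j := by
          have h1 := congrArg Wm.prm (hsq c hc)
          rw [Wm.prm_mul, Wm.prm_one] at h1
          rw [inv_eq_of_mul_eq_one_right h1]
          exact hcj
        have hpj : Wm.prm a' j = j ∨ Wm.prm a' j = μ j := by
          rw [hμa]; exact huniq j _ ((hq _ _).2 ⟨Wm.prm a', ⟨a', a.2, rfl⟩, rfl⟩).symm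
        rcases hpj with hh | hh
        · have h0 := congrFun (congrArg Wm.vec (hcomm c hc a' a.2)) j
          rw [Wm.vec_mul, Wm.vec_mul, hc', Perm.inv_eq_iff_eq.2 hh.symm, add_comm (Wm.vec a' j)] at h0
          rw [h]
          exact add_left_cancel h0
        · have h0 := ((Wm.sq_eq_one_iff a').1 (hsq a' a.2)).2 (μ j)
          rw [show (Wm.prm a')⁻¹ (μ j) = j by rw [← hh, inv_apply]] at h0
          rw [h]
          exact h0.symm
    have hxv : ∀ i, Wm.vec x i = Wm.vec x (rep (q i)) := fun i => by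
      rcases huniq (rep (q i)) i (hrep (q i)).symm with h | h
      · exact congrArg _ h
      · rw [← hμa] at h
        conv_lhs => rw [h]
        exact hx.2 _
    have : x = ((b : A) : Wm Ω) * a' := by
      refine Wm.ext' (funext fun i => ?_) (Equiv.ext fun i => ?_)
      · rw [Wm.vec_mul, hker, inv_one, Perm.one_apply, hbase' _ b.1.2 (hker b) i (rep (q i)) (hrep _).symm,
          show Wm.vec ((b : A) : Wm Ω) (rep (q i)) = Wm.vec x (rep (q i)) + Wm.vec a' (rep (q i)) from congrFun hb (q i),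
          haA i, add_assoc, z2_add_self, add_zero, ← hxv]
      · rw [Wm.prm_mul, hker, one_mul, hap, hxp]
    rw [this]
    exact mul_mem b.1.2 a.2

end CfsgLib.KondoAlt
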