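import Cfsg.Agent.Lib.Invol.KondoAlt.Even

/-!
# Transvections in the symmetric group on the even subsets
-/

set_option autoImplicit false
set_option linter.unusedSectionVars false
set_option linter.style.haveILetI false

namespace CfsgLib.KondoAlt

open Equiv Finset

variable {Ω : Type*} [Fintype Ω] [DecidableEq Ω]

/-- the indicator of a point of `Option Ω` -/
def ind (k : Option Ω) : Option Ω → ZMod 2 := Pi.single k 1

theorem ind_apply (k l : Option Ω) : ind k l = if l = k then 1 else 0 := by simp [ind, Pi.single_apply]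

theorem ind_comp (π : Perm (Option Ω)) (k : Option Ω) : (fun l => ind k (π⁻¹ l)) = ind (π k) := by
  funext l
  rw [ind_apply, ind_apply]
  exact if_congr Perm.inv_eq_iff_eq rfl rfl

theorem ind_pair_eq {a b c d : Option Ω} (hab : a ≠ b) (h : ind a + ind b = ind c + ind d) :
    (c = a ∧ d = b) ∨ (c = b ∧ d = a) := by
  have key : ∀ l, (l = a ∨ l = b) → l = c ∨ l = d := by
    intro l hl
    by_contra hc
    push Not at hc
    have h1 := congrFun h l
    simp only [Pi.add_apply, ind_apply, if_neg hc.1, if_neg hc.2, add_zero] at h1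
    rcases hl with rfl | rfl <;> simp [hab, hab.symm] at h1
  rcases key a (Or.inl rfl) with h1 | h1 <;> rcases key b (Or.inr rfl) with h2 | h2
  · exact absurd (h1.trans h2.symm) hab
  · exact Or.inl ⟨h1.symm, h2.symm⟩
  · exact Or.inr ⟨h2.symm, h1.symm⟩
  · exact absurd (h1.trans h2.symm) hab

theorem exists_ext_pair (k l : Option Ω) : ∃ v : Vec Ω, ext v = ind k + ind l := by
  refine ⟨fun i => (ind k + ind l) (some i), ext_res ?_⟩
  simp only [Pi.add_apply, sum_add_distrib, ind_apply, sum_ite_eq', mem_univ, if_true, z2_add_self]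

/-- **transvections are transpositions** -/
theorem eq_swap_of_peE_transvection (hcard : Even (Fintype.card Ω)) {π : Perm (Option Ω)} (hπ : π ≠ 1)
    {c : Vec Ω} (h : ∀ v, peE π v = v ∨ peE π v = v + c) :
    ∃ p q, p ≠ q ∧ π = swap p q ∧ ext c = ind p + ind q := by
  classical
  let D : Option Ω → Option Ω → ZMod 2 := fun k => ind k + ind (π k)
  have hD : ∀ k l, D k + D l = 0 ∨ D k + D l = ext c := by
    intro k l
    obtain ⟨v, hv⟩ := exists_ext_pair k l
    have e : ext (peE π v) = ind (π k) + ind (π l) := by
      rw [ext_peE, hv, ← ind_comp π k, ← ind_comp π l]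
      rfl
    have e2 : D k + D l = ext v + ext (peE π v) := by rw [e, hv]; simp only [D]; abel
    rw [e2]
    rcases h v with h1 | h1 <;> rw [h1]
    · left; exact funext fun _ => z2_add_self _
    · right
      rw [ext_add, ← add_assoc, show ext v + ext v = 0 from funext fun _ => z2_add_self _, zero_add]
  have hD0 : ∀ k, D k = 0 ↔ π k = k := by
    intro k
    refine ⟨fun h0 => ?_, fun e => by simp only [D, e]; exact funext fun _ => z2_add_self _⟩
    by_contra hne
    have := congrFun h0 k
    simp [D, ind_apply, Ne.symm hne] at this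
  have hDeq : ∀ k l, π k ≠ k → D k = D l → l = k ∨ (l = π k ∧ π l = k) := by
    intro k l hk e
    rcases ind_pair_eq (Ne.symm hk) e with ⟨h1, -⟩ | h1
    · exact Or.inl h1
    · exact Or.inr h1
  obtain ⟨k, hk⟩ : ∃ k, π k ≠ k := by
    by_contra! hall
    exact hπ (Equiv.ext hall)
  by_cases hfix : ∃ m, π m = m
  · obtain ⟨m, hm⟩ := hfix
    have hC : ∀ l, π l ≠ l → D l = ext c := fun l hl => by
      rcases hD l m with h1 | h1 <;> rw [(hD0 m).2 hm, add_zero] at h1
      · exact absurd ((hD0 l).1 h1) hl
      · exact h1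
    have hππ : π (π k) = k := by
      have hk2 : π (π k) ≠ π k := fun e => hk (π.injective e)
      exact ((hDeq k (π k) hk ((hC k hk).trans (hC _ hk2).symm)).resolve_left hk).2
    refine ⟨k, π k, Ne.symm hk, Equiv.ext fun l => ?_, ((hC k hk).symm)⟩
    by_cases hl : π l = l
    · rw [swap_apply_of_ne_of_ne (fun e => hk (by rw [e] at hl; exact hl)) (fun e => hk (by rw [e, hππ] at hl; exact hl.symm))]
      exact hl
    · rcases hDeq k l hk ((hC k hk).trans (hC l hl).symm) with h1 | h1
      · rw [h1, swap_apply_left]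
      · rw [h1.1, swap_apply_right, hππ]
  exfalso
  push Not at hfix
  have hcl : ∀ l, D l = D k ∨ D l = D k + ext c := fun l => by
    rcases hD k l with h1 | h1
    · left
      exact funext fun x => (z2_eq_of_add (congrFun h1 x)).symm
    · right
      rw [← h1, ← add_assoc, show D k + D k = 0 from funext fun _ => z2_add_self _, zero_add]
  have hodd : Odd (Fintype.card (Option Ω)) := by rw [Fintype.card_option]; exact hcard.add_one
  have hle : Fintype.card (Option Ω) ≤ 3 := by
    obtain ⟨l₁, hl₁⟩ : ∃ l₁, ∀ l, D l ≠ D k → D l = D l₁ := by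
      by_cases hex : ∃ l₁, D l₁ ≠ D k
      · obtain ⟨l₁, h₁⟩ := hex
        exact ⟨l₁, fun l hl => ((hcl l).resolve_left hl).trans ((hcl l₁).resolve_left h₁).symm⟩
      · push Not at hex
        exact ⟨k, fun l hl => absurd (hex l) hl⟩
    have hsub : (univ : Finset (Option Ω)) ⊆ {k, π k, l₁, π l₁} := fun l _ => by
      simp only [mem_insert, mem_singleton]
      by_cases hl : D l = D k
      · rcases hDeq k l (hfix k) hl.symm with h1 | h1
        exacts [Or.inl h1, Or.inr (Or.inl h1.1)]
      · rcases hDeq l₁ l (hfix l₁) (hl₁ l hl).symm with h1 | h1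
        exacts [Or.inr (Or.inr (Or.inl h1)), Or.inr (Or.inr (Or.inr h1.1))]
    have h4 := (card_le_card hsub).trans Finset.card_le_four
    rw [card_univ] at h4
    rw [Nat.odd_iff] at hodd
    omega
  have hinj : Function.Injective D := by
    intro l l' e
    rcases hDeq l l' (hfix l) e with h1 | ⟨h1, h2⟩
    · exact h1.symm
    exfalso
    subst h1
    obtain ⟨m, -, hm⟩ := exists_mem_notMem_of_card_lt_card (s := ({l, π l} : Finset (Option Ω))) (t := univ) (by
      have := (Finset.card_le_two (a := l) (b := π l))
      have h3 : 3 ≤ Fintype.card (Option Ω) := by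
        have : 1 < Fintype.card (Option Ω) :=
          Fintype.one_lt_card_iff.2 ⟨l, π l, Ne.symm (hfix l)⟩
        rw [Nat.odd_iff] at hodd; omega
      rw [card_univ]
      omega)
    simp only [mem_insert, mem_singleton, not_or] at hm
    have hsub : ({l, π l, m, π m} : Finset (Option Ω)).card ≤ 3 :=
      (card_le_univ _).trans hle
    rw [card_insert_of_notMem, card_insert_of_notMem, card_pair (Ne.symm (hfix m))] at hsub
    · omega
    · simp only [mem_insert, mem_singleton, not_or]
      exact ⟨Ne.symm hm.2, fun e => hm.1 (π.injective e).symm⟩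
    · simp only [mem_insert, mem_singleton, not_or]
      exact ⟨Ne.symm (hfix l), Ne.symm hm.1, fun e => hm.2 (π.injective (by rw [← e, h2]))⟩
  have h2 : (univ.image D).card ≤ 2 :=
    (card_le_card (fun y hy => by
      obtain ⟨l, -, rfl⟩ := mem_image.1 hy
      simp only [mem_insert, mem_singleton]
      exact hcl l : univ.image D ⊆ {D k, D k + ext c})).trans Finset.card_le_two
  rw [card_image_of_injective _ hinj, card_univ] at h2
  have : 1 < Fintype.card (Option Ω) := Fintype.one_lt_card_iff.2 ⟨k, π k, Ne.symm hk⟩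
  rw [Nat.odd_iff] at hodd
  omega

end CfsgLib.KondoAlt
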