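import Cfsg.Agent.Lib.Invol.KondoAlt.SwapBlock
import Cfsg.Agent.Lib.Invol.KondoAlt.Transvection

/-!
# Transpositions seen on the elementary abelian subgroup of one block
-/

set_option autoImplicit false
set_option linter.unusedSectionVars false
set_option linter.style.haveILetI false

namespace CfsgLib.KondoAlt

open Equiv Finset

variable {Ω : Type*} [Fintype Ω] [DecidableEq Ω] {G : Type*} [Group G] [Finite G] {o₁ o₂ : Ω}

namespace Wm

/-- centres of transvections of a block subgroup are base elements -/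
theorem transvection_centre_base {μ : Perm Ω} (hμ : μ * μ = 1) {r : Wm Ω} {c : Wm Ω}
    (htr : ∀ x ∈ blk μ hμ, r * x * r⁻¹ = x ∨ r * x * r⁻¹ = x * c)
    {x₀ : Wm Ω} (hx₀ : x₀ ∈ blk μ hμ) (hmove : r * x₀ * r⁻¹ ≠ x₀) : prm c = 1 := by
  by_cases hb : ∃ w, bs w ∈ blk μ hμ ∧ r * bs w * r⁻¹ ≠ bs w
  · obtain ⟨w, hw, hne⟩ := hb
    have h := congrArg prm ((htr _ hw).resolve_left hne)
    simpa using h.symm
  push Not at hb
  have hμμ : ∀ i, μ (μ i) = i := fun i => by rw [← Perm.mul_apply, hμ]; rfl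
  have hr : pm (prm r) ∈ blk μ hμ := by
    refine ⟨fun i => ?_, fun _ => rfl⟩
    rw [prm_pm]
    let w : Vec Ω := fun j => if j = i ∨ j = μ i then 1 else 0
    have hw : ∀ j, w (μ j) = w j := fun j => by
      refine if_congr ⟨?_, ?_⟩ rfl rfl
      · rintro (h | h)
        · exact Or.inr (by rw [← h, hμμ])
        · exact Or.inl (μ.injective h)
      · rintro (rfl | rfl)
        · exact Or.inr rfl
        · exact Or.inl (hμμ i)
    have h1 := hb w ((bs_mem_blk hμ).2 hw)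
    rw [conj_bs] at h1
    have h2 := congrFun (bs_injective h1) (prm r i)
    rw [inv_apply] at h2
    by_contra hc
    simp [w, hc] at h2
  have hx : pm (prm x₀) ∈ blk μ hμ := ⟨fun i => by rw [prm_pm]; exact hx₀.1 i, fun _ => rfl⟩
  have hc : prm r * prm x₀ = prm x₀ * prm r := congrArg prm (blk_comm hμ hr hx)
  have h := congrArg prm ((htr _ hx₀).resolve_left hmove)
  rw [prm_mul, prm_mul, prm_mul, prm_inv, hc, mul_inv_cancel_right, left_eq_mul] at h
  exact h

/-- a transvection moving a base element is a transposition of two fixed points -/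
theorem transvection_centre {μ : Perm Ω} (hμ : μ * μ = 1) {r : Wm Ω} {c : Wm Ω}
    (htr : ∀ x ∈ blk μ hμ, r * x * r⁻¹ = x ∨ r * x * r⁻¹ = x * c)
    {w : Vec Ω} (hw : bs w ∈ blk μ hμ) (hmove : r * bs w * r⁻¹ ≠ bs w) :
    ∃ p q, p ≠ q ∧ μ p = p ∧ μ q = q ∧ c = bs (ev p + ev q) ∧
      ∀ v, bs v ∈ blk μ hμ → r * bs v * r⁻¹ = bs v → v p = v q := by
  have hμμ : ∀ i, μ (μ i) = i := fun i => by rw [← Perm.mul_apply, hμ]; rfl
  have hc1 : prm c = 1 := transvection_centre_base hμ htr hw hmove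
  -- moved pairs are preserved
  have hpair : ∀ i, μ i ≠ i → prm r i = i ∨ prm r i = μ i := by
    intro i hi
    let x := pm (swap i (μ i)) (Ω := Ω)
    have hx : x ∈ blk μ hμ := by
      refine ⟨fun j => ?_, fun _ => rfl⟩
      rw [prm_pm]
      rcases eq_or_ne j i with rfl | hji
      · exact Or.inr (swap_apply_left _ _)
      rcases eq_or_ne j (μ i) with rfl | hjm
      · exact Or.inr (by rw [swap_apply_right, hμμ])
      · exact Or.inl (swap_apply_of_ne_of_ne hji hjm)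
    have h : prm (r * x * r⁻¹) = swap i (μ i) := by
      rcases htr _ hx with h | h <;> rw [h]
      · rfl
      · rw [prm_mul, hc1, mul_one]; rfl
    rw [prm_mul, prm_mul, prm_inv, prm_pm, mul_inv_eq_iff_eq_mul, mul_swap_eq_swap_mul] at h
    have h1 := mul_right_cancel h
    by_contra hc
    push Not at hc
    have h2 := DFunLike.congr_fun h1 (prm r i)
    rw [swap_apply_left, swap_apply_of_ne_of_ne hc.1 hc.2] at h2
    exact hi ((prm r).injective h2)
  have hwμ := (bs_mem_blk hμ).1 hw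
  rw [conj_bs] at hmove
  obtain ⟨p, hp⟩ : ∃ p, w ((prm r)⁻¹ p) ≠ w p := by
    by_contra! hall
    exact hmove (congrArg bs (funext hall))
  set q := (prm r)⁻¹ p with hqdef
  have hrq : prm r q = p := apply_inv _ p
  have hpq : p ≠ q := fun e => hp (by rw [← e])
  have hq : μ q = q := by
    by_contra hq
    rcases hpair q hq with h | h <;> rw [hrq] at h
    · exact hpq h
    · exact hp (by rw [h, hwμ])
  have hp' : μ p = p := by
    by_contra hp'
    rcases hpair p hp' with h | h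
    · exact hpq ((prm r).injective (h.trans hrq.symm))
    · have hne : μ (μ p) ≠ μ p := fun e => hp' (μ.injective e)
      rcases hpair (μ p) hne with h' | h'
      · exact hp' ((prm r).injective (h.trans h'.symm)).symm
      · rw [hμμ] at h'
        have e : μ p = q := (prm r).injective (h'.trans hrq.symm)
        exact hpq (by rw [← hq, ← e, hμμ])
  refine ⟨p, q, hpq, hp', hq, ?_, fun v hv hfix => ?_⟩
  · have hevq : bs (ev q) ∈ blk μ hμ := (bs_mem_blk hμ).2 fun i => by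
      rw [ev_apply, ev_apply]
      exact if_congr ⟨fun h => by rw [← hμμ i, h, hq], fun h => by rw [h, hq]⟩ rfl rfl
    have himg : r * bs (ev q) * r⁻¹ = bs (ev p) := by
      rw [conj_bs]
      exact congrArg bs ((pe_ev (prm r) q).trans (by rw [hrq]))
    have h := htr _ hevq
    rw [himg] at h
    rcases h with h | h
    · have h1 := congrFun (bs_injective h) p
      simp [ev_apply, hpq] at h1
    · rw [eq_comm, ← eq_inv_mul_iff_mul_eq, bs_inv, ← bs_add, add_comm] at h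
      exact h
  · rw [conj_bs] at hfix
    exact (congrFun (bs_injective hfix) p).symm

end Wm

/-- the vector of an even set of points -/
def vT (T : Finset (Option Ω)) : Vec Ω := fun i => if some i ∈ T then 1 else 0

theorem ext_vT {T : Finset (Option Ω)} (hT : Even T.card) :
    ext (vT T) = fun k => if k ∈ T then 1 else 0 := by
  refine ext_res (P := fun k => if k ∈ T then (1 : ZMod 2) else 0) ?_
  rw [sum_ite_mem, univ_inter, sum_const, nsmul_eq_mul, mul_one]
  exact (ZMod.natCast_eq_zero_iff_even).2 hT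

theorem peE_swap_eq (p q : Option Ω) (hpq : p ≠ q) (v : Vec Ω) :
    peE (swap p q) v = v + (ext v p + ext v q) • vT {p, q} := by
  have hT : Even ({p, q} : Finset (Option Ω)).card := by rw [card_pair hpq]; exact even_two
  refine ext_injective (funext fun k => ?_)
  rw [ext_peE, ext_add, Pi.add_apply, Perm.inv_def, symm_swap]
  have hs : ext ((ext v p + ext v q) • vT {p, q}) = (ext v p + ext v q) • ext (vT {p, q}) := by
    rcases z2_cases (ext v p + ext v q) with h | h <;> rw [h]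
    · rw [zero_smul, zero_smul]
      funext l
      cases l <;> simp [ext]
    · rw [one_smul, one_smul]
  rw [hs, ext_vT hT, Pi.smul_apply, smul_eq_mul]
  dsimp only
  rcases eq_or_ne k p with rfl | hkp
  · rw [swap_apply_left, if_pos (by simp), mul_one, ← add_assoc, z2_add_self, zero_add]
  rcases eq_or_ne k q with rfl | hkq
  · rw [swap_apply_right, if_pos (by simp), mul_one, add_comm (ext v p), ← add_assoc, z2_add_self, zero_add]
  · rw [swap_apply_of_ne_of_ne hkp hkq, if_neg (by simp [hkp, hkq]), mul_zero, add_zero]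

/-- the points outside the block, as a finset of `Option Ω` -/
def restPts (o₁ o₂ : Ω) : Finset (Option Ω) := univ.filter fun k => k ≠ some o₁ ∧ k ≠ some o₂

theorem mem_restPts {k : Option Ω} : k ∈ restPts o₁ o₂ ↔ k ≠ some o₁ ∧ k ≠ some o₂ := by simp [restPts]

theorem card_restPts (ho : o₁ ≠ o₂) : (restPts o₁ o₂).card + 1 = Fintype.card Ω := by
  have h : restPts o₁ o₂ = ({some o₁, some o₂} : Finset (Option Ω))ᶜ := by ext k; simp [restPts]
  rw [h, card_compl, card_pair (by simp [ho]), Fintype.card_option]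
  have : 2 ≤ Fintype.card Ω := Fintype.one_lt_card_iff.2 ⟨o₁, o₂, ho⟩
  omega

theorem vT_eq_of_subset {T : Finset (Option Ω)} (hT : T ⊆ restPts o₁ o₂) : vT T o₁ = vT T o₂ := by
  rw [vT, vT, if_neg fun h => (mem_restPts.1 (hT h)).1 rfl, if_neg fun h => (mem_restPts.1 (hT h)).2 rfl]

namespace SymData

variable (D : SymData Ω G)

/-- `g` carries the block subgroup onto `blk μ`, and `e` to `t` -/
structure Carry (D : SymData Ω G) (o₁ o₂ : Ω) (g : G) (μ : Perm Ω) (hμ : μ * μ = 1) (e : Wm Ω) : Prop where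
  into : ∀ x ∈ blkS o₁ o₂, ∃ a ∈ Wm.blk μ hμ, g * D.φ x * g⁻¹ = D.φ a
  onto : ∀ a ∈ Wm.blk μ hμ, ∃ x ∈ blkS o₁ o₂, g * D.φ x * g⁻¹ = D.φ a
  mem : e ∈ blkS o₁ o₂
  map : g * D.φ e * g⁻¹ = D.t

variable {g : G} {μ : Perm Ω} {hμ : μ * μ = 1} {e : Wm Ω}

/-- the class of a value among the outside points -/
def cls (o₁ o₂ : Ω) (e : Wm Ω) (d : ZMod 2) : Finset (Option Ω) :=
  (restPts o₁ o₂).filter fun k => ext (Wm.vec e) k = d

theorem even_cls_one (ho : o₁ ≠ o₂) (he : e ∈ blkS o₁ o₂) : Even (cls o₁ o₂ e 1).card := by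
  have h := sum_ext (Wm.vec e)
  rw [← sum_compl_add_sum (restPts o₁ o₂), show (restPts o₁ o₂)ᶜ = {some o₁, some o₂} by
    ext k; simp [restPts, or_iff_not_imp_left], sum_pair (by simp [ho]),
    show ext (Wm.vec e) (some o₁) = ext (Wm.vec e) (some o₂) from (blkS_cases he).1, z2_add_self, zero_add] at h
  rw [← ZMod.natCast_eq_zero_iff_even, cls, card_filter, Nat.cast_sum, ← h]
  refine sum_congr rfl fun k _ => ?_
  rcases z2_cases (ext (Wm.vec e) k) with h' | h' <;> simp [h']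

theorem card_cls (ho : o₁ ≠ o₂) : (cls o₁ o₂ e 1).card + (cls o₁ o₂ e 0).card + 1 = Fintype.card Ω := by
  rw [cls, cls, ← card_union_of_disjoint (disjoint_filter.2 fun k _ h h' => one_ne_zero (h.symm.trans h')),
    ← filter_or, filter_true_of_mem fun k _ => (z2_cases _).symm, card_restPts ho]

/-- the transposition `(p q)` acts on the block subgroup as a transvection -/
theorem conj_swap_blkS {p q : Option Ω} (hp : p ∈ restPts o₁ o₂) (hq : q ∈ restPts o₁ o₂) (hpq : p ≠ q)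
    {x : Wm Ω} (hx : x ∈ blkS o₁ o₂) :
    D.s (swap p q) * D.φ x * (D.s (swap p q))⁻¹ =
      D.φ (Wm.bs ((ext (Wm.vec x) p + ext (Wm.vec x) q) • vT {p, q}) * x) := by
  obtain ⟨hp1, hp2⟩ := mem_restPts.1 hp
  obtain ⟨hq1, hq2⟩ := mem_restPts.1 hq
  have h1 : swap p q (some o₁) = some o₁ := swap_apply_of_ne_of_ne hp1.symm hq1.symm
  have h2 : swap p q (some o₂) = some o₂ := swap_apply_of_ne_of_ne hp2.symm hq2.symm
  obtain ⟨hv, hb | hs⟩ := blkS_cases hx
  · conv_lhs => rw [hb]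
    rw [show D.s (swap p q) * D.φ (Wm.bs (Wm.vec x)) * (D.s (swap p q))⁻¹ = D.b (peE (swap p q) (Wm.vec x)) from
      D.s_conj _ _, peE_swap_eq p q hpq, add_comm, Data.b, Wm.bs_add, ← hb]
  · conv_lhs => rw [hs]
    rw [map_mul, show D.s (swap p q) * (D.φ (Wm.bs (Wm.vec x)) * D.φ (Wm.pm (swap o₁ o₂))) * (D.s (swap p q))⁻¹ =
      D.s (swap p q) * D.φ (Wm.bs (Wm.vec x)) * (D.s (swap p q))⁻¹ *
        (D.s (swap p q) * D.φ (Wm.pm (swap o₁ o₂)) * (D.s (swap p q))⁻¹) by group, D.s_fix_swap h1 h2,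
      mul_inv_cancel_right, show D.s (swap p q) * D.φ (Wm.bs (Wm.vec x)) * (D.s (swap p q))⁻¹ =
        D.b (peE (swap p q) (Wm.vec x)) from D.s_conj _ _, peE_swap_eq p q hpq, add_comm, Data.b, ← map_mul,
      Wm.bs_add, mul_assoc, ← hs]

/-- **the induced transvection on `blk μ`** -/
theorem exists_transvection (H : Carry D o₁ o₂ g μ hμ e) {p q : Option Ω} (hp : p ∈ restPts o₁ o₂)
    (hq : q ∈ restPts o₁ o₂) (hpq : p ≠ q) (he : ext (Wm.vec e) p = ext (Wm.vec e) q) :
    ∃ r c, g * D.φ (Wm.bs (vT {p, q})) * g⁻¹ = D.φ c ∧ c ∈ Wm.blk μ hμ ∧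
      ∀ x ∈ blkS o₁ o₂, ∀ a, g * D.φ x * g⁻¹ = D.φ a →
        r * a * r⁻¹ = if ext (Wm.vec x) p = ext (Wm.vec x) q then a else a * c := by
  have hcmem : Wm.bs (vT {p, q}) ∈ blkS o₁ o₂ := bs_mem_blkS (vT_eq_of_subset (by simp [insert_subset_iff, hp, hq]))
  obtain ⟨c, hc, hcg⟩ := H.into _ hcmem
  set n := g * D.s (swap p q) * g⁻¹ with hn
  have hnt : n * D.t = D.t * n := by
    have h := D.conj_swap_blkS hp hq hpq H.mem
    rw [he, z2_add_self, zero_smul, Wm.bs_zero, one_mul, mul_inv_eq_iff_eq_mul] at h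
    rw [hn, ← H.map]
    calc g * D.s (swap p q) * g⁻¹ * (g * D.φ e * g⁻¹) = g * (D.s (swap p q) * D.φ e) * g⁻¹ := by group
      _ = g * (D.φ e * D.s (swap p q)) * g⁻¹ := by rw [h]
      _ = _ := by group
  refine ⟨D.ρ ⟨n, Subgroup.mem_centralizer_singleton_iff.2 hnt⟩, c, hcg, hc, fun x hx a ha => ?_⟩
  have hconj : n * D.φ a * n⁻¹ = if ext (Wm.vec x) p = ext (Wm.vec x) q then D.φ a else D.φ (a * c) := by
    have h := D.conj_swap_blkS hp hq hpq hx
    rw [hn, ← ha, show g * D.s (swap p q) * g⁻¹ * (g * D.φ x * g⁻¹) * (g * D.s (swap p q) * g⁻¹)⁻¹ =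
      g * (D.s (swap p q) * D.φ x * (D.s (swap p q))⁻¹) * g⁻¹ by group, h]
    split_ifs with hxv
    · rw [hxv, z2_add_self, zero_smul, Wm.bs_zero, one_mul]
    · rw [(z2_cases (ext (Wm.vec x) p + ext (Wm.vec x) q)).resolve_left fun h0 => hxv (z2_eq_of_add h0), one_smul,
        map_mul D.φ a c, ← ha, ← hcg, Wm.blk_comm _ hcmem hx, map_mul]
      group
  have hr : D.ρ ⟨n, Subgroup.mem_centralizer_singleton_iff.2 hnt⟩ * a *
      (D.ρ ⟨n, Subgroup.mem_centralizer_singleton_iff.2 hnt⟩)⁻¹ =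
      if ext (Wm.vec x) p = ext (Wm.vec x) q then a else a * c := by
    have key : ∀ z, n * D.φ a * n⁻¹ = D.φ z →
        D.ρ ⟨n, Subgroup.mem_centralizer_singleton_iff.2 hnt⟩ * a *
          (D.ρ ⟨n, Subgroup.mem_centralizer_singleton_iff.2 hnt⟩)⁻¹ = z := fun z hz => by
      have h := congrArg D.ρ (show (⟨n, Subgroup.mem_centralizer_singleton_iff.2 hnt⟩ *
        ⟨D.φ a, D.toData.phi_mem a⟩ * ⟨n, Subgroup.mem_centralizer_singleton_iff.2 hnt⟩⁻¹ :
          Subgroup.centralizer ({D.φ (Wm.tm Ω)} : Set G)) = ⟨D.φ z, D.toData.phi_mem z⟩ from Subtype.ext hz)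
      rwa [map_mul, map_mul, map_inv, D.toData.retr', D.toData.retr'] at h
    refine key _ ?_
    rw [hconj, apply_ite D.φ]
  exact hr

/-- a pair whose image is a pair of fixed points of `μ` -/
def Good (D : SymData Ω G) (g : G) (μ : Perm Ω) (e : Wm Ω) (o₁ o₂ : Ω) (p q : Option Ω) : Prop :=
  p ≠ q ∧ p ∈ restPts o₁ o₂ ∧ q ∈ restPts o₁ o₂ ∧ ext (Wm.vec e) p = ext (Wm.vec e) q ∧
    ∃ p' q', p' ≠ q' ∧ μ p' = p' ∧ μ q' = q' ∧
      g * D.φ (Wm.bs (vT {p, q})) * g⁻¹ = D.φ (Wm.bs (ev p' + ev q')) ∧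
      ∀ x ∈ blkS o₁ o₂, ∀ v, g * D.φ x * g⁻¹ = D.φ (Wm.bs v) → ext (Wm.vec x) p = ext (Wm.vec x) q → v p' = v q'

theorem good_of_moved (H : Carry D o₁ o₂ g μ hμ e) {p q : Option Ω} (hp : p ∈ restPts o₁ o₂)
    (hq : q ∈ restPts o₁ o₂) (hpq : p ≠ q) (he : ext (Wm.vec e) p = ext (Wm.vec e) q)
    {x : Wm Ω} (hx : x ∈ blkS o₁ o₂) (hne : ext (Wm.vec x) p ≠ ext (Wm.vec x) q)
    {w : Vec Ω} (hw : g * D.φ x * g⁻¹ = D.φ (Wm.bs w)) : Good D g μ e o₁ o₂ p q := by
  obtain ⟨r, c, hcg, hc, hr⟩ := D.exists_transvection H hp hq hpq he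
  have hwmem : Wm.bs w ∈ Wm.blk μ hμ := by
    obtain ⟨a, ha, hag⟩ := H.into x hx
    rwa [← D.inj (hag.symm.trans hw)]
  have htr : ∀ a ∈ Wm.blk μ hμ, r * a * r⁻¹ = a ∨ r * a * r⁻¹ = a * c := fun a ha => by
    obtain ⟨y, hy, hyg⟩ := H.onto a ha
    rw [hr y hy a hyg]
    split_ifs
    exacts [Or.inl rfl, Or.inr rfl]
  have hmove : r * Wm.bs w * r⁻¹ ≠ Wm.bs w := by
    rw [hr x hx _ hw, if_neg hne, ne_eq, mul_eq_left]
    rintro rfl
    have h0 : Wm.bs (vT {p, q}) = 1 := D.inj (by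
      rw [map_one] at hcg ⊢
      exact conj_eq_one_iff.1 hcg)
    have h1 := congrFun (congrArg ext (Wm.bs_injective (h0.trans Wm.bs_zero.symm))) p
    rw [ext_vT (by rw [card_pair hpq]; exact even_two)] at h1
    simp [ext] at h1
    cases p <;> simp at h1
  obtain ⟨p', q', hne', hp', hq', hce, hfix⟩ := Wm.transvection_centre hμ htr hwmem hmove
  refine ⟨hpq, hp, hq, he, p', q', hne', hp', hq', by rw [hcg, hce], fun y hy v hyv hpv => ?_⟩
  obtain ⟨a, ha, hag⟩ := H.into y hy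
  obtain rfl : a = Wm.bs v := D.inj (hag.symm.trans hyv)
  exact hfix v ha (by rw [hr y hy _ hag, if_pos hpv])

/-- a third point of the same class makes a pair good -/
theorem good_of_third (H : Carry D o₁ o₂ g μ hμ e) {p q r : Option Ω} (hp : p ∈ restPts o₁ o₂)
    (hq : q ∈ restPts o₁ o₂) (hr : r ∈ restPts o₁ o₂) (hpq : p ≠ q) (hpr : p ≠ r) (hqr : q ≠ r)
    (he : ext (Wm.vec e) p = ext (Wm.vec e) q) (he' : ext (Wm.vec e) q = ext (Wm.vec e) r) :
    Good D g μ e o₁ o₂ p q := by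
  obtain ⟨r', c, hcg, hc, hrc⟩ := D.exists_transvection H hq hr hqr he'
  have hx : Wm.bs (vT {q, r}) ∈ blkS o₁ o₂ := bs_mem_blkS (vT_eq_of_subset (by simp [insert_subset_iff, hq, hr]))
  have htr : ∀ a ∈ Wm.blk μ hμ, r' * a * r'⁻¹ = a ∨ r' * a * r'⁻¹ = a * c := fun a ha => by
    obtain ⟨y, hy, hyg⟩ := H.onto a ha
    rw [hrc y hy a hyg]
    split_ifs
    exacts [Or.inl rfl, Or.inr rfl]
  have hpq' : Wm.bs (vT {p, q}) ∈ blkS o₁ o₂ := bs_mem_blkS (vT_eq_of_subset (by simp [insert_subset_iff, hp, hq]))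
  obtain ⟨a, ha, hag⟩ := H.into _ hpq'
  have hval : ∀ (u v : Option Ω), u ≠ v → ∀ k, ext (Wm.vec (Wm.bs (vT {u, v}))) k = if k = u ∨ k = v then 1 else 0 :=
    fun u v huv k => by
      rw [Wm.vec_bs, ext_vT (by rw [card_pair huv]; exact even_two)]
      simp
  have hmove : r' * a * r'⁻¹ ≠ a := by
    rw [hrc _ hpq' a hag, if_neg (by rw [hval p q hpq, hval p q hpq]; simp [hpr.symm, hqr.symm]), ne_eq, mul_eq_left]
    rintro rfl
    have h0 : Wm.bs (vT {q, r}) = 1 := D.inj (by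
      rw [map_one] at hcg ⊢
      exact conj_eq_one_iff.1 hcg)
    have h1 := hval q r hqr q
    rw [h0, Wm.vec_one] at h1
    cases q <;> simp [ext] at h1
  have hcbase : Wm.prm c = 1 := Wm.transvection_centre_base hμ htr ha hmove
  refine D.good_of_moved H hp hq hpq he hx (w := Wm.vec c) ?_ ?_
  · rw [hval q r hqr, hval q r hqr]
    simp [hpq, hpr]
  · rw [hcg, ← Wm.eq_bs_of_mem hcbase]

/-- **pairs of good points inject into the fixed points of `μ`** -/
theorem good_pairs_bound (H : Carry D o₁ o₂ g μ hμ e) {ι : Type*} [Fintype ι] (P Q : ι → Option Ω)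
    (hgood : ∀ i, Good D g μ e o₁ o₂ (P i) (Q i))
    (hdisj : ∀ i j, i ≠ j → P i ≠ P j ∧ P i ≠ Q j ∧ Q i ≠ P j ∧ Q i ≠ Q j) :
    2 * Fintype.card ι ≤ (univ.filter fun i => μ i = i).card ∧
      (2 * Fintype.card ι = (univ.filter fun i => μ i = i).card →
        g * D.b (∑ i, vT {P i, Q i}) * g⁻¹ = D.b fun i => if μ i = i then 1 else 0) := by
  classical
  choose hne hP hQ hcl p' q' hne' hp' hq' hg hfix using hgood
  let pts : ι × Fin 2 → {i : Ω // μ i = i} := fun z => if z.2 = 0 then ⟨p' z.1, hp' z.1⟩ else ⟨q' z.1, hq' z.1⟩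
  have hval : ∀ i j, i ≠ j → (ev (p' j) + ev (q' j) : Vec Ω) (p' i) = (ev (p' j) + ev (q' j) : Vec Ω) (q' i) := by
    intro i j hij
    have hx : Wm.bs (vT {P j, Q j}) ∈ blkS o₁ o₂ :=
      bs_mem_blkS (vT_eq_of_subset (by simp [insert_subset_iff, hP, hQ]))
    refine hfix i _ hx _ (hg j) ?_
    obtain ⟨h1, h2, h3, h4⟩ := hdisj i j hij
    rw [Wm.vec_bs, ext_vT (by rw [card_pair (hne j)]; exact even_two)]
    simp [h1, h2, h3, h4]
  have hdist : ∀ i j, i ≠ j → ¬ ((p' i = p' j ∧ q' i = q' j) ∨ (p' i = q' j ∧ q' i = p' j)) := by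
    intro i j hij h
    have e1 : g * D.φ (Wm.bs (vT {P i, Q i})) * g⁻¹ = g * D.φ (Wm.bs (vT {P j, Q j})) * g⁻¹ := by
      rw [hg, hg]
      rcases h with ⟨h1, h2⟩ | ⟨h1, h2⟩ <;> rw [h1, h2]
      rw [add_comm]
    have e2 := congrFun (congrArg ext (Wm.bs_injective (D.inj (mul_left_cancel (mul_right_cancel e1))))) (P i)
    rw [ext_vT (by rw [card_pair (hne i)]; exact even_two), ext_vT (by rw [card_pair (hne j)]; exact even_two)] at e2
    obtain ⟨h1, h2, -, -⟩ := hdisj i j hij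
    simp [h1, h2] at e2
  have hsep : ∀ i j, i ≠ j → p' i ≠ p' j ∧ p' i ≠ q' j ∧ q' i ≠ p' j ∧ q' i ≠ q' j := by
    intro i j hij
    have h := hval i j hij
    have hd := hdist i j hij
    simp only [Pi.add_apply, ev_apply] at h
    have n1 := hne' i
    have n2 := hne' j
    refine ⟨fun hA => ?_, fun hA => ?_, fun hA => ?_, fun hA => ?_⟩ <;>
      by_cases b1 : p' i = p' j <;> by_cases b2 : p' i = q' j <;>
      by_cases b3 : q' i = p' j <;> by_cases b4 : q' i = q' j <;> simp_all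
  have hinj : Function.Injective pts := by
    rintro ⟨i, s⟩ ⟨j, s'⟩ h
    have h' := congrArg Subtype.val h
    rcases eq_or_ne i j with rfl | hij
    · fin_cases s <;> fin_cases s' <;> simp [pts, hne' i, (hne' i).symm] at h' ⊢
    · obtain ⟨h1, h2, h3, h4⟩ := hsep i j hij
      fin_cases s <;> fin_cases s' <;> simp [pts, h1, h2, h3, h4] at h'
  have hle := Fintype.card_le_of_injective pts hinj
  have hF : Fintype.card {i : Ω // μ i = i} = (univ.filter fun i => μ i = i).card := Fintype.card_subtype _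
  rw [Fintype.card_prod, Fintype.card_fin, hF, mul_comm] at hle
  refine ⟨hle, fun heq => ?_⟩
  have hbij := (Fintype.bijective_iff_injective_and_card pts).2 ⟨hinj, by
    rw [Fintype.card_prod, Fintype.card_fin, hF, mul_comm, heq]⟩
  let conjHom : Multiplicative (Vec Ω) →* G :=
    MonoidHom.mk' (fun v => g * D.b v.toAdd * g⁻¹) fun v w => by rw [toAdd_mul, D.b_add]; group
  let bHom : Multiplicative (Vec Ω) →* G :=
    MonoidHom.mk' (fun v => D.b v.toAdd) fun v w => by rw [toAdd_mul, D.b_add]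
  have hs : ∀ s : Finset ι, g * D.b (∑ i ∈ s, vT {P i, Q i}) * g⁻¹ = D.b (∑ i ∈ s, (ev (p' i) + ev (q' i))) := by
    intro s
    induction s using Finset.induction_on with
    | empty => simp [D.b_zero]
    | insert i s hi ih =>
      rw [sum_insert hi, sum_insert hi, D.b_add, D.b_add, ← ih, ← show g * D.b (vT {P i, Q i}) * g⁻¹ =
        D.b (ev (p' i) + ev (q' i)) from hg i]
      group
  rw [hs]
  refine congrArg D.b (funext fun x => ?_)
  rw [Finset.sum_apply]
  simp only [Pi.add_apply, ev_apply]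
  by_cases hx : μ x = x
  · rw [if_pos hx]
    obtain ⟨⟨i, s⟩, his⟩ := hbij.2 ⟨x, hx⟩
    have his' := congrArg Subtype.val his
    rw [sum_eq_single i]
    · fin_cases s <;> simp [pts] at his' <;> subst his' <;> simp [hne' i, (hne' i).symm]
    · intro j _ hji
      obtain ⟨h1, h2, h3, h4⟩ := hsep i j hji.symm
      fin_cases s <;> simp [pts] at his' <;> subst his' <;> simp [h1, h2, h3, h4]
    · exact fun h => absurd (mem_univ i) h
  · rw [if_neg hx]
    refine sum_eq_zero fun i _ => ?_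
    simp [show x ≠ p' i from fun h => hx (h ▸ hp' i), show x ≠ q' i from fun h => hx (h ▸ hq' i)]

/-- even sets of good pairs -/
theorem good_sets_bound (H : Carry D o₁ o₂ g μ hμ e) (T : ZMod 2 → Finset (Option Ω))
    (hT : ∀ d, T d ⊆ cls o₁ o₂ e d ∧ Even (T d).card)
    (hgood : ∀ d, ∀ p ∈ T d, ∀ q ∈ T d, p ≠ q → Good D g μ e o₁ o₂ p q) :
    (T 1).card + (T 0).card ≤ (univ.filter fun i => μ i = i).card ∧
      ((T 1).card + (T 0).card = (univ.filter fun i => μ i = i).card →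
        g * D.b (vT (T 1 ∪ T 0)) * g⁻¹ = D.b fun i => if μ i = i then 1 else 0) := by
  classical
  have hex : ∀ d, ∃ l, (T d).card = l * 2 := fun d =>
    ⟨(T d).card / 2, by have := (hT d).2; rw [Nat.even_iff] at this; omega⟩
  choose l hl using hex
  let f : ∀ d, Fin (l d) × Fin 2 ≃ (T d : Finset (Option Ω)) := fun d =>
    finProdFinEquiv.trans ((finCongr (hl d).symm).trans (T d).equivFin.symm)
  let P : (Σ d, Fin (l d)) → Option Ω := fun z => f z.1 (z.2, 0)
  let Q : (Σ d, Fin (l d)) → Option Ω := fun z => f z.1 (z.2, 1)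
  have hmemcls : ∀ d (k : (T d : Finset (Option Ω))), ext (Wm.vec e) k = d := fun d k =>
    (mem_filter.1 ((hT d).1 k.2)).2
  have hsame : ∀ {d d'} {k : (T d : Finset (Option Ω))} {k' : (T d' : Finset (Option Ω))},
      (k : Option Ω) = k' → d = d' := fun {d d' k k'} h => by rw [← hmemcls d k, h, hmemcls]
  have hdisj : ∀ i j, i ≠ j → P i ≠ P j ∧ P i ≠ Q j ∧ Q i ≠ P j ∧ Q i ≠ Q j := by
    rintro ⟨d, a⟩ ⟨d', b⟩ hij
    refine ⟨fun h => ?_, fun h => ?_, fun h => ?_, fun h => ?_⟩ <;> obtain rfl := hsame h <;>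
      have h' := (f d).injective (Subtype.ext h) <;> simp at h' <;> exact hij (by rw [h'])
  obtain ⟨h1, h2⟩ := D.good_pairs_bound H P Q (fun z => hgood z.1 _ (f z.1 (z.2, 0)).2 _ (f z.1 (z.2, 1)).2
    (fun h => by have := (f z.1).injective (Subtype.ext h); simp at this)) hdisj
  have hcard : 2 * Fintype.card (Σ d, Fin (l d)) = (T 1).card + (T 0).card := by
    rw [Fintype.card_sigma, show (univ : Finset (ZMod 2)) = {0, 1} from by decide, sum_pair zero_ne_one,
      Fintype.card_fin, Fintype.card_fin, hl, hl]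
    ring
  rw [hcard] at h1 h2
  refine ⟨h1, fun heq => ?_⟩
  rw [← h2 heq]
  refine congrArg (fun v => g * D.b v * g⁻¹) (funext fun i => ?_)
  rw [Finset.sum_apply]
  show (if some i ∈ T 1 ∪ T 0 then (1 : ZMod 2) else 0) = ∑ z, if some i ∈ ({P z, Q z} : Finset _) then 1 else 0
  by_cases hi : some i ∈ T 1 ∪ T 0
  · rw [if_pos hi]
    obtain ⟨d, hd⟩ : ∃ d, some i ∈ T d := by
      rcases mem_union.1 hi with h | h
      exacts [⟨1, h⟩, ⟨0, h⟩]
    obtain ⟨⟨a, s⟩, has⟩ := (f d).surjective ⟨some i, hd⟩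
    have has' := congrArg Subtype.val has
    rw [sum_eq_single (⟨d, a⟩ : Σ d, Fin (l d)), if_pos]
    · fin_cases s <;> simp at has' <;> simp [P, Q, has']
    · intro z _ hz
      obtain ⟨h1, h2, h3, h4⟩ := hdisj ⟨d, a⟩ z hz.symm
      refine if_neg ?_
      simp only [mem_insert, mem_singleton, not_or]
      fin_cases s <;> simp at has' <;> rw [← has']
      exacts [⟨h1, h2⟩, ⟨h3, h4⟩]
    · exact fun h => absurd (mem_univ _) h
  · rw [if_neg hi]
    refine (sum_eq_zero fun z _ => if_neg fun h => hi ?_).symm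
    have hz : ∀ k : (T z.1 : Finset (Option Ω)), (k : Option Ω) ∈ T 1 ∪ T 0 := fun k => by
      rcases z2_cases z.1 with h' | h'
      · exact mem_union_right _ (h' ▸ k.2)
      · exact mem_union_left _ (h' ▸ k.2)
    rw [mem_insert, mem_singleton] at h
    rcases h with h | h <;> rw [h] <;> exact hz _

end SymData

end CfsgLib.KondoAlt
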