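import Cfsg.Agent.Lib.Invol.KondoAlt.Model

/-!
# Centralizers of involutions in the model
-/

set_option autoImplicit false
set_option linter.unusedSectionVars false
set_option linter.style.haveILetI false

namespace CfsgLib.KondoAlt

open Equiv Finset
open scoped Nat

variable {Ω : Type*} [Fintype Ω] [DecidableEq Ω]

theorem cycleType_invol {π : Perm Ω} (hπ : π * π = 1) :
    π.cycleType = Multiset.replicate (π.support.card / 2) 2 := by
  have h2 : ∀ m ∈ π.cycleType, m = 2 := fun m hm => by
    have h1 : m ∣ 2 := (Perm.dvd_of_mem_cycleType hm).trans (orderOf_dvd_of_pow_eq_one (by rw [pow_two, hπ]))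
    exact le_antisymm (Nat.le_of_dvd two_pos h1) (Perm.two_le_of_mem_cycleType hm)
  have h3 := Multiset.eq_replicate_card.2 h2
  have h4 : π.support.card = 2 * Multiset.card π.cycleType := by
    rw [← Perm.sum_cycleType, h3, Multiset.sum_replicate, Multiset.card_replicate, smul_eq_mul, mul_comm]
  rw [h4, Nat.mul_div_cancel_left _ two_pos]
  exact h3

theorem support_card_invol {π : Perm Ω} (hπ : π * π = 1) :
    π.support.card = 2 * (π.support.card / 2) := by
  conv_lhs => rw [← Perm.sum_cycleType, cycleType_invol hπ, Multiset.sum_replicate, smul_eq_mul, mul_comm]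

theorem sign_invol {π : Perm Ω} (hπ : π * π = 1) : Perm.sign π = (-1) ^ (π.support.card / 2) := by
  rw [Perm.sign_of_cycleType, cycleType_invol hπ, Multiset.sum_replicate, Multiset.card_replicate, smul_eq_mul,
    pow_add, mul_comm (π.support.card / 2), pow_mul]
  simp

theorem nat_card_centralizer_invol {π : Perm Ω} (hπ : π * π = 1) :
    Nat.card (Subgroup.centralizer ({π} : Set (Perm Ω))) =
      (Fintype.card Ω - π.support.card)! * (2 ^ (π.support.card / 2) * (π.support.card / 2)!) := by
  rw [Perm.nat_card_centralizer, Perm.sum_cycleType, cycleType_invol hπ, Multiset.prod_replicate, mul_assoc]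
  rcases Nat.eq_zero_or_pos (π.support.card / 2) with h | h
  · simp [h]
  · rw [show (Multiset.replicate (π.support.card / 2) 2).toFinset = {2} by
      ext m
      simp [Multiset.mem_replicate, h.ne'], prod_singleton, Multiset.count_replicate_self]

/-- vectors constant on the cycles of an involution -/
theorem card_vec_fixed {π : Perm Ω} (hπ : π * π = 1) :
    Nat.card {v : Vec Ω // ∀ i, v (π i) = v i} = 2 ^ (Fintype.card Ω - π.support.card / 2) := by
  classical
  have hππ : ∀ i, π (π i) = i := fun i => by rw [← Perm.mul_apply, hπ]; rfl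
  let ord := Fintype.equivFin Ω
  let R : Finset Ω := univ.filter fun i => ord (π i) < ord i
  let R' : Finset Ω := univ.filter fun i => ord i < ord (π i)
  have hRR' : R'.card = R.card := card_bij (fun i _ => π i) (fun i hi => by
      simp only [R, R', mem_filter, mem_univ, true_and, hππ] at hi ⊢; exact hi)
    (fun i _ j _ e => π.injective e) (fun j hj => ⟨π j, by
      simp only [R, R', mem_filter, mem_univ, true_and, hππ] at hj ⊢; exact hj, hππ j⟩)
  have hsupp : π.support = R' ∪ R := by
    ext i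
    simp only [R, R', Perm.mem_support, mem_union, mem_filter, mem_univ, true_and]
    exact ⟨fun h => lt_or_gt_of_ne fun e => h (ord.injective e).symm,
      fun h e => by rw [e] at h; exact h.elim (lt_irrefl _) (lt_irrefl _)⟩
  have hR : π.support.card / 2 = R.card := by
    rw [hsupp, card_union_of_disjoint (s := R') (t := R) (disjoint_filter.2 fun i _ h h' => lt_asymm h h'), hRR',
      ← two_mul, Nat.mul_div_cancel_left _ two_pos]
  have hrep : ∀ i, i ∈ R → π i ∈ Rᶜ := fun i hi => by
    simp only [R, mem_compl, mem_filter, mem_univ, true_and, hππ] at hi ⊢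
    exact lt_asymm hi
  let e : {v : Vec Ω // ∀ i, v (π i) = v i} ≃ ((Rᶜ : Finset Ω) → ZMod 2) :=
    { toFun := fun v i => v.1 i
      invFun := fun f => ⟨fun i => if h : i ∈ R then f ⟨π i, hrep i h⟩ else f ⟨i, mem_compl.2 h⟩, fun i => by
        by_cases h : i ∈ R
        · have h' : π i ∉ R := mem_compl.1 (hrep i h)
          simp [h, h']
        · by_cases h' : π i ∈ R
          · simp [h, h', hππ]
          · have hfix : π i = i := by
              simp only [R, mem_filter, mem_univ, true_and, hππ, not_lt] at h h'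
              exact (ord.injective (le_antisymm h h')).symm
            simp [hfix]⟩
      left_inv := fun v => Subtype.ext (funext fun i => by
        by_cases h : i ∈ R
        · simp only [dif_pos h]; exact v.2 i
        · simp [h])
      right_inv := fun f => funext fun i => by simp [dif_neg (mem_compl.1 i.2)] }
  rw [Nat.card_congr e, Nat.card_fun, Nat.card_zmod, Nat.card_eq_fintype_card, Fintype.card_coe, card_compl, hR]

namespace Wm

theorem mem_centralizer_bs {y : Wm Ω} (hy : prm y * prm y = 1) (v : Vec Ω) :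
    bs v * y = y * bs v ↔ ∀ i, v (prm y i) = v i := by
  constructor
  · intro h i
    have h1 := congrFun (bs_injective ((conj_bs y v).symm.trans (mul_inv_eq_iff_eq_mul.2 h.symm))) i
    rwa [inv_eq_of_mul_eq_one_right hy] at h1
  · intro h
    refine (mul_inv_eq_iff_eq_mul.1 ?_).symm
    rw [conj_bs, inv_eq_of_mul_eq_one_right hy]
    exact congrArg bs (funext h)

theorem card_centralizer_eq {y : Wm Ω} (hy : y * y = 1) :
    Nat.card (Subgroup.centralizer ({y} : Set (Wm Ω))) =
      2 ^ (Fintype.card Ω - (prm y).support.card / 2) *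
        Nat.card ((prmHom Ω).comp (Subgroup.centralizer ({y} : Set (Wm Ω))).subtype).range := by
  have hπ := ((sq_eq_one_iff y).1 hy).1
  let C := Subgroup.centralizer ({y} : Set (Wm Ω))
  let f := (prmHom Ω).comp C.subtype
  have hker : Nat.card f.ker = 2 ^ (Fintype.card Ω - (prm y).support.card / 2) := by
    rw [← card_vec_fixed hπ]
    exact Nat.card_congr
      { toFun := fun x => ⟨vec ((x : C) : Wm Ω), (mem_centralizer_bs hπ _).1 (by
          have h1 : prm ((x : C) : Wm Ω) = 1 := x.2
          rw [← eq_bs_of_mem (mem_baseG.2 h1)]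
          exact Subgroup.mem_centralizer_singleton_iff.1 (x : C).2)⟩
        invFun := fun v => ⟨⟨bs v.1, Subgroup.mem_centralizer_singleton_iff.2 ((mem_centralizer_bs hπ _).2 v.2)⟩, rfl⟩
        left_inv := fun x => Subtype.ext (Subtype.ext (eq_bs_of_mem (mem_baseG.2 (x.2 : prm _ = 1))).symm)
        right_inv := fun _ => rfl }
  rw [← hker, ← Subgroup.index_ker, mul_comm, Subgroup.index_mul_card]

/-- **the centralizer of an involution**, up to divisibility -/
theorem card_centralizer_dvd {y : Wm Ω} (hy : y * y = 1) {j k : ℕ} (hj : (prm y).support.card / 2 = j)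
    (hk : (univ.filter fun i => prm y i = i ∧ vec y i = 1).card = k) :
    Nat.card (Subgroup.centralizer ({y} : Set (Wm Ω))) ∣
      2 ^ (Fintype.card Ω - j) * (k ! * ((Fintype.card Ω - k - 2 * j)! * (2 ^ j * j !))) := by
  classical
  have hπ := ((sq_eq_one_iff y).1 hy).1
  rw [card_centralizer_eq hy, hj]
  refine Nat.mul_dvd_mul_left _ ?_
  set C := Subgroup.centralizer ({y} : Set (Wm Ω)) with hC
  let H := ((prmHom Ω).comp C.subtype).range
  let P : Ω → Prop := fun i => prm y i = i ∧ vec y i = 1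
  have hH : ∀ ρ ∈ H, ρ * prm y = prm y * ρ ∧ ∀ i, P (ρ i) ↔ P i := by
    rintro _ ⟨x, rfl⟩
    have hx := Subgroup.mem_centralizer_singleton_iff.1 x.2
    have hp : prm (x : Wm Ω) * prm y = prm y * prm (x : Wm Ω) := congrArg prm hx
    refine ⟨hp, fun i => ?_⟩
    show P (prm (x : Wm Ω) i) ↔ P i
    have hc : prm y (prm (x : Wm Ω) i) = prm (x : Wm Ω) (prm y i) := (DFunLike.congr_fun hp i).symm
    have hfix : prm y (prm (x : Wm Ω) i) = prm (x : Wm Ω) i ↔ prm y i = i := by
      rw [hc]
      exact (prm (x : Wm Ω)).injective.eq_iff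
    simp only [P, hfix]
    refine and_congr_right fun hi => ?_
    have h1 := congrFun (congrArg vec hx) (prm (x : Wm Ω) i)
    rw [vec_mul, vec_mul, inv_apply, Perm.inv_eq_iff_eq.2 (hfix.2 hi).symm, add_comm] at h1
    rw [add_right_cancel h1]
  have hnotP : ∀ i, ¬ P (prm y i) ↔ ¬ P i := fun i => by
    refine not_congr ⟨fun h => ?_, fun h => ?_⟩
    · have h1 := (prm y).injective h.1
      rw [h1] at h
      exact h
    · rw [h.1]; exact h
  let f : H →* Perm {i // P i} × Subgroup.centralizer ({(prm y).subtypePerm (p := fun i => ¬ P i) hnotP} : Set (Perm {i // ¬ P i})) :=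
    { toFun := fun ρ => ((ρ : Perm Ω).subtypePerm (hH ρ ρ.2).2,
        ⟨(ρ : Perm Ω).subtypePerm (fun i => not_congr ((hH ρ ρ.2).2 i)),
          Subgroup.mem_centralizer_singleton_iff.2 (Equiv.ext fun i => Subtype.ext (by
            show (ρ : Perm Ω) (prm y i) = prm y ((ρ : Perm Ω) i)
            exact DFunLike.congr_fun (hH ρ ρ.2).1 (i : Ω)))⟩)
      map_one' := rfl
      map_mul' := fun _ _ => rfl }
  have hf : Function.Injective f := by
    intro a b h
    refine Subtype.ext (Equiv.ext fun i => ?_)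
    by_cases hi : P i
    · exact congrArg Subtype.val (DFunLike.congr_fun (congrArg Prod.fst h) ⟨i, hi⟩)
    · exact congrArg Subtype.val (DFunLike.congr_fun (congrArg Subtype.val (congrArg Prod.snd h)) ⟨i, hi⟩)
  refine (Subgroup.card_dvd_of_injective f hf).trans (dvd_of_eq ?_)
  have hcard : Fintype.card {i // ¬ P i} = Fintype.card Ω - k := by
    rw [Fintype.card_subtype_compl, Fintype.card_subtype, hk]
  have hsupp : ((prm y).subtypePerm (p := fun i => ¬ P i) hnotP).support.card = (prm y).support.card := by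
    rw [← Perm.sum_cycleType, ← Perm.cycleType_ofSubtype, Perm.sum_cycleType,
      Perm.ofSubtype_subtypePerm (p := fun i => ¬ P i) hnotP fun i hi h => hi h.1]
  rw [Nat.card_prod, Nat.card_perm, Nat.card_eq_fintype_card, Fintype.card_subtype, hk,
    nat_card_centralizer_invol (π := (prm y).subtypePerm (p := fun i => ¬ P i) hnotP)
      (Equiv.ext fun i => Subtype.ext (DFunLike.congr_fun hπ (i : Ω))), hcard, hsupp, hj,
    support_card_invol hπ, hj]

variable {o₁ o₂ : Ω}

theorem card_blk_swap (ho : o₁ ≠ o₂) :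
    Nat.card (blk (swap o₁ o₂) (swap_mul_self _ _)) = 2 ^ Fintype.card Ω := by
  classical
  have hN : 1 ≤ Fintype.card Ω := Fintype.card_pos_iff.2 ⟨o₁⟩
  have hs : (swap o₁ o₂).support.card / 2 = 1 := by rw [Perm.card_support_swap ho]
  rw [show Fintype.card Ω = (Fintype.card Ω - 1) + 1 by omega, pow_succ]
  rw [show (2 : ℕ) ^ (Fintype.card Ω - 1) = Nat.card {v : Vec Ω // ∀ i, v (swap o₁ o₂ i) = v i} by
    rw [card_vec_fixed (swap_mul_self _ _), hs]]
  conv_rhs => arg 2; rw [show (2 : ℕ) = Nat.card Bool by simp]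
  rw [← Nat.card_prod]
  have hμμ : ∀ i, swap o₁ o₂ (swap o₁ o₂ i) = i := swap_apply_self _ _
  refine Nat.card_congr
    { toFun := fun x => (⟨vec (x : Wm Ω), x.2.2⟩, decide (prm (x : Wm Ω) o₁ = o₂))
      invFun := fun z => ⟨bs z.1.1 * pm (if z.2 then swap o₁ o₂ else 1), ?_⟩
      left_inv := fun x => Subtype.ext (ext' (funext fun i => by simp [vec_mul]) (Equiv.ext fun i => ?_))
      right_inv := fun z => Prod.ext (Subtype.ext (funext fun i => by simp [vec_mul])) ?_ }
  · refine mul_mem ((bs_mem_blk _).2 z.1.2) ⟨fun i => ?_, fun _ => rfl⟩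
    cases z.2
    · exact Or.inl rfl
    · exact Or.inr rfl
  · rw [prm_mul, prm_bs, one_mul, prm_pm]
    have h1 := x.2.1
    have h2 : ∀ i, prm (x : Wm Ω) (swap o₁ o₂ i) = swap o₁ o₂ (prm (x : Wm Ω) i) := blk_conj _ x.2
    rcases h1 o₁ with h | h
    · simp only [h, decide_eq_true_eq, if_neg ho]
      rcases h1 i with h' | h'
      · exact h'.symm
      rcases eq_or_ne i o₁ with rfl | hi1
      · exact h.symm
      rcases eq_or_ne i o₂ with rfl | hi2
      · have h3 := h2 o₁
        rw [h, swap_apply_left] at h3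
        exact h3.symm
      · rw [h', swap_apply_of_ne_of_ne hi1 hi2]; rfl
    · rw [swap_apply_left] at h
      simp only [h, decide_true, if_true]
      rcases h1 i with h' | h'
      · rcases eq_or_ne i o₁ with rfl | hi1
        · exact absurd (h'.symm.trans h) ho
        rcases eq_or_ne i o₂ with rfl | hi2
        · have h3 := h2 o₁
          rw [h, swap_apply_left, swap_apply_right] at h3
          exact absurd (h3.symm.trans h') ho
        · rw [h', swap_apply_of_ne_of_ne hi1 hi2]
      · exact h'.symm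
  · simp only [prm_mul, prm_bs, one_mul, prm_pm]
    cases z.2 <;> simp [ho]

theorem card_centralizer_swap (ho : o₁ ≠ o₂) :
    Nat.card (Subgroup.centralizer ({pm (swap o₁ o₂)} : Set (Wm Ω))) =
      2 ^ Fintype.card Ω * (Fintype.card Ω - 2)! := by
  classical
  have hN : 1 ≤ Fintype.card Ω := Fintype.card_pos_iff.2 ⟨o₁⟩
  have hσ : pm (swap o₁ o₂) * pm (swap o₁ o₂) = (1 : Wm Ω) := by rw [← pm_mul, swap_mul_self]; rfl
  have hs : (swap o₁ o₂).support.card = 2 := Perm.card_support_swap ho
  rw [card_centralizer_eq hσ, prm_pm]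
  rw [show ((prmHom Ω).comp (Subgroup.centralizer ({pm (swap o₁ o₂)} : Set (Wm Ω))).subtype).range =
    Subgroup.centralizer ({swap o₁ o₂} : Set (Perm Ω)) from le_antisymm (by
      rintro _ ⟨x, rfl⟩
      exact Subgroup.mem_centralizer_singleton_iff.2 (congrArg prm (Subgroup.mem_centralizer_singleton_iff.1 x.2)))
      fun π hπ => ⟨⟨pm π, Subgroup.mem_centralizer_singleton_iff.2 (by
        rw [← pm_mul, ← pm_mul, Subgroup.mem_centralizer_singleton_iff.1 hπ])⟩, rfl⟩]
  rw [nat_card_centralizer_invol (swap_mul_self _ _), hs]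
  rw [show Fintype.card Ω = (Fintype.card Ω - 1) + 1 by omega]
  simp [pow_succ]
  ring

/-- **square roots** of involutions with two blocks and an even number of marked fixed points -/
theorem exists_sq_eq {y : Wm Ω} (hy : y * y = 1) (hj : (prm y).support.card = 4)
    (hk : Even (univ.filter fun i => prm y i = i ∧ vec y i = 1).card) : ∃ z, z * z = y := by
  classical
  obtain ⟨hπ, hv⟩ := (sq_eq_one_iff y).1 hy
  have hππ : ∀ i, prm y (prm y i) = i := fun i => by rw [← Perm.mul_apply, hπ]; rfl
  have hvc : ∀ i, vec y (prm y i) = vec y i := fun i => by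
    have := hv (prm y i)
    rwa [inv_apply, eq_comm] at this
  obtain ⟨a, ha⟩ := card_pos.1 (by omega : 0 < (prm y).support.card)
  rw [Perm.mem_support] at ha
  obtain ⟨c, hc, hc'⟩ := exists_mem_notMem_of_card_lt_card (t := (prm y).support)
    (s := {a, prm y a}) (by rw [card_pair (Ne.symm ha), hj]; omega)
  simp only [mem_insert, mem_singleton, not_or] at hc'
  rw [Perm.mem_support] at hc
  set b := prm y a with hb
  set d := prm y c with hd
  have hyb : prm y b = a := hππ a
  have hyd : prm y d = c := hππ c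
  have hab : a ≠ b := Ne.symm ha
  have hcd : c ≠ d := Ne.symm hc
  have hca : c ≠ a := hc'.1
  have hcb : c ≠ b := hc'.2
  have hda : d ≠ a := fun e => hcb (by rw [← hyd, e])
  have hdb : d ≠ b := fun e => hca ((prm y).injective e)
  have hsupp : (prm y).support = {a, b, c, d} := by
    refine (Finset.eq_of_subset_of_card_le ?_ ?_).symm
    · intro x hx
      simp only [mem_insert, mem_singleton] at hx
      rw [Perm.mem_support]
      rcases hx with rfl | rfl | rfl | rfl
      exacts [ha, by rw [hyb]; exact hab, hc, by rw [hyd]; exact hcd]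
    · rw [hj, card_insert_of_notMem (by simp [hab, hca.symm, hda.symm]),
        card_insert_of_notMem (by simp [hcb.symm, hdb.symm]), card_pair hcd]
  set K := univ.filter fun i => prm y i = i ∧ vec y i = 1 with hK
  obtain ⟨l, hl⟩ : ∃ l, K.card = l * 2 := ⟨K.card / 2, by rw [Nat.even_iff] at hk; omega⟩
  let f : Fin l × Fin 2 ≃ K := finProdFinEquiv.trans ((finCongr hl.symm).trans K.equivFin.symm)
  let νK : Perm K := (f.symm.trans ((Equiv.refl (Fin l)).prodCongr (Equiv.swap 0 1))).trans f
  let ν : Perm Ω := Perm.ofSubtype νK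
  let w0 : Vec Ω := fun i => if ∃ h : i ∈ K, (f.symm ⟨i, h⟩).2 = 0 then 1 else 0
  have hνK : ∀ z : K, (f.symm (νK z)).2 = Equiv.swap 0 1 (f.symm z).2 ∧ νK (νK z) = z := fun z => by
    constructor
    · simp [νK]
    · simp [νK, Prod.map]
  have hνnot : ∀ i, i ∉ K → ν i = i := fun i hi => Perm.ofSubtype_apply_of_not_mem νK hi
  have hνmem : ∀ i (hi : i ∈ K), ν i = νK ⟨i, hi⟩ := fun i hi => Perm.ofSubtype_apply_of_mem νK hi
  have hνν : ν * ν = 1 := Equiv.ext fun i => by
    rw [Perm.mul_apply, Perm.one_apply]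
    by_cases hi : i ∈ K
    · rw [hνmem i hi, hνmem _ (νK ⟨i, hi⟩).2, Subtype.coe_eta, (hνK _).2]
    · rw [hνnot i hi, hνnot i hi]
  have hnK : ∀ {x}, prm y x ≠ x → x ∉ K := fun hx h => hx (mem_filter.1 h).2.1
  have haK : a ∉ K := hnK ha
  have hbK : b ∉ K := hnK (by rw [hyb]; exact hab)
  have hcK : c ∉ K := hnK hc
  have hdK : d ∉ K := hnK (by rw [hyd]; exact hcd)
  let δ : Perm Ω := swap a c * swap c b * swap b d
  have hδa : δ a = c := by
    simp [δ, swap_apply_of_ne_of_ne hab hda.symm, swap_apply_of_ne_of_ne hca.symm hab]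
  have hδc : δ c = b := by
    simp [δ, swap_apply_of_ne_of_ne hcb hcd, swap_apply_of_ne_of_ne hab.symm hcb.symm]
  have hδb : δ b = d := by
    simp [δ, swap_apply_of_ne_of_ne hcd.symm hdb, swap_apply_of_ne_of_ne hda hcd.symm]
  have hδd : δ d = a := by simp [δ]
  have hδnot : ∀ i, i ≠ a → i ≠ b → i ≠ c → i ≠ d → δ i = i := fun i h1 h2 h3 h4 => by
    simp [δ, swap_apply_of_ne_of_ne, h1, h2, h3, h4]
  let ρ : Perm Ω := δ * ν
  have hρa : ρ a = c := by rw [Perm.mul_apply, hνnot a haK, hδa]
  have hρb : ρ b = d := by rw [Perm.mul_apply, hνnot b hbK, hδb]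
  have hρc : ρ c = b := by rw [Perm.mul_apply, hνnot c hcK, hδc]
  have hρd : ρ d = a := by rw [Perm.mul_apply, hνnot d hdK, hδd]
  have hρrest : ∀ i, i ≠ a → i ≠ b → i ≠ c → i ≠ d → ρ i = ν i := fun i h1 h2 h3 h4 => by
    rw [Perm.mul_apply]
    refine hδnot _ ?_ ?_ ?_ ?_ <;> intro e <;> [apply h1; apply h2; apply h3; apply h4] <;>
      exact ν.injective (e.trans (hνnot _ (by assumption)).symm)
  let w : Vec Ω := fun i => w0 i + (if i = d then vec y a else 0) + (if i = c then vec y c else 0) +
    (if i = b then vec y a + vec y c else 0)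
  refine ⟨bs w * pm ρ, ext' (funext fun i => ?_) (Equiv.ext fun i => ?_)⟩
  · have hsum : vec (bs w * pm ρ * (bs w * pm ρ)) i = w i + w (ρ⁻¹ i) := by
      simp [vec_mul]
    rw [hsum]
    have hw0 : ∀ x, x ∉ K → w0 x = 0 := fun x hx => if_neg fun ⟨h, _⟩ => hx h
    have wa : w a = 0 := by simp [w, hw0 a haK, hab, hda.symm, hca.symm]
    have wb : w b = vec y a + vec y c := by simp [w, hw0 b hbK, hdb.symm, hcb.symm]
    have wc : w c = vec y c := by simp [w, hw0 c hcK, hcd, hcb]
    have wd : w d = vec y a := by simp [w, hw0 d hdK, hcd.symm, hdb]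
    have hvb : vec y b = vec y a := hvc a
    have hvd : vec y d = vec y c := hvc c
    by_cases h1 : i = a
    · subst h1
      rw [Perm.inv_eq_iff_eq.2 hρd.symm, wa, wd, zero_add]
    by_cases h2 : i = b
    · subst h2
      rw [Perm.inv_eq_iff_eq.2 hρc.symm, wb, wc, hvb, add_assoc, z2_add_self, add_zero]
    by_cases h3 : i = c
    · subst h3
      rw [Perm.inv_eq_iff_eq.2 hρa.symm, wc, wa, add_zero]
    by_cases h4 : i = d
    · subst h4
      rw [Perm.inv_eq_iff_eq.2 hρb.symm, wd, wb, hvd, ← add_assoc, z2_add_self, zero_add]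
    have hinv : ρ⁻¹ i = ν i := by
      rw [Perm.inv_eq_iff_eq]
      have hνi : ν (ν i) = i := by rw [← Perm.mul_apply, hνν]; rfl
      rw [hρrest, hνi] <;> intro e <;> [apply h1; apply h2; apply h3; apply h4] <;>
        rw [← hνi, e] <;> exact hνnot _ (by assumption)
    have hw : ∀ x, x ≠ b → x ≠ c → x ≠ d → w x = w0 x := fun x h2 h3 h4 => by simp [w, h2, h3, h4]
    rw [hinv, hw i h2 h3 h4]
    by_cases hi : i ∈ K
    · have hm : ν i ∈ K := by rw [hνmem i hi]; exact (νK ⟨i, hi⟩).2
      rw [hw _ (fun e => hbK (e ▸ hm)) (fun e => hcK (e ▸ hm)) (fun e => hdK (e ▸ hm))]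
      have e1 : w0 i = if (f.symm ⟨i, hi⟩).2 = 0 then 1 else 0 := if_congr ⟨fun ⟨_, h⟩ => h, fun h => ⟨hi, h⟩⟩ rfl rfl
      have e2 : w0 (ν i) = if (f.symm (νK ⟨i, hi⟩)).2 = 0 then 1 else 0 := if_congr
        ⟨fun ⟨_, h⟩ => by simpa [hνmem i hi] using h, fun h => ⟨hm, by simpa [hνmem i hi] using h⟩⟩ rfl rfl
      rw [e1, e2, (hνK _).1, (mem_filter.1 hi).2.2]
      generalize (f.symm ⟨i, hi⟩).2 = s
      fin_cases s <;> simp
    · rw [hνnot i hi, hw i h2 h3 h4, z2_add_self]
      refine ((z2_cases _).resolve_right fun h => hi (mem_filter.2 ⟨mem_univ _, ?_, h⟩)).symm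
      by_contra hne
      have : i ∈ (prm y).support := Perm.mem_support.2 hne
      rw [hsupp] at this
      simp [h1, h2, h3, h4] at this
  · simp only [prm_mul, prm_bs, one_mul, prm_pm, Perm.mul_apply]
    show ρ (ρ i) = prm y i
    by_cases h1 : i = a
    · subst h1; rw [hρa, hρc]
    by_cases h2 : i = b
    · subst h2; rw [hρb, hρd, hyb]
    by_cases h3 : i = c
    · subst h3; rw [hρc, hρb]
    by_cases h4 : i = d
    · subst h4; rw [hρd, hρa, hyd]
    have hνi : ν (ν i) = i := by rw [← Perm.mul_apply, hνν]; rfl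
    rw [hρrest i h1 h2 h3 h4, hρrest _ (by intro e; apply h1; rw [← hνi, e]; exact hνnot _ haK)
      (by intro e; apply h2; rw [← hνi, e]; exact hνnot _ hbK) (by intro e; apply h3; rw [← hνi, e]; exact hνnot _ hcK)
      (by intro e; apply h4; rw [← hνi, e]; exact hνnot _ hdK), hνi]
    by_contra hne
    have : i ∈ (prm y).support := Perm.mem_support.2 (Ne.symm hne)
    rw [hsupp] at this
    simp [h1, h2, h3, h4] at this

end Wm

theorem even_choose_of_odd {f k : ℕ} (hf : Even f) (hk : Odd k) : 2 ∣ f.choose k := by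
  rcases Nat.eq_zero_or_pos f with rfl | hfpos
  · rw [Nat.choose_eq_zero_of_lt hk.pos]; exact dvd_zero 2
  obtain ⟨f', rfl⟩ : ∃ f', f = f' + 1 := ⟨f - 1, by omega⟩
  obtain ⟨k', rfl⟩ : ∃ k', k = k' + 1 := ⟨k - 1, by have := hk.pos; omega⟩
  have h := Nat.add_one_mul_choose_eq f' k'
  have h2 : 2 ∣ (f' + 1).choose (k' + 1) * (k' + 1) := ⟨(f' + 1) / 2 * f'.choose k', by
    rw [← h, ← mul_assoc, Nat.mul_div_cancel' (even_iff_two_dvd.1 hf)]⟩
  exact ((Nat.prime_two.dvd_mul.1 h2).resolve_right fun h3 => Nat.not_even_iff_odd.2 hk (even_iff_two_dvd.2 h3))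

/-- **the arithmetic**: the centralizer cannot be as large unless there are two blocks -/
theorem two_blocks {N j k : ℕ} (hN : Even N) (hjev : Even j) (hj : 1 ≤ j) (hjk : 2 * j + k ≤ N)
    (h : padicValNat 2 (2 ^ N * (N - 2)!) ≤
      padicValNat 2 (2 ^ (N - j) * (k ! * ((N - k - 2 * j)! * (2 ^ j * j !))))) :
    j = 2 ∧ Even k ∧ padicValNat 2 (2 ^ (N - j) * (k ! * ((N - k - 2 * j)! * (2 ^ j * j !)))) ≤
      padicValNat 2 (2 ^ N * (N - 2)!) := by
  haveI : Fact (Nat.Prime 2) := ⟨Nat.prime_two⟩
  obtain ⟨f, hf⟩ : ∃ f, N = 2 * j + f := ⟨N - 2 * j, by omega⟩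
  obtain ⟨i, rfl⟩ : ∃ i, j = i + 1 := ⟨j - 1, by omega⟩
  have hfk : N - k - 2 * (i + 1) = f - k := by omega
  rw [hfk] at h ⊢
  have e1 : padicValNat 2 ((N - 2)!) = padicValNat 2 ((N - 2).choose f) + padicValNat 2 (f !) +
      (padicValNat 2 (i !) + i) := by
    rw [← padicValNat_factorial_mul (p := 2) i, show 2 * i = N - 2 - f by omega,
      ← padicValNat.mul (Nat.choose_pos (by omega)).ne' (Nat.factorial_ne_zero _),
      ← padicValNat.mul (mul_ne_zero (Nat.choose_pos (by omega)).ne' (Nat.factorial_ne_zero _))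
        (Nat.factorial_ne_zero _), Nat.choose_mul_factorial_mul_factorial (by omega)]
  have e2 : padicValNat 2 (f !) = padicValNat 2 (f.choose k) + padicValNat 2 (k !) + padicValNat 2 ((f - k)!) := by
    rw [← padicValNat.mul (Nat.choose_pos (by omega)).ne' (Nat.factorial_ne_zero _),
      ← padicValNat.mul (mul_ne_zero (Nat.choose_pos (by omega)).ne' (Nat.factorial_ne_zero _))
        (Nat.factorial_ne_zero _), Nat.choose_mul_factorial_mul_factorial (by omega)]
  have e3 : padicValNat 2 ((i + 1)!) = padicValNat 2 (i + 1) + padicValNat 2 (i !) := by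
    rw [Nat.factorial_succ, padicValNat.mul (Nat.succ_ne_zero i) (Nat.factorial_ne_zero _)]
  have hne : ∀ n : ℕ, 2 ^ n ≠ 0 := fun n => (Nat.two_pow_pos n).ne'
  have hfac : ∀ n : ℕ, n ! ≠ 0 := Nat.factorial_ne_zero
  have hpow : ∀ n : ℕ, padicValNat 2 (2 ^ n) = n := fun n => padicValNat.prime_pow n
  have eσ : padicValNat 2 (2 ^ N * (N - 2)!) = N + padicValNat 2 ((N - 2)!) := by
    rw [padicValNat.mul (hne _) (hfac _), hpow]
  have ey : padicValNat 2 (2 ^ (N - (i + 1)) * (k ! * ((f - k)! * (2 ^ (i + 1) * (i + 1)!)))) =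
      (N - (i + 1)) + (padicValNat 2 (k !) + (padicValNat 2 ((f - k)!) +
        ((i + 1) + padicValNat 2 ((i + 1)!)))) := by
    rw [padicValNat.mul (hne _) (mul_ne_zero (hfac _) (mul_ne_zero (hfac _) (mul_ne_zero (hne _) (hfac _)))),
      padicValNat.mul (hfac _) (mul_ne_zero (hfac _) (mul_ne_zero (hne _) (hfac _))),
      padicValNat.mul (hfac _) (mul_ne_zero (hne _) (hfac _)), padicValNat.mul (hne _) (hfac _), hpow, hpow]
  rw [eσ, ey] at h
  rw [eσ, ey]
  have hle : 2 ^ padicValNat 2 (i + 1) ≤ i + 1 := Nat.le_of_dvd (Nat.succ_pos i) pow_padicValNat_dvd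
  have hi1 : i = 1 := by
    by_contra hne1
    rw [Nat.even_iff] at hjev
    have h4 : 4 ≤ i + 1 := by omega
    have hlog : 2 ^ i ≤ i + 1 := le_trans (Nat.pow_le_pow_right two_pos (by omega)) hle
    have h8 : i + 1 < 2 ^ i := by
      clear hlog hle e1 e2 e3 h eσ ey hfk hf hjk hjev hne1
      induction i with
      | zero => omega
      | succ i ih =>
        rcases Nat.lt_or_ge (i + 1) 4 with h5 | h5
        · obtain rfl : i = 2 := by omega
          norm_num
        · have := ih (by omega) h5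
          rw [pow_succ]; omega
    omega
  subst hi1
  have hv2 : padicValNat 2 (1 + 1) = 1 := padicValNat.self (by norm_num)
  refine ⟨rfl, ?_, by omega⟩
  by_contra hodd
  have hev : Even f := by rw [Nat.even_iff] at hN ⊢; omega
  have := one_le_padicValNat_of_dvd (Nat.choose_pos (show k ≤ f by omega)).ne'
    (even_choose_of_odd hev (Nat.not_even_iff_odd.1 hodd))
  omega

end CfsgLib.KondoAlt
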