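import Cfsg.Agent.Lib.Invol.KondoAlt.Orbit

/-!
# The symmetric group on one more point

If the stabilizer of the all-one vector is the symmetric group on the coordinates and the orbit is
not trivial, the group is the symmetric group on `Option Ω` acting on the even subsets.
-/

set_option autoImplicit false
set_option linter.unusedSectionVars false
set_option linter.style.haveILetI false

namespace CfsgLib.KondoAlt

open Equiv Finset

variable {Ω : Type*} [Fintype Ω] [DecidableEq Ω]

/-- the even extension of a bit vector -/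
def ext (v : Vec Ω) : Option Ω → ZMod 2 := fun k => k.elim (∑ i, v i) v

theorem sum_ext (v : Vec Ω) : ∑ k, ext v k = 0 := by
  rw [Fintype.sum_option]
  exact z2_add_self _

theorem ext_res {P : Option Ω → ZMod 2} (hP : ∑ k, P k = 0) : ext (fun i => P (some i)) = P := by
  funext k
  cases k with
  | none =>
    rw [Fintype.sum_option] at hP
    exact (z2_eq_of_add hP).symm
  | some i => rfl

theorem sum_ext_perm (π : Perm (Option Ω)) (v : Vec Ω) : ∑ k, ext v (π k) = 0 := by
  rw [Equiv.sum_comp π (ext v)]
  exact sum_ext v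

/-- permutations of `Option Ω` on bit vectors, read as even subsets -/
def peE : Perm (Option Ω) →* Perm (Vec Ω) where
  toFun π :=
    { toFun := fun v i => ext v (π⁻¹ (some i))
      invFun := fun v i => ext v (π (some i))
      left_inv := fun v => funext fun i => by
        dsimp only
        rw [ext_res (P := fun k => ext v (π⁻¹ k)) (sum_ext_perm π⁻¹ v)]
        show ext v (π⁻¹ (π (some i))) = v i
        rw [inv_apply]; rfl
      right_inv := fun v => funext fun i => by
        dsimp only
        rw [ext_res (P := fun k => ext v (π k)) (sum_ext_perm π v)]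
        show ext v (π (π⁻¹ (some i))) = v i
        rw [apply_inv]; rfl }
  map_one' := Equiv.ext fun v => rfl
  map_mul' π ρ := Equiv.ext fun v => funext fun i => by
    show ext v ((π * ρ)⁻¹ (some i)) = ext (fun j => ext v (ρ⁻¹ (some j))) (π⁻¹ (some i))
    rw [ext_res (P := fun k => ext v (ρ⁻¹ k)) (sum_ext_perm ρ⁻¹ v), mul_inv_rev, Perm.mul_apply]

theorem peE_apply (π : Perm (Option Ω)) (v : Vec Ω) (i : Ω) : peE π v i = ext v (π⁻¹ (some i)) := rfl

theorem ext_peE (π : Perm (Option Ω)) (v : Vec Ω) : ext (peE π v) = fun k => ext v (π⁻¹ k) :=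
  ext_res (sum_ext_perm π⁻¹ v)

theorem ext_injective : Function.Injective (ext : Vec Ω → Option Ω → ZMod 2) :=
  fun _ _ h => funext fun i => congrFun h (some i)

theorem ext_add (u v : Vec Ω) : ext (u + v) = ext u + ext v := by
  funext k
  cases k with
  | none => exact sum_add_distrib
  | some i => rfl

theorem peE_add (π : Perm (Option Ω)) (u v : Vec Ω) : peE π (u + v) = peE π u + peE π v := by
  funext i
  simp only [Pi.add_apply, peE_apply, ext_add]

theorem peE_optionCongr (π : Perm Ω) : peE (Equiv.optionCongr π) = pe π := Equiv.ext fun _ => funext fun _ => rfl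

theorem exists_optionCongr {π : Perm (Option Ω)} (h : π none = none) : ∃ ρ, π = Equiv.optionCongr ρ := by
  refine ⟨Equiv.removeNone π, ?_⟩
  refine Equiv.ext fun k => ?_
  cases k with
  | none => simpa using h
  | some i => simp [h]

/-- the orbit points -/
def op (k : Option Ω) : Vec Ω := k.elim 1 fun i => 1 + ev i

theorem sum_ev (i : Ω) : ∑ j, ev i j = 1 := by simp [ev_apply]

theorem sum_one (hcard : Even (Fintype.card Ω)) : ∑ i, (1 : Vec Ω) i = 0 := by
  simp only [Pi.one_apply, sum_const, card_univ, nsmul_eq_mul, mul_one]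
  exact (ZMod.natCast_eq_zero_iff_even).2 hcard

theorem ext_op (hcard : Even (Fintype.card Ω)) (k : Option Ω) :
    ext (op k) = fun l => if l = k then 0 else 1 := by
  funext l
  cases k with
  | none =>
    cases l with
    | none => exact sum_one hcard
    | some j => rfl
  | some i =>
    cases l with
    | none =>
      show ∑ j, ((1 : Vec Ω) j + ev i j) = _
      rw [sum_add_distrib, sum_one hcard, sum_ev, zero_add]
      simp
    | some j =>
      show 1 + ev i j = _
      by_cases h : j = i <;> simp [ev_apply, h, z2_add_self]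

theorem peE_op (hcard : Even (Fintype.card Ω)) (π : Perm (Option Ω)) (k : Option Ω) :
    peE π (op k) = op (π k) := by
  apply ext_injective
  rw [ext_peE, ext_op hcard, ext_op hcard]
  funext l
  exact if_congr Perm.inv_eq_iff_eq rfl rfl

theorem op_injective (hcard : Even (Fintype.card Ω)) : Function.Injective (op : Option Ω → Vec Ω) := by
  intro k l h
  have h1 := congrFun (congrArg ext h) k
  rw [ext_op hcard, ext_op hcard] at h1
  simp only [if_true] at h1
  by_contra hne
  rw [if_neg hne] at h1
  exact zero_ne_one h1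

/-- the involutive change of coordinates -/
def theta (hcard : Even (Fintype.card Ω)) : Perm (Vec Ω) :=
  Function.Involutive.toPerm (fun v => v + (∑ i, v i) • 1) fun v => by
    dsimp only
    simp only [Pi.add_apply, Pi.smul_apply, Pi.one_apply, smul_eq_mul, mul_one, sum_add_distrib, sum_const,
      card_univ, nsmul_eq_mul, (ZMod.natCast_eq_zero_iff_even).2 hcard, zero_mul, add_zero]
    rw [add_assoc, vec_add_self, add_zero]

theorem theta_apply (hcard : Even (Fintype.card Ω)) (v : Vec Ω) :
    theta hcard v = v + (∑ i, v i) • (1 : Vec Ω) := rfl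

theorem theta_mul_self (hcard : Even (Fintype.card Ω)) : theta hcard * theta hcard = 1 :=
  Equiv.ext fun v => (theta hcard).apply_eq_iff_eq_symm_apply.2 rfl

theorem theta_add (hcard : Even (Fintype.card Ω)) (u v : Vec Ω) :
    theta hcard (u + v) = theta hcard u + theta hcard v := by
  simp only [theta_apply, Pi.add_apply, sum_add_distrib, add_smul]
  abel

theorem theta_one (hcard : Even (Fintype.card Ω)) : theta hcard (1 : Vec Ω) = 1 := by
  rw [theta_apply, sum_one hcard, zero_smul, add_zero]

theorem theta_pe (hcard : Even (Fintype.card Ω)) (π : Perm Ω) :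
    theta hcard * pe π = pe π * theta hcard := by
  refine Equiv.ext fun v => funext fun i => ?_
  simp only [Perm.mul_apply, theta_apply, pe_apply, Pi.add_apply, Pi.smul_apply, Pi.one_apply]
  rw [Equiv.sum_comp π⁻¹ v]

theorem card_one_iff (v : Vec Ω) : (univ.filter fun i => v i = 1).card = 1 ↔ ∃ i, v = ev i := by
  rw [card_eq_one]
  refine exists_congr fun i => ⟨fun h => funext fun j => ?_, fun h => ?_⟩
  · have h1 := Finset.ext_iff.1 h j
    simp only [mem_filter, mem_univ, true_and, mem_singleton] at h1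
    rw [ev_apply]
    split_ifs with hj
    · exact h1.2 hj
    · exact (z2_cases _).resolve_right fun e => hj (h1.1 e)
  · ext j
    simp [h, ev_apply]

theorem card_compl_weight (v : Vec Ω) :
    (univ.filter fun i => (1 + v) i = 1).card + (univ.filter fun i => v i = 1).card = Fintype.card Ω := by
  rw [← card_union_of_disjoint (disjoint_filter.2 fun i _ h h' => by simp [h', z2_add_self] at h), ← card_univ]
  refine congrArg Finset.card (Finset.ext fun i => ?_)
  rcases z2_cases (v i) with h | h <;> simp [h]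

variable {X : Subgroup (Perm (Vec Ω))} (hX : StabSym X)
include hX

/-- **the weights of the orbit** -/
theorem StabSym.weight (hcard : Even (Fintype.card Ω)) {g : Perm (Vec Ω)} (hg : g ∈ X) (hg1 : g 1 ≠ 1) :
    (univ.filter fun i => g 1 i = 1).card = 1 ∨
      (univ.filter fun i => g 1 i = 1).card + 1 = Fintype.card Ω := by
  classical
  obtain ⟨T, hT, u, hu, hT1, hTv⟩ := hX.shape hcard hg hg1
  rw [← hu]
  have hodd : Odd (univ.filter fun i => u i = 1).card := by rw [hu]; exact hX.odd_weight hcard hg hg1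
  have hcompl := card_compl_weight u
  by_contra hc
  push Not at hc
  have h3 : 3 ≤ (univ.filter fun i => u i = 1).card := by
    have := hc.1; rw [Nat.odd_iff] at hodd; omega
  have h3' : 1 < (univ.filter fun i => (1 + u) i = 1).card := by
    have := hc.2; rw [Nat.even_iff] at hcard; rw [Nat.odd_iff] at hodd; omega
  obtain ⟨i, hi, i', hi', hii⟩ := one_lt_card.1 (show 1 < (univ.filter fun i => u i = 1).card by omega)
  obtain ⟨j, hj, j', hj', hjj⟩ := one_lt_card.1 h3'
  simp only [mem_filter, mem_univ, true_and, Pi.add_apply, Pi.one_apply, add_eq_left] at hi hi' hj hj'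
  have hne : ∀ {a b : Ω}, u a = 1 → u b = 0 → a ≠ b := fun ha hb e => by
    rw [e, hb] at ha; exact zero_ne_one ha
  let π : Perm Ω := swap i j * swap i' j'
  have hC : pe π u = u + (ev i + ev j) + (ev i' + ev j') := by
    rw [map_mul, Perm.mul_apply, pe_swap_eq i' j', hi', hj', add_zero, one_smul, pe_swap_eq]
    rw [show (u + (ev i' + ev j') : Vec Ω) i + (u + (ev i' + ev j') : Vec Ω) j = 1 by
      simp [ev_apply, hi, hj, hii, hjj, hne hi hj', (hne hi' hj).symm], one_smul]
    abel
  have hdot : ∑ l, u l * pe π u l = 1 := by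
    rw [hC]
    simp only [Pi.add_apply, ev_apply, mul_add, mul_ite, mul_one, mul_zero, sum_add_distrib, sum_ite_eq',
      mem_univ, if_true, hi, hi', hj, hj', add_zero]
    rw [add_assoc, z2_add_self, add_zero, ← (ZMod.natCast_eq_one_iff_odd).2 hodd, card_filter, Nat.cast_sum]
    refine sum_congr rfl fun l _ => ?_
    rcases z2_cases (u l) with h | h <;> simp [h]
  have hx : (T * pe π * T) 1 = 1 + ((ev i + ev j) + (ev i' + ev j')) := by
    rw [Perm.mul_apply, Perm.mul_apply, hT1, hTv, hdot, one_smul, hC]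
    rw [show u + (ev i + ev j) + (ev i' + ev j') + (1 + u) = (u + u) + (1 + ((ev i + ev j) + (ev i' + ev j'))) by abel,
      vec_add_self, zero_add]
  have hw : (univ.filter fun l => ((T * pe π * T) 1) l = 1).card + 4 = Fintype.card Ω := by
    rw [hx]
    refine Eq.trans (congrArg _ ?_) (card_compl_weight _)
    rw [show (univ.filter fun l => ((ev i + ev j) + (ev i' + ev j') : Vec Ω) l = 1) = {i, j, i', j'} by
      ext l
      simp only [Pi.add_apply, ev_apply, mem_filter, mem_univ, true_and, mem_insert, mem_singleton]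
      have := hne hi hj; have := hne hi hj'; have := hne hi' hj; have := hne hi' hj'
      by_cases e1 : l = i <;> by_cases e2 : l = j <;> by_cases e3 : l = i' <;> by_cases e4 : l = j' <;>
        simp_all]
    rw [card_insert_of_notMem (by simp [hne hi hj, hne hi hj', hii]),
      card_insert_of_notMem (by simp [(hne hi' hj).symm, hjj]),
      card_insert_of_notMem (by simp [hne hi' hj']), card_singleton]
  refine Nat.not_odd_iff_even.2 ?_ (hX.odd_weight hcard (mul_mem (mul_mem hT (hX.perm π)) hT) fun e => ?_)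
  · rw [Nat.even_iff] at hcard ⊢; omega
  · rw [e] at hw
    simp at hw

/-- a moving element takes values of one kind only -/
theorem StabSym.weight_same (hcard : Even (Fintype.card Ω)) {g g' : Perm (Vec Ω)} (hg : g ∈ X) (hg' : g' ∈ X)
    {i j : Ω} (h : g 1 = ev i) (h' : g' 1 = 1 + ev j) : Fintype.card Ω = 2 := by
  classical
  by_contra hc
  have hg1 : g 1 ≠ 1 := fun e => by
    have h1 := card_compl_weight (0 : Vec Ω)
    have h2 : (univ.filter fun l => g 1 l = 1).card = 1 := by rw [h]; exact (card_one_iff _).2 ⟨i, rfl⟩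
    rw [e] at h2
    simp at h1 h2
    rw [h2] at hcard
    simp at hcard
  obtain ⟨T, hT, u, hu, hT1, hTv⟩ := hX.shape hcard hg hg1
  obtain ⟨b, rfl⟩ : ∃ b, u = ev b := (card_one_iff u).1 (by rw [hu, h]; exact (card_one_iff _).2 ⟨i, rfl⟩)
  have h2 : 2 < Fintype.card Ω := by
    have : 0 < Fintype.card Ω := Fintype.card_pos_iff.2 ⟨i⟩
    rw [Nat.even_iff] at hcard; omega
  obtain ⟨j', hj'⟩ : ∃ j', j' ≠ b := by
    haveI : Nontrivial Ω := Fintype.one_lt_card_iff_nontrivial.1 (by omega)
    exact exists_ne b
  have hx : (T * pe (swap j j') * g') 1 = ev j' + ev b := by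
    rw [Perm.mul_apply, Perm.mul_apply, h', show pe (swap j j') (1 + ev j) = 1 + ev j' by
      rw [show pe (swap j j') (1 + ev j) = pe (swap j j') 1 + pe (swap j j') (ev j) from rfl, pe_one_vec, pe_ev,
        swap_apply_left], hTv]
    rw [show ∑ l, ev b l * (1 + ev j' : Vec Ω) l = 1 by simp [ev_apply, hj'.symm], one_smul]
    rw [show (1 : Vec Ω) + ev j' + (1 + ev b) = ((1 : Vec Ω) + 1) + (ev j' + ev b) by abel, vec_add_self,
      zero_add]
  have hw : (univ.filter fun l => ((T * pe (swap j j') * g') 1) l = 1).card = 2 := by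
    rw [hx, show (univ.filter fun l => (ev j' + ev b : Vec Ω) l = 1) = {j', b} by
      ext l
      by_cases e1 : l = j' <;> by_cases e2 : l = b <;> simp_all [ev_apply]]
    exact card_pair hj'
  refine Nat.not_odd_iff_even.2 (hw ▸ even_two)
    (hX.odd_weight hcard (mul_mem (mul_mem hT (hX.perm _)) hg') fun e => ?_)
  rw [e] at hw
  simp at hw
  omega

theorem StabSym.conj_theta (hcard : Even (Fintype.card Ω)) :
    StabSym (X.comap (MulAut.conj (theta hcard)).toMonoidHom) := by
  have hinv : (theta hcard)⁻¹ = theta hcard := inv_eq_of_mul_eq_one_right (theta_mul_self hcard)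
  have hθθ : ∀ v, theta hcard (theta hcard v) = v := fun v => by
    rw [← Perm.mul_apply, theta_mul_self]; rfl
  refine ⟨fun x hx u v => ?_, fun π => ?_, fun x hx h1 => ?_⟩
  · rw [Subgroup.mem_comap] at hx
    have h := hX.add _ hx (theta hcard u) (theta hcard v)
    simp only [MulEquiv.coe_toMonoidHom, MulAut.conj_apply, hinv, Perm.mul_apply, theta_add, hθθ] at h
    have h' := congrArg (theta hcard) h
    rwa [theta_add, hθθ, hθθ, hθθ] at h'
  · rw [Subgroup.mem_comap, MulEquiv.coe_toMonoidHom, MulAut.conj_apply, theta_pe, mul_inv_cancel_right]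
    exact hX.perm π
  · rw [Subgroup.mem_comap, MulEquiv.coe_toMonoidHom, MulAut.conj_apply, hinv] at hx
    obtain ⟨π, hπ⟩ := hX.stab _ hx (by
      rw [Perm.mul_apply, Perm.mul_apply, theta_one, h1, theta_one])
    refine ⟨π, Equiv.ext fun v => ?_⟩
    have h := congrArg (theta hcard) (DFunLike.congr_fun hπ (theta hcard v))
    rw [Perm.mul_apply, Perm.mul_apply, hθθ, hθθ, ← Perm.mul_apply, theta_pe, Perm.mul_apply, hθθ] at h
    exact h

/-- the normalised case -/
theorem StabSym.eq_range (hcard : Even (Fintype.card Ω)) {g₀ : Perm (Vec Ω)} (hg₀ : g₀ ∈ X) (hg₀1 : g₀ 1 ≠ 1)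
    (hO : ∀ x ∈ X, x 1 = 1 ∨ ∃ i, x 1 = 1 + ev i) (x : Perm (Vec Ω)) : x ∈ X ↔ ∃ π, x = peE π := by
  classical
  have hop : ∀ x ∈ X, ∃ k, x 1 = op k := fun x hx => by
    rcases hO x hx with h | ⟨i, h⟩
    exacts [⟨none, h⟩, ⟨some i, h⟩]
  have htr : ∀ k, ∃ x ∈ X, x 1 = op k := by
    intro k
    cases k with
    | none => exact ⟨1, one_mem X, rfl⟩
    | some j =>
      obtain ⟨i, hi⟩ := (hO g₀ hg₀).resolve_left hg₀1
      refine ⟨pe (swap i j) * g₀, mul_mem (hX.perm _) hg₀, ?_⟩
      rw [Perm.mul_apply, hi, show pe (swap i j) (1 + ev i) = pe (swap i j) 1 + pe (swap i j) (ev i) from rfl,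
        pe_one_vec, pe_ev, swap_apply_left]
      rfl
  have hfwd : ∀ x ∈ X, ∃ π, x = peE π := by
    intro x hx
    have hk : ∀ k, ∃ l, x (op k) = op l := fun k => by
      obtain ⟨y, hy, hy1⟩ := htr k
      rw [← hy1, ← Perm.mul_apply]
      exact hop _ (mul_mem hx hy)
    choose π hπ using hk
    have hinj : Function.Injective π := fun k l e =>
      op_injective hcard (x.injective (by rw [hπ, hπ, e]))
    refine ⟨Equiv.ofBijective π hinj.bijective_of_finite, Equiv.ext fun v => ?_⟩
    let F : Vec Ω →+ Vec Ω := AddMonoidHom.mk' (fun v => x v + peE (Equiv.ofBijective π hinj.bijective_of_finite) v)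
      fun u v => by rw [hX.add x hx, peE_add]; abel
    have hF : ∀ k, F (op k) = 0 := fun k => by
      show x (op k) + peE _ (op k) = 0
      rw [peE_op hcard, hπ, Equiv.ofBijective_apply, vec_add_self]
    have hF0 : F v = 0 := by
      rw [← Finset.univ_sum_single v, map_sum]
      refine sum_eq_zero fun i _ => ?_
      rcases z2_cases (v i) with h | h <;> rw [h]
      · rw [Pi.single_zero]; exact _root_.map_zero F
      · show F (ev i) = 0
        rw [show ev i = op (some i) + op none by
          show ev i = (1 + ev i) + 1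
          rw [add_comm (1 : Vec Ω), add_assoc, vec_add_self, add_zero], map_add, hF, hF, add_zero]
    exact funext fun i => z2_eq_of_add (congrFun hF0 i)
  refine ⟨hfwd x, ?_⟩
  rintro ⟨π, rfl⟩
  obtain ⟨y, hy, hy1⟩ := htr (π none)
  obtain ⟨π₀, rfl⟩ := hfwd y hy
  have h0 : π₀ none = π none := op_injective hcard (by rw [← peE_op hcard]; exact hy1)
  obtain ⟨ρ, hρ⟩ := exists_optionCongr (π := π₀⁻¹ * π) (by rw [Perm.mul_apply, ← h0, inv_apply])
  rw [show π = π₀ * Equiv.optionCongr ρ by rw [← hρ, mul_inv_cancel_left], map_mul, peE_optionCongr]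
  exact mul_mem hy (hX.perm ρ)

/-- **the orbit theorem** -/
theorem StabSym.trivial_or_symmetric (hcard : Even (Fintype.card Ω)) :
    (∀ x ∈ X, x 1 = 1) ∨ ∃ θ : Perm (Vec Ω), (θ = 1 ∨ θ = theta hcard) ∧
      ∀ x, x ∈ X ↔ ∃ π, θ * x * θ = peE π := by
  classical
  by_cases hall : ∀ x ∈ X, x 1 = 1
  · exact Or.inl hall
  push Not at hall
  obtain ⟨g₀, hg₀, hg₀1⟩ := hall
  refine Or.inr ?_
  by_cases hB : ∀ x ∈ X, x 1 = 1 ∨ ∃ i, x 1 = 1 + ev i
  · refine ⟨1, Or.inl rfl, fun x => ?_⟩
    rw [one_mul, mul_one]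
    exact hX.eq_range hcard hg₀ hg₀1 hB x
  push Not at hB
  obtain ⟨g, hg, hg1, hgne⟩ := hB
  have hcl : ∀ x ∈ X, x 1 ≠ 1 → (∃ i, x 1 = ev i) ∨ ∃ i, x 1 = 1 + ev i := by
    intro x hx hx1
    rcases hX.weight hcard hx hx1 with h | h
    · exact Or.inl ((card_one_iff _).1 h)
    · obtain ⟨i, hi⟩ := (card_one_iff (1 + x 1)).1 (by have := card_compl_weight (x 1); omega)
      exact Or.inr ⟨i, by rw [← hi, ← add_assoc, vec_add_self, zero_add]⟩
  obtain ⟨i, hi⟩ := (hcl g hg hg1).resolve_right fun ⟨i, h⟩ => hgne i h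
  have hθθ : ∀ v, theta hcard (theta hcard v) = v := fun v => by
    rw [← Perm.mul_apply, theta_mul_self]; rfl
  have hθev : ∀ l, theta hcard (ev l) = 1 + ev l := fun l => by
    rw [theta_apply, sum_ev, one_smul, add_comm]
  refine ⟨theta hcard, Or.inr rfl, fun x => ?_⟩
  have hinv : (theta hcard)⁻¹ = theta hcard := inv_eq_of_mul_eq_one_right (theta_mul_self hcard)
  have hmem : ∀ y, y ∈ X.comap (MulAut.conj (theta hcard)).toMonoidHom ↔ theta hcard * y * theta hcard ∈ X := by
    intro y
    rw [Subgroup.mem_comap, MulEquiv.coe_toMonoidHom, MulAut.conj_apply, hinv]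
  have hcc : ∀ y, theta hcard * (theta hcard * y * theta hcard) * theta hcard = y := fun y => by
    rw [← mul_assoc, ← mul_assoc, theta_mul_self, one_mul, mul_assoc, theta_mul_self, mul_one]
  have hO : ∀ y ∈ X.comap (MulAut.conj (theta hcard)).toMonoidHom, y 1 = 1 ∨ ∃ l, y 1 = 1 + ev l := by
    intro y hy
    rw [hmem] at hy
    have hy1 : y 1 = theta hcard ((theta hcard * y * theta hcard) 1) := by
      rw [Perm.mul_apply, Perm.mul_apply, theta_one, hθθ]
    by_cases h1 : (theta hcard * y * theta hcard) 1 = 1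
    · exact Or.inl (by rw [hy1, h1, theta_one])
    rcases hcl _ hy h1 with ⟨l, hl⟩ | ⟨l, hl⟩
    · exact Or.inr ⟨l, by rw [hy1, hl, hθev]⟩
    · have h2 := hX.weight_same hcard hg hy hi hl
      obtain ⟨m, hm⟩ : ∃ m, (1 + ev l : Vec Ω) = ev m := (card_one_iff _).1 (by
        have := card_compl_weight (ev l)
        rw [(card_one_iff (ev l)).2 ⟨l, rfl⟩] at this
        omega)
      exact Or.inr ⟨m, by rw [hy1, hl, hm, hθev]⟩
  have h := (hX.conj_theta hcard).eq_range hcard (g₀ := theta hcard * g * theta hcard)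
    (by rw [hmem, hcc]; exact hg)
    (by
      rw [Perm.mul_apply, Perm.mul_apply, theta_one, hi]
      intro e
      have := congrArg (theta hcard) e
      rw [hθθ, theta_one] at this
      exact hg1 (hi.trans this)) hO (theta hcard * x * theta hcard)
  rw [hmem, hcc] at h
  exact h

end CfsgLib.KondoAlt
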