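import Cfsg.Agent.Lib.Invol.KondoAlt.Setup
import Cfsg.Agent.Lib.Invol.KondoAlt.Counting

/-!
# The centralizer in the alternating group

The centralizer in `A_{4n+r}` of a product of `2n` transpositions is the model extended by a group of
odd order.
-/

set_option autoImplicit false
set_option linter.unusedSectionVars false
set_option linter.style.haveILetI false

namespace CfsgLib.KondoAlt

open Equiv Finset

variable {Ω : Type*} [Fintype Ω] [DecidableEq Ω] {r : ℕ}

/-- the bit as an element of `Bool` -/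
def toBool (a : ZMod 2) : Bool := a != 0

theorem toBool_add (a b : ZMod 2) (c : Bool) : xor c (toBool (a + b)) = xor (xor c (toBool b)) (toBool a) := by
  revert a b c
  decide

/-- the model on the moved points -/
def actW : Wm Ω →* Perm (Ω × Bool) where
  toFun x :=
    { toFun := fun z => (Wm.prm x z.1, xor z.2 (toBool (Wm.vec x (Wm.prm x z.1))))
      invFun := fun z => ((Wm.prm x)⁻¹ z.1, xor z.2 (toBool (Wm.vec x z.1)))
      left_inv := fun z => by simp
      right_inv := fun z => by simp }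
  map_one' := Equiv.ext fun z => by simp [toBool]
  map_mul' x y := Equiv.ext fun z => by
    refine Prod.ext rfl ?_
    show xor z.2 (toBool (Wm.vec (x * y) (Wm.prm (x * y) z.1))) = _
    rw [Wm.vec_mul, Wm.prm_mul, Perm.mul_apply, inv_apply, toBool_add]
    rfl

theorem actW_apply (x : Wm Ω) (i : Ω) (b : Bool) :
    actW x (i, b) = (Wm.prm x i, xor b (toBool (Wm.vec x (Wm.prm x i)))) := rfl

theorem actW_injective : Function.Injective (actW : Wm Ω → Perm (Ω × Bool)) := by
  intro x y h
  have hp : Wm.prm x = Wm.prm y := Equiv.ext fun i => congrArg Prod.fst (DFunLike.congr_fun h (i, false))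
  refine Wm.ext' (funext fun j => ?_) hp
  have h1 := congrArg Prod.snd (DFunLike.congr_fun h ((Wm.prm x)⁻¹ j, false))
  rw [actW_apply, actW_apply, ← hp, apply_inv] at h1
  revert h1
  rcases z2_cases (Wm.vec x j) with e | e <;> rcases z2_cases (Wm.vec y j) with e' | e' <;> rw [e, e'] <;>
    simp [toBool]

/-- the parity of the bit part -/
def parityHom : Wm Ω →* Multiplicative (ZMod 2) where
  toFun x := Multiplicative.ofAdd (∑ i, Wm.vec x i)
  map_one' := by simp
  map_mul' x y := by
    rw [← ofAdd_add]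
    refine congrArg _ ?_
    simp only [Wm.vec_mul, sum_add_distrib]
    rw [Equiv.sum_comp (Wm.prm x)⁻¹ (Wm.vec y)]

theorem sign_actW (x : Wm Ω) : Perm.sign (actW x) = if ∑ i, Wm.vec x i = 0 then 1 else -1 := by
  classical
  have hpm : ∀ π : Perm Ω, Perm.sign (actW (Wm.pm π)) = 1 := fun π => by
    rw [show actW (Wm.pm π) = Equiv.prodCongrLeft fun _ : Bool => π from Equiv.ext fun ⟨i, b⟩ => by
      simp [toBool, Equiv.prodCongrLeft, actW]]
    rw [Perm.sign_prodCongrLeft, prod_const, card_univ, Fintype.card_bool]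
    rcases Int.units_eq_one_or (Perm.sign π) with h | h <;> simp [h]
  have hbs : ∀ v : Vec Ω, Perm.sign (actW (Wm.bs v)) = ∏ i, if v i = 0 then 1 else -1 := fun v => by
    rw [show actW (Wm.bs v) = Equiv.prodCongrRight fun i => if v i = 0 then 1 else swap false true from
      Equiv.ext fun ⟨i, b⟩ => by
        rcases z2_cases (v i) with h | h <;> cases b <;> simp [actW, toBool, h]]
    rw [Perm.sign_prodCongrRight]
    refine prod_congr rfl fun i _ => ?_
    split_ifs <;> simp
  conv_lhs => rw [Wm.eq_bs_mul_pm x, map_mul, map_mul, hpm, mul_one, hbs]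
  induction (univ : Finset Ω) using Finset.induction_on with
  | empty => simp
  | insert a s ha ih =>
    rw [prod_insert ha, sum_insert ha, ih]
    rcases z2_cases (Wm.vec x a) with h | h <;> rcases z2_cases (∑ i ∈ s, Wm.vec x i) with h' | h' <;>
      simp [h, h', z2_add_self]

/-- the extra transposition -/
def extraSwap (hr : 2 ≤ r) : Perm (Fin r) := swap ⟨0, by omega⟩ ⟨1, by omega⟩

/-- the model inside the even permutations -/
def embW (hr : 2 ≤ r) : Wm Ω →* Perm ((Ω × Bool) ⊕ Fin r) :=
  (Perm.sumCongrHom (Ω × Bool) (Fin r)).comp (actW.prod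
    (MonoidHom.mk' (fun x => if ∑ i, Wm.vec x i = 0 then 1 else extraSwap hr) fun x y => by
      have h : ∑ i, Wm.vec (x * y) i = (∑ i, Wm.vec x i) + ∑ i, Wm.vec y i :=
        Multiplicative.ofAdd.injective (parityHom.map_mul x y)
      rw [h]
      rcases z2_cases (∑ i, Wm.vec x i) with h1 | h1 <;> rcases z2_cases (∑ i, Wm.vec y i) with h2 | h2 <;>
        simp [h1, h2, z2_add_self, extraSwap]))

theorem embW_inl (hr : 2 ≤ r) (x : Wm Ω) (z : Ω × Bool) : embW hr x (Sum.inl z) = Sum.inl (actW x z) := rfl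

theorem sign_embW (hr : 2 ≤ r) (x : Wm Ω) : Perm.sign (embW hr x) = 1 := by
  show Perm.sign (Equiv.sumCongr (actW x) (if ∑ i, Wm.vec x i = 0 then 1 else extraSwap hr)) = 1
  rw [Perm.sign_sumCongr, sign_actW]
  split_ifs
  · simp
  · rw [extraSwap, Perm.sign_swap (by simp)]
    simp

theorem embW_injective (hr : 2 ≤ r) : Function.Injective (embW hr : Wm Ω → Perm ((Ω × Bool) ⊕ Fin r)) :=
  fun x y h => actW_injective (Equiv.ext fun z => Sum.inl_injective (by rw [← embW_inl hr, ← embW_inl hr, h]))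

/-- the involution -/
def alphaW (hr : 2 ≤ r) : Perm ((Ω × Bool) ⊕ Fin r) := embW hr (Wm.tm Ω)

theorem alphaW_inl (hr : 2 ≤ r) (i : Ω) (b : Bool) :
    alphaW hr (Sum.inl (i, b) : (Ω × Bool) ⊕ Fin r) = Sum.inl (i, !b) := by
  rw [alphaW, embW_inl, actW_apply]
  simp [Wm.tm, toBool]
  cases b <;> decide

theorem alphaW_inr (hr : 2 ≤ r) (hcard : Even (Fintype.card Ω)) (f : Fin r) :
    (alphaW hr : Perm ((Ω × Bool) ⊕ Fin r)) (Sum.inr f) = Sum.inr f := by
  have h : ∑ i, Wm.vec (Wm.tm Ω) i = 0 := by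
    show ∑ i, (1 : Vec Ω) i = 0
    simp only [Pi.one_apply, sum_const, card_univ, nsmul_eq_mul, mul_one]
    exact (ZMod.natCast_eq_zero_iff_even).2 hcard
  show Sum.inr ((if ∑ i, Wm.vec (Wm.tm Ω) i = 0 then 1 else extraSwap hr) f) = _
  rw [if_pos h]
  rfl

theorem cycleType_alphaW (hr : 2 ≤ r) (hcard : Even (Fintype.card Ω)) :
    (alphaW hr : Perm ((Ω × Bool) ⊕ Fin r)).cycleType = Multiset.replicate (Fintype.card Ω) 2 := by
  have hsq : (alphaW hr : Perm ((Ω × Bool) ⊕ Fin r)) ^ 2 = 1 := by
    rw [alphaW, ← map_pow, pow_two, show Wm.tm Ω * Wm.tm Ω = 1 from Wm.bs_sq _, map_one]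
  have h2 : ∀ m ∈ (alphaW hr : Perm ((Ω × Bool) ⊕ Fin r)).cycleType, m = 2 := fun m hm =>
    le_antisymm (Nat.le_of_dvd two_pos ((Perm.dvd_of_mem_cycleType hm).trans (orderOf_dvd_of_pow_eq_one hsq)))
      (Perm.two_le_of_mem_cycleType hm)
  have hrep := Multiset.eq_replicate_card.2 h2
  have hsupp : (alphaW hr : Perm ((Ω × Bool) ⊕ Fin r)).support = (univ : Finset (Ω × Bool)).map ⟨Sum.inl, Sum.inl_injective⟩ := by
    ext z
    rw [Perm.mem_support]
    rcases z with ⟨i, b⟩ | f
    · simp [alphaW_inl]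
    · simp [alphaW_inr hr hcard]
  have hc := congrArg Multiset.sum hrep
  rw [Perm.sum_cycleType, hsupp, card_map, card_univ, Fintype.card_prod, Fintype.card_bool, Multiset.sum_replicate,
    smul_eq_mul] at hc
  rw [hrep, Multiset.card_replicate] at *
  congr 1
  omega

theorem perm_three_comm : ∀ e : Perm (Fin 3), Perm.sign e = 1 → e * swap 0 1 = swap 0 1 * e → e = 1 := by decide

theorem perm_two_even : ∀ e : Perm (Fin 2), Perm.sign e = 1 → e = 1 := by decide

theorem extra_comm (hr : r = 2 ∨ r = 3) (hr2 : 2 ≤ r) {e : Perm (Fin r)} (he : Perm.sign e = 1)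
    (h : e * extraSwap hr2 = extraSwap hr2 * e) : e = 1 := by
  rcases hr with rfl | rfl
  · exact perm_two_even e he
  · exact perm_three_comm e he h

/-- a permutation centralizing the involution comes from the model on the moved points -/
theorem exists_actW (hr : 2 ≤ r) (hcard : Even (Fintype.card Ω)) {σ : Perm ((Ω × Bool) ⊕ Fin r)}
    (h : σ * alphaW hr = alphaW hr * σ) : ∃ x : Wm Ω, ∀ z, σ (Sum.inl z) = Sum.inl (actW x z) := by
  classical
  have hpt : ∀ y, σ (alphaW hr y) = alphaW hr (σ y) := fun y => DFunLike.congr_fun h y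
  have hin : ∀ z, ∃ z', σ (Sum.inl z) = Sum.inl z' := fun ⟨i, b⟩ => by
    rcases hz : σ (Sum.inl (i, b)) with z' | f
    · exact ⟨z', rfl⟩
    · exfalso
      have h1 := hpt (Sum.inl (i, b))
      rw [hz, alphaW_inr hr hcard, ← hz, alphaW_inl] at h1
      simpa using σ.injective h1
  choose F hF using hin
  have hF' : ∀ i, F (i, true) = ((F (i, false)).1, !(F (i, false)).2) := fun i => by
    have h1 := hpt (Sum.inl (i, false))
    rw [alphaW_inl, hF, hF, alphaW_inl] at h1
    exact Sum.inl_injective h1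
  have hinj : Function.Injective fun i => (F (i, false)).1 := by
    intro i j e
    dsimp only at e
    have hFinj : Function.Injective F := fun a b hab => Sum.inl_injective (σ.injective (by rw [hF, hF, hab]))
    by_cases h2 : (F (i, false)).2 = (F (j, false)).2
    · exact congrArg Prod.fst (hFinj (Prod.ext e h2))
    · exact congrArg Prod.fst (hFinj (a₁ := (i, false)) (a₂ := (j, true)) (by
        rw [hF']
        exact Prod.ext e (by revert h2; cases (F (i, false)).2 <;> cases (F (j, false)).2 <;> simp)))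
  let π : Perm Ω := Equiv.ofBijective _ hinj.bijective_of_finite
  refine ⟨Wm.bs (fun j => if (F (π.symm j, false)).2 then 1 else 0) * Wm.pm π, fun ⟨i, b⟩ => ?_⟩
  rw [hF, actW_apply]
  refine congrArg Sum.inl ?_
  have hv : toBool (Wm.vec (Wm.bs (fun j => if (F (π.symm j, false)).2 then (1 : ZMod 2) else 0) * Wm.pm π) (π i)) =
      (F (i, false)).2 := by
    simp only [Wm.vec_mul, Wm.vec_bs, Wm.vec_pm, Pi.zero_apply, add_zero, Equiv.symm_apply_apply]
    cases (F (i, false)).2 <;> simp [toBool]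
  rw [show Wm.prm (Wm.bs (fun j => if (F (π.symm j, false)).2 then (1 : ZMod 2) else 0) * Wm.pm π) i = π i from rfl,
    hv]
  cases b
  · exact Prod.ext rfl (by simp)
  · rw [hF']
    exact Prod.ext rfl (by simp)

variable {G : Type*} [Group G] [Finite G]

/-- **the data** -/
theorem exists_data (n : ℕ) (hn : 1 ≤ n) (hr : r = 2 ∨ r = 3) {m : ℕ} (hm : m = 4 * n + r)
    (α : ↥(alternatingGroup (Fin m))) (hα : orderOf α = 2)
    (hα4 : (α : Equiv.Perm (Fin m)).support.card = 4 * n)
    (h2 : ∀ H : Subgroup G, H.Normal → H.index ≠ 2)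
    (t : G) (ht : orderOf t = 2) (S : Sylow 2 G) (htZ : ∀ s ∈ (S : Subgroup G), s * t = t * s)
    (hiso : Nonempty (↥(Subgroup.centralizer ({t} : Set G)) ≃*
      ↥(Subgroup.centralizer ({α} : Set ↥(alternatingGroup (Fin m)))))) :
    Nonempty (Data (Fin (2 * n)) G) := by
  classical
  obtain ⟨iso⟩ := hiso
  have hr2 : 2 ≤ r := by omega
  have hcard : Even (Fintype.card (Fin (2 * n))) := by rw [Fintype.card_fin]; exact even_two_mul n
  let X := (Fin (2 * n) × Bool) ⊕ Fin r
  let e0 : X ≃ Fin m := Fintype.equivFinOfCardEq (by simp [X, hm]; ring)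
  have hαα : (α : Equiv.Perm (Fin m)) * α = 1 := by
    have h : α ^ 2 = 1 := hα ▸ pow_orderOf_eq_one α
    rw [pow_two] at h
    exact congrArg Subtype.val h
  have hct : IsConj (e0.permCongr (alphaW hr2)) (α : Equiv.Perm (Fin m)) := by
    refine Perm.isConj_iff_cycleType_eq.2 ?_
    have hβ : e0.permCongr (alphaW hr2) * e0.permCongr (alphaW hr2) = 1 := by
      rw [← Equiv.permCongrHom_coe, ← map_mul, alphaW, ← map_mul, show Wm.tm (Fin (2 * n)) * Wm.tm _ = 1 from Wm.bs_sq _,
        map_one, map_one]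
    have hsupp : (e0.permCongr (alphaW hr2)).support = (alphaW hr2 : Perm X).support.map e0.toEmbedding := by
      ext z
      rw [mem_map_equiv, Perm.mem_support, Perm.mem_support, Equiv.permCongr_apply, ne_eq, ne_eq,
        ← Equiv.eq_symm_apply]
    have hcs : (alphaW hr2 : Perm X).support.card = 4 * n := by
      rw [← Perm.sum_cycleType, cycleType_alphaW hr2 hcard, Multiset.sum_replicate, Fintype.card_fin, smul_eq_mul]
      omega
    rw [cycleType_invol hβ, cycleType_invol hαα, hsupp, card_map, hcs, hα4]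
  obtain ⟨π₀, hπ₀⟩ := isConj_iff.1 hct
  let e : X ≃ Fin m := e0.trans π₀
  let E : Perm X ≃* Perm (Fin m) := e.permCongrHom
  have hEsign : ∀ σ, Perm.sign (E σ) = Perm.sign σ := fun σ => Perm.sign_permCongr e σ
  have hEα : E (alphaW hr2) = α := by
    rw [← hπ₀]
    exact Equiv.ext fun z => by simp [E, e, Equiv.permCongrHom]
  let H := Subgroup.centralizer ({α} : Set ↥(alternatingGroup (Fin m)))
  have hH : ∀ σ : H, (E.symm ((σ : ↥(alternatingGroup (Fin m))) : Perm (Fin m))) * alphaW hr2 =
      alphaW hr2 * E.symm ((σ : ↥(alternatingGroup (Fin m))) : Perm (Fin m)) := fun σ => by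
    apply E.injective
    rw [map_mul, map_mul, E.apply_symm_apply, hEα]
    exact congrArg Subtype.val (Subgroup.mem_centralizer_singleton_iff.1 σ.2)
  choose R hR using fun σ : H => exists_actW hr2 hcard (hH σ)
  let Rh : H →* Wm (Fin (2 * n)) := MonoidHom.mk' R fun σ τ => actW_injective (Equiv.ext fun z => Sum.inl_injective (by
    rw [← hR, map_mul actW, Perm.mul_apply, ← hR, ← hR]
    push_cast
    rw [map_mul, Perm.mul_apply]))
  let Ψ : Wm (Fin (2 * n)) →* H :=
    MonoidHom.mk' (fun x => ⟨⟨E (embW hr2 x), Perm.mem_alternatingGroup.2 (by rw [hEsign, sign_embW])⟩,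
      Subgroup.mem_centralizer_singleton_iff.2 (Subtype.ext (by
        show E (embW hr2 x) * (α : Perm (Fin m)) = (α : Perm (Fin m)) * E (embW hr2 x)
        rw [← hEα, alphaW, ← map_mul, ← map_mul, ← map_mul, ← map_mul, Wm.tm_comm]))⟩)
      fun x y => Subtype.ext (Subtype.ext (by push_cast; rw [map_mul, map_mul]))
  have hRΨ : ∀ x, Rh (Ψ x) = x := fun x => actW_injective (Equiv.ext fun z => Sum.inl_injective (by
    show Sum.inl (actW (R (Ψ x)) z) = _
    rw [← hR, ← embW_inl hr2]
    show E.symm (E (embW hr2 x)) (Sum.inl z) = _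
    rw [E.symm_apply_apply]))
  -- the kernel
  have hker : ∀ σ : H, Rh σ = 1 → ∃ q : Perm (Fin r), Perm.sign q = 1 ∧
      E.symm ((σ : ↥(alternatingGroup (Fin m))) : Perm (Fin m)) = Equiv.sumCongr 1 q := by
    intro σ hσ
    have hinl : ∀ z, E.symm ((σ : ↥(alternatingGroup (Fin m))) : Perm (Fin m)) (Sum.inl z) = Sum.inl z := fun z => by
      rw [hR, show R σ = 1 from hσ, map_one, Perm.one_apply]
    set τ := E.symm ((σ : ↥(alternatingGroup (Fin m))) : Perm (Fin m)) with hτ
    obtain ⟨⟨p, q⟩, hpq⟩ : τ ∈ (Perm.sumCongrHom (Fin (2 * n) × Bool) (Fin r)).range :=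
      Perm.mem_sumCongrHom_range_of_perm_mapsTo_inl fun x ⟨z, hz⟩ => ⟨z, by rw [← hz, hinl]⟩
    have hp : p = 1 := Equiv.ext fun z => Sum.inl_injective (by
      have h := DFunLike.congr_fun hpq (Sum.inl z)
      rw [hinl] at h
      exact h)
    refine ⟨q, ?_, by rw [← hpq, hp]; rfl⟩
    have h1 : Perm.sign τ = 1 := by
      rw [← hEsign, hτ, E.apply_symm_apply]
      exact Perm.mem_alternatingGroup.1 (σ : ↥(alternatingGroup (Fin m))).2
    rw [← hpq, hp] at h1
    rw [show Perm.sumCongrHom (Fin (2 * n) × Bool) (Fin r) (1, q) = Equiv.sumCongr 1 q from rfl,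
      Perm.sign_sumCongr, map_one, one_mul] at h1
    exact h1
  have hkcomm : ∀ σ : H, Rh σ = 1 → ∀ i, σ * Ψ (Wm.bs (ev i)) = Ψ (Wm.bs (ev i)) * σ → σ = 1 := by
    intro σ hσ i hc
    obtain ⟨q, hq, hqσ⟩ := hker σ hσ
    have h1 := congrArg (fun z : H => E.symm ((z : ↥(alternatingGroup (Fin m))) : Perm (Fin m))) hc
    push_cast at h1
    rw [map_mul, map_mul, hqσ,
      show E.symm (((Ψ (Wm.bs (ev i)) : H) : ↥(alternatingGroup (Fin m))) : Perm (Fin m)) = embW hr2 (Wm.bs (ev i))
        from E.symm_apply_apply _] at h1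
    have hsum : ∑ l, Wm.vec (Wm.bs (ev i : Vec (Fin (2 * n)))) l = 1 := sum_ev i
    have hq1 : q = 1 := extra_comm hr hr2 hq (Equiv.ext fun f => Sum.inr_injective (by
      have h3 := DFunLike.congr_fun h1 (Sum.inr f)
      have hne : ¬ (∑ l, Wm.vec (Wm.bs (ev i : Vec (Fin (2 * n)))) l = 0) := by rw [hsum]; exact one_ne_zero
      have hval : ∀ g, embW hr2 (Wm.bs (ev i : Vec (Fin (2 * n)))) (Sum.inr g) = Sum.inr (extraSwap hr2 g) := fun g => by
        show Sum.inr ((if ∑ l, Wm.vec (Wm.bs (ev i : Vec (Fin (2 * n)))) l = 0 then 1 else extraSwap hr2) g) = _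
        rw [if_neg hne]
      simp only [Perm.mul_apply, hval, Equiv.sumCongr_apply, Sum.map_inr] at h3
      exact h3))
    refine Subtype.ext (Subtype.ext (E.symm.injective ?_))
    rw [hqσ, hq1]
    refine Eq.trans ?_ (map_one E.symm).symm
    exact Equiv.ext fun z => by cases z <;> rfl
  -- `t` corresponds to `α`
  have htt : t * t = 1 := by rw [← pow_two, ← ht, pow_orderOf_eq_one]
  let tC : Subgroup.centralizer ({t} : Set G) := ⟨t, Subgroup.mem_centralizer_singleton_iff.2 rfl⟩
  set T := iso tC with hTdef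
  have hTT : T * T = 1 := by rw [hTdef, ← map_mul, show tC * tC = 1 from Subtype.ext htt, map_one]
  have hTc : ∀ z : H, z * T = T * z := fun z => by
    obtain ⟨c, rfl⟩ := iso.surjective z
    rw [hTdef, ← map_mul, ← map_mul]
    exact congrArg iso (Subtype.ext (Subgroup.mem_centralizer_singleton_iff.1 c.2))
  have hT1 : T ≠ 1 := fun h => by
    have h1 : tC = 1 := iso.injective (h.trans (map_one iso).symm)
    rw [show t = 1 from congrArg Subtype.val h1, orderOf_one] at ht
    exact absurd ht (by norm_num)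
  have hT : T = Ψ (Wm.tm (Fin (2 * n))) := by
    have hRc : ∀ x, Rh T * x = x * Rh T := fun x => by
      conv_lhs => rw [← hRΨ x, ← map_mul, ← hTc, map_mul, hRΨ]
    set w := Rh T with hw
    have hb : Wm.prm w = 1 := Equiv.ext fun i => by
      have h := congrArg Wm.vec (hRc (Wm.bs (ev i)))
      have h2 := congrFun h (Wm.prm w i)
      simp [Wm.vec_mul, ev_apply] at h2
      rw [Perm.one_apply]
      by_contra hne
      rw [if_neg hne, zero_add, add_eq_left] at h2
      exact one_ne_zero h2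
    have hconst : ∀ i j, Wm.vec w i = Wm.vec w j := fun i j => by
      have h := congrFun (congrArg Wm.vec (hRc (Wm.pm (swap i j)))) i
      simp [Wm.vec_mul, hb] at h
      exact h
    have hi : (⟨0, by omega⟩ : Fin (2 * n)) = ⟨0, by omega⟩ := rfl
    rcases z2_cases (Wm.vec w ⟨0, by omega⟩) with h | h
    · exfalso
      have hw1 : w = 1 := Wm.ext' (funext fun i => (hconst i ⟨0, by omega⟩).trans h) hb
      exact hT1 (hkcomm T hw1 ⟨0, by omega⟩ (hTc _).symm)
    · have hw1 : w = Wm.tm (Fin (2 * n)) := Wm.ext' (funext fun i => (hconst i ⟨0, by omega⟩).trans h) hb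
      have h1 := hkcomm (T * (Ψ (Wm.tm (Fin (2 * n))))⁻¹) (by rw [map_mul, map_inv, hRΨ, ← hw, hw1, mul_inv_cancel])
        ⟨0, by omega⟩ (by
          have c1 : Commute T (Ψ (Wm.bs (ev ⟨0, by omega⟩))) := (hTc _).symm
          have c2 : Commute (Ψ (Wm.tm (Fin (2 * n)))) (Ψ (Wm.bs (ev ⟨0, by omega⟩))) :=
            (show Commute (Wm.tm (Fin (2 * n))) (Wm.bs (ev ⟨0, by omega⟩)) from (Wm.tm_comm _).symm).map Ψ
          exact (c1.mul_left c2.inv_left).eq)
      exact mul_inv_eq_one.1 h1
  -- the fields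
  let φ : Wm (Fin (2 * n)) →* G :=
    (Subgroup.centralizer ({t} : Set G)).subtype.comp (iso.symm.toMonoidHom.comp Ψ)
  have hφt : φ (Wm.tm (Fin (2 * n))) = t := by
    show ((iso.symm (Ψ (Wm.tm (Fin (2 * n))))) : G) = t
    rw [← hT, hTdef, iso.symm_apply_apply]
  let incl : Subgroup.centralizer ({φ (Wm.tm (Fin (2 * n)))} : Set G) →* Subgroup.centralizer ({t} : Set G) :=
    Subgroup.inclusion (by rw [hφt])
  have hincl : Function.Injective incl := Subgroup.inclusion_injective _
  refine ⟨{ φ := φ, inj := fun x y h => ?_, ρ := Rh.comp (iso.toMonoidHom.comp incl), retr := fun x h => ?_,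
            ker_odd := ?_, ker_comm := fun k i hk hc => ?_, index_odd := ?_, even_card := hcard,
            pos := by rw [Fintype.card_fin]; omega, noTwo := h2 }⟩
  · have h1 : Ψ x = Ψ y := iso.symm.injective (Subtype.ext h)
    have h3 := congrArg Rh h1
    rwa [hRΨ, hRΨ] at h3
  · show Rh (iso (incl ⟨φ x, h⟩)) = x
    rw [show incl ⟨φ x, h⟩ = iso.symm (Ψ x) from Subtype.ext rfl, iso.apply_symm_apply, hRΨ]
  · let f : (Rh.comp (iso.toMonoidHom.comp incl)).ker → Perm (Fin r) := fun k =>
      (hker (iso (incl k)) (MonoidHom.mem_ker.1 k.2)).choose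
    have hf : ∀ k, Perm.sign (f k) = 1 ∧
        E.symm ((iso (incl (k : Subgroup.centralizer ({φ (Wm.tm (Fin (2 * n)))} : Set G))) :
          ↥(alternatingGroup (Fin m))) : Perm (Fin m)) = Equiv.sumCongr 1 (f k) := fun k =>
      (hker (iso (incl k)) (MonoidHom.mem_ker.1 k.2)).choose_spec
    let fh : (Rh.comp (iso.toMonoidHom.comp incl)).ker →* alternatingGroup (Fin r) :=
      MonoidHom.mk' (fun k => ⟨f k, Perm.mem_alternatingGroup.2 (hf k).1⟩) fun a b => Subtype.ext (Equiv.ext fun z =>
        Sum.inr_injective (by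
          have h := DFunLike.congr_fun (hf (a * b)).2 (Sum.inr z)
          push_cast at h
          rw [map_mul, map_mul, Subgroup.coe_mul, Subgroup.coe_mul, map_mul, (hf a).2, (hf b).2] at h
          exact h.symm))
    have hfinj : Function.Injective fh := fun a b h => Subtype.ext (hincl (iso.injective (Subtype.ext (Subtype.ext
      (E.symm.injective (by rw [(hf a).2, (hf b).2, show f a = f b from congrArg Subtype.val h]))))))
    have hd := Subgroup.card_dvd_of_injective fh hfinj
    rw [Nat.card_eq_fintype_card (α := alternatingGroup (Fin r))] at hd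
    refine Odd.of_dvd_nat ?_ hd
    rcases hr with rfl | rfl <;> decide
  · refine hincl (iso.injective ?_)
    rw [map_one, map_one]
    refine hkcomm _ hk i ?_
    have h1 : incl k * iso.symm (Ψ (Wm.bs (ev i))) = iso.symm (Ψ (Wm.bs (ev i))) * incl k := Subtype.ext hc
    have h3 := congrArg iso h1
    rwa [map_mul, map_mul, iso.apply_symm_apply] at h3
  · rw [hφt]
    have hle : (S : Subgroup G) ≤ Subgroup.centralizer ({t} : Set G) := fun s hs =>
      Subgroup.mem_centralizer_singleton_iff.2 (htZ s hs)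
    exact Nat.not_even_iff_odd.1 fun he => S.not_dvd_index (he.two_dvd.trans (Subgroup.index_dvd_of_le hle))

end CfsgLib.KondoAlt
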