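import Mathlib

/-!
# The group of signed permutations over the field with two elements

`Wm Ω` is the wreath product of a group of order two with the symmetric group on `Ω`; `blk μ` is
the elementary abelian subgroup attached to a permutation `μ` of order at most two.
-/

set_option autoImplicit false
set_option linter.unusedSectionVars false
set_option linter.style.haveILetI false

namespace CfsgLib.KondoAlt

open Equiv

variable {Ω : Type*}

/-- bit vectors on `Ω` -/
abbrev Vec (Ω : Type*) := Ω → ZMod 2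

theorem apply_inv (π : Perm Ω) (i : Ω) : π (π⁻¹ i) = i := π.apply_symm_apply i

theorem inv_apply (π : Perm Ω) (i : Ω) : π⁻¹ (π i) = i := π.symm_apply_apply i

theorem z2_cases (a : ZMod 2) : a = 0 ∨ a = 1 := by revert a; decide

theorem z2_add_self (a : ZMod 2) : a + a = 0 := CharTwo.add_self_eq_zero a

theorem vec_add_self (v : Vec Ω) : v + v = 0 := funext fun x => z2_add_self (v x)

theorem z2_eq_of_add {a b : ZMod 2} (h : a + b = 0) : a = b := by
  revert h
  rcases z2_cases a with rfl | rfl <;> rcases z2_cases b with rfl | rfl <;> decide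

/-- permutations acting on bit vectors -/
def permVec (Ω : Type*) : Perm Ω →* MulAut (Multiplicative (Vec Ω)) where
  toFun π :=
    { toFun := fun v => Multiplicative.ofAdd fun x => v.toAdd (π⁻¹ x)
      invFun := fun v => Multiplicative.ofAdd fun x => v.toAdd (π x)
      left_inv := fun v => Multiplicative.toAdd.injective (funext fun x => by simp)
      right_inv := fun v => Multiplicative.toAdd.injective (funext fun x => by simp)
      map_mul' := fun v w => rfl }
  map_one' := MulEquiv.ext fun v => rfl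
  map_mul' π ρ := MulEquiv.ext fun v => rfl

/-- the model -/
abbrev Wm (Ω : Type*) := Multiplicative (Vec Ω) ⋊[permVec Ω] Perm Ω

instance instFiniteWm [Finite Ω] : Finite (Wm Ω) := Finite.of_equiv _ SemidirectProduct.equivProd.symm

namespace Wm

/-- the bit part -/
def vec (x : Wm Ω) : Vec Ω := x.left.toAdd

/-- the permutation part -/
def prm (x : Wm Ω) : Perm Ω := x.right

/-- a base element -/
def bs (v : Vec Ω) : Wm Ω := ⟨Multiplicative.ofAdd v, 1⟩

/-- a permutation -/
def pm (π : Perm Ω) : Wm Ω := ⟨1, π⟩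

@[simp] theorem vec_bs (v : Vec Ω) : vec (bs v) = v := rfl
@[simp] theorem prm_bs (v : Vec Ω) : prm (bs v) = 1 := rfl
@[simp] theorem vec_pm (π : Perm Ω) : vec (pm π) = 0 := rfl
@[simp] theorem prm_pm (π : Perm Ω) : prm (pm π) = π := rfl
@[simp] theorem vec_one : vec (1 : Wm Ω) = 0 := rfl
@[simp] theorem prm_one : prm (1 : Wm Ω) = 1 := rfl

theorem ext' {x y : Wm Ω} (h1 : vec x = vec y) (h2 : prm x = prm y) : x = y :=
  SemidirectProduct.ext (Multiplicative.toAdd.injective h1) h2

@[simp] theorem prm_mul (x y : Wm Ω) : prm (x * y) = prm x * prm y := rfl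

theorem vec_mul (x y : Wm Ω) (i : Ω) : vec (x * y) i = vec x i + vec y ((prm x)⁻¹ i) := rfl

@[simp] theorem prm_inv (x : Wm Ω) : prm x⁻¹ = (prm x)⁻¹ := rfl

theorem vec_inv (x : Wm Ω) (i : Ω) : vec x⁻¹ i = vec x (prm x i) := by
  have h := congrFun (congrArg vec (inv_mul_cancel x)) i
  rw [vec_mul, prm_inv, inv_inv] at h
  exact z2_eq_of_add h

/-- the permutation part as a homomorphism -/
def prmHom (Ω : Type*) : Wm Ω →* Perm Ω := SemidirectProduct.rightHom

theorem prmHom_apply (x : Wm Ω) : prmHom Ω x = prm x := rfl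

theorem bs_add (v w : Vec Ω) : bs (v + w) = bs v * bs w := ext' (funext fun _ => rfl) rfl

theorem bs_zero : bs (0 : Vec Ω) = 1 := rfl

theorem eq_bs_mul_pm (x : Wm Ω) : x = bs (vec x) * pm (prm x) :=
  ext' (funext fun i => by rw [vec_mul, vec_bs, vec_pm, Pi.zero_apply, add_zero]) (by simp)

theorem bs_injective : Function.Injective (bs : Vec Ω → Wm Ω) := fun _ _ h => congrArg vec h

theorem bs_sq (v : Vec Ω) : bs v * bs v = 1 := by rw [← bs_add, vec_add_self, bs_zero]

theorem bs_inv (v : Vec Ω) : (bs v)⁻¹ = bs v := inv_eq_of_mul_eq_one_right (bs_sq v)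

theorem bs_comm (v w : Vec Ω) : bs v * bs w = bs w * bs v := by rw [← bs_add, ← bs_add, add_comm]

theorem conj_bs (x : Wm Ω) (w : Vec Ω) : x * bs w * x⁻¹ = bs fun i => w ((prm x)⁻¹ i) := by
  refine ext' (funext fun i => ?_) (by simp)
  rw [vec_mul, vec_mul, vec_inv, vec_bs, vec_bs, prm_mul, prm_bs, mul_one, apply_inv]
  rw [add_comm (vec x i), add_assoc, z2_add_self, add_zero]

theorem pm_mul (π ρ : Perm Ω) : pm (π * ρ) = pm π * pm ρ := ext' (funext fun _ => by simp [vec_mul]) rfl

theorem pm_inv (π : Perm Ω) : (pm π)⁻¹ = pm π⁻¹ := ext' (funext fun i => by simp [vec_inv]) rfl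

/-- the all-one element -/
def tm (Ω : Type*) : Wm Ω := bs 1

theorem tm_comm (x : Wm Ω) : x * tm Ω = tm Ω * x := by
  have h := conj_bs x (1 : Vec Ω)
  rw [show (fun i => (1 : Vec Ω) ((prm x)⁻¹ i)) = (1 : Vec Ω) from rfl] at h
  exact (mul_inv_eq_iff_eq_mul.1 h)

theorem sq_eq_one_iff (x : Wm Ω) :
    x * x = 1 ↔ prm x * prm x = 1 ∧ ∀ i, vec x ((prm x)⁻¹ i) = vec x i := by
  constructor
  · intro h
    refine ⟨congrArg prm h, fun i => ?_⟩
    have h1 := congrFun (congrArg vec h) i
    rw [vec_mul] at h1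
    exact (z2_eq_of_add h1).symm
  · rintro ⟨h1, h2⟩
    refine ext' (funext fun i => ?_) (by rw [prm_mul, h1]; rfl)
    rw [vec_mul, h2, z2_add_self]
    rfl

/-- the base -/
def baseG (Ω : Type*) : Subgroup (Wm Ω) where
  carrier := {x | prm x = 1}
  one_mem' := rfl
  mul_mem' := fun {x y} hx hy => by
    show prm x * prm y = 1
    rw [show prm x = 1 from hx, show prm y = 1 from hy, one_mul]
  inv_mem' := fun {x} hx => by
    show (prm x)⁻¹ = 1
    rw [show prm x = 1 from hx, inv_one]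

theorem mem_baseG {x : Wm Ω} : x ∈ baseG Ω ↔ prm x = 1 := Iff.rfl

theorem eq_bs_of_mem {x : Wm Ω} (h : x ∈ baseG Ω) : x = bs (vec x) := ext' rfl h

instance baseG_normal : (baseG Ω).Normal := ⟨fun x hx g => by
  show prm g * prm x * (prm g)⁻¹ = 1
  rw [show prm x = 1 from hx, mul_one, mul_inv_cancel]⟩

/-- the elementary abelian subgroup of an involutive permutation -/
def blk (μ : Perm Ω) (hμ : μ * μ = 1) : Subgroup (Wm Ω) where
  carrier := {x | (∀ i, prm x i = i ∨ prm x i = μ i) ∧ ∀ i, vec x (μ i) = vec x i}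
  one_mem' := ⟨fun _ => Or.inl rfl, fun _ => rfl⟩
  mul_mem' := fun {x y} hx hy => by
    have hμμ : ∀ i, μ (μ i) = i := fun i => by rw [← Perm.mul_apply, hμ]; rfl
    refine ⟨fun i => ?_, fun i => ?_⟩
    · rw [prm_mul, Perm.mul_apply]
      rcases hy.1 i with h | h <;> rw [h]
      · exact hx.1 i
      · rcases hx.1 (μ i) with h' | h'
        · exact Or.inr h'
        · exact Or.inl (h'.trans (hμμ i))
    · rw [vec_mul, vec_mul, hx.2]
      congr 1
      have key : ∀ j, (prm x)⁻¹ j = j ∨ (prm x)⁻¹ j = μ j := fun j => by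
        rcases hx.1 ((prm x)⁻¹ j) with h | h
        · exact Or.inl (by rw [apply_inv] at h; exact h.symm)
        · rw [apply_inv] at h
          exact Or.inr (by conv_rhs => rw [h, hμμ])
      rcases key (μ i) with h | h <;> rcases key i with h' | h' <;> rw [h, h'] <;>
        simp only [hμμ, hy.2]
  inv_mem' := fun {x} hx => by
    have hμμ : ∀ i, μ (μ i) = i := fun i => by rw [← Perm.mul_apply, hμ]; rfl
    refine ⟨fun i => ?_, fun i => ?_⟩
    · rw [prm_inv]
      rcases hx.1 ((prm x)⁻¹ i) with h | h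
      · exact Or.inl (by rw [apply_inv] at h; exact h.symm)
      · rw [apply_inv] at h
        exact Or.inr (by conv_rhs => rw [h, hμμ])
    · rw [vec_inv, vec_inv]
      rcases hx.1 (μ i) with h | h <;> rcases hx.1 i with h' | h' <;> rw [h, h'] <;>
        simp only [hμμ, hx.2]

theorem mem_blk {μ : Perm Ω} {hμ : μ * μ = 1} {x : Wm Ω} :
    x ∈ blk μ hμ ↔ (∀ i, prm x i = i ∨ prm x i = μ i) ∧ ∀ i, vec x (μ i) = vec x i := Iff.rfl

theorem blk_one : blk (1 : Perm Ω) (one_mul 1) = baseG Ω := by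
  ext x
  simp only [mem_blk, mem_baseG, Perm.one_apply, or_self, implies_true, and_true]
  exact ⟨fun h => Equiv.ext h, fun h i => by rw [h]; rfl⟩

theorem tm_mem_blk {μ : Perm Ω} (hμ : μ * μ = 1) : tm Ω ∈ blk μ hμ :=
  ⟨fun _ => Or.inl rfl, fun _ => rfl⟩

theorem bs_mem_blk {μ : Perm Ω} (hμ : μ * μ = 1) {v : Vec Ω} :
    bs v ∈ blk μ hμ ↔ ∀ i, v (μ i) = v i := by
  simp [mem_blk]

theorem blk_conj {μ : Perm Ω} (hμ : μ * μ = 1) {x : Wm Ω} (hx : x ∈ blk μ hμ) (i : Ω) :
    prm x (μ i) = μ (prm x i) := by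
  have hμμ : ∀ j, μ (μ j) = j := fun j => by rw [← Perm.mul_apply, hμ]; rfl
  rcases hx.1 (μ i) with h | h <;> rcases hx.1 i with h' | h'
  · rw [h, h']
  · -- the two points have the same image
    have h1 := (prm x).injective (h'.trans h.symm)
    rw [h, h', hμμ, ← h1]
  · rw [hμμ] at h
    have h1 := (prm x).injective (h.trans h'.symm)
    rw [h, h', h1]
  · rw [h, h']

theorem blk_comm {μ : Perm Ω} (hμ : μ * μ = 1) {x y : Wm Ω} (hx : x ∈ blk μ hμ) (hy : y ∈ blk μ hμ) :
    x * y = y * x := by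
  have hμμ : ∀ i, μ (μ i) = i := fun i => by rw [← Perm.mul_apply, hμ]; rfl
  refine ext' (funext fun i => ?_) ?_
  · have hp : ∀ {z : Wm Ω}, z ∈ blk μ hμ → ∀ w : Wm Ω, w ∈ blk μ hμ → vec w ((prm z)⁻¹ i) = vec w i :=
      fun {z} hz w hw => by
        rcases ((blk μ hμ).inv_mem hz).1 i with h | h <;> rw [prm_inv] at h <;> rw [h]
        exact hw.2 i
    rw [vec_mul, vec_mul, hp hx y hy, hp hy x hx, add_comm]
  · rw [prm_mul, prm_mul]
    refine Equiv.ext fun i => ?_
    rw [Perm.mul_apply, Perm.mul_apply]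
    rcases hy.1 i with h | h <;> rw [h]
    · rcases hx.1 i with h' | h' <;> rw [h']
      · rw [h]
      · rw [blk_conj hμ hy, h]
    · rw [blk_conj hμ hx]
      rcases hx.1 i with h' | h' <;> rw [h']
      · rw [h]
      · rw [blk_conj hμ hy, h]

theorem blk_sq {μ : Perm Ω} (hμ : μ * μ = 1) {x : Wm Ω} (hx : x ∈ blk μ hμ) : x * x = 1 := by
  have hμμ : ∀ i, μ (μ i) = i := fun i => by rw [← Perm.mul_apply, hμ]; rfl
  rw [sq_eq_one_iff]
  refine ⟨Equiv.ext fun i => ?_, fun i => ?_⟩
  · rw [Perm.mul_apply, Perm.one_apply]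
    rcases hx.1 i with h | h <;> rw [h]
    · exact h
    · rw [blk_conj hμ hx, h, hμμ]
  · rcases ((blk μ hμ).inv_mem hx).1 i with h | h <;> rw [prm_inv] at h <;> rw [h]
    exact hx.2 i

/-- conjugating a block subgroup by a permutation -/
theorem conj_mem_blk {μ ν : Perm Ω} (hμ : μ * μ = 1) {hν : ν * ν = 1} (π : Perm Ω)
    (h : ν = π * μ * π⁻¹) {x : Wm Ω} (hx : x ∈ blk μ hμ) : pm π * x * (pm π)⁻¹ ∈ blk ν hν := by
  subst h
  have hv : ∀ i, vec (pm π * x * (pm π)⁻¹) i = vec x (π⁻¹ i) := fun i => by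
    simp [vec_mul, vec_inv]
  refine ⟨fun i => ?_, fun i => ?_⟩
  · simp only [prm_mul, prm_inv, prm_pm, Perm.mul_apply]
    rcases hx.1 (π⁻¹ i) with h | h <;> rw [h]
    · exact Or.inl (apply_inv π i)
    · exact Or.inr rfl
  · rw [hv, hv, Perm.mul_apply, Perm.mul_apply, inv_apply, hx.2]

variable [Finite Ω]

theorem card_vec : Nat.card (Vec Ω) = 2 ^ Nat.card Ω := by
  rw [Nat.card_fun, Nat.card_zmod]

theorem card_baseG : Nat.card (baseG Ω) = 2 ^ Nat.card Ω := by
  rw [← card_vec]
  exact Nat.card_congr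
    { toFun := fun x => vec (x : Wm Ω)
      invFun := fun v => ⟨bs v, rfl⟩
      left_inv := fun x => Subtype.ext (eq_bs_of_mem x.2).symm
      right_inv := fun _ => rfl }

/-- an element commuting with a block subgroup lies in it -/
theorem mem_blk_of_commute [DecidableEq Ω] {μ : Perm Ω} (hμ : μ * μ = 1) {x : Wm Ω}
    (h : ∀ a ∈ blk μ hμ, x * a = a * x) : x ∈ blk μ hμ := by
  have hμμ : ∀ i, μ (μ i) = i := fun i => by rw [← Perm.mul_apply, hμ]; rfl
  have hpi : ∀ i, prm x i = i ∨ prm x i = μ i := by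
    intro i
    let w : Vec Ω := fun j => if j = i ∨ j = μ i then 1 else 0
    have hw : ∀ j, w (μ j) = w j := fun j => by
      refine if_congr ⟨?_, ?_⟩ rfl rfl
      · rintro (h | h)
        · exact Or.inr (by rw [← h, hμμ])
        · exact Or.inl (μ.injective h)
      · rintro (rfl | rfl)
        · exact Or.inr rfl
        · exact Or.inl (hμμ i)
    have h1 := h (bs w) ((bs_mem_blk hμ).2 hw)
    rw [← mul_inv_eq_iff_eq_mul, conj_bs] at h1
    have h2 := congrFun (bs_injective h1) (prm x i)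
    rw [inv_apply] at h2
    by_contra hc
    simp [w, hc] at h2
  refine ⟨hpi, fun i => ?_⟩
  rcases eq_or_ne (μ i) i with he | hne
  · rw [he]
  · let ρ : Perm Ω := Equiv.swap i (μ i)
    have hρ : pm ρ ∈ blk μ hμ := by
      refine ⟨fun j => ?_, fun j => rfl⟩
      rw [prm_pm]
      rcases eq_or_ne j i with rfl | hji
      · exact Or.inr (Equiv.swap_apply_left _ _)
      rcases eq_or_ne j (μ i) with rfl | hjm
      · exact Or.inr (by rw [Equiv.swap_apply_right, hμμ])
      · exact Or.inl (Equiv.swap_apply_of_ne_of_ne hji hjm)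
    have h1 := congrFun (congrArg vec (h _ hρ)) i
    rw [vec_mul, vec_mul, vec_pm, prm_pm, Pi.zero_apply, Pi.zero_apply, add_zero, zero_add,
      show ρ⁻¹ i = μ i by simp [ρ]] at h1
    exact h1.symm

end Wm

end CfsgLib.KondoAlt
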