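import Cfsg.Agent.Lib.Invol.KondoAlt.Model

/-!
# Linear groups with the symmetric group as the stabilizer of the all-one vector

The orbit of the all-one vector is trivial or consists of `|Ω| + 1` vectors of sum zero.
-/

set_option autoImplicit false
set_option linter.unusedSectionVars false
set_option linter.style.haveILetI false

namespace CfsgLib.KondoAlt

open Equiv Finset

variable {Ω : Type*} [Fintype Ω] [DecidableEq Ω]

/-- permutations as permutations of bit vectors -/
def pe : Perm Ω →* Perm (Vec Ω) where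
  toFun π := ⟨fun v i => v (π⁻¹ i), fun v i => v (π i),
    fun v => funext fun i => by simp, fun v => funext fun i => by simp⟩
  map_one' := Equiv.ext fun _ => rfl
  map_mul' _ _ := Equiv.ext fun _ => rfl

theorem pe_apply (π : Perm Ω) (v : Vec Ω) (i : Ω) : pe π v i = v (π⁻¹ i) := rfl

theorem pe_one_vec (π : Perm Ω) : pe π (1 : Vec Ω) = 1 := rfl

/-- the unit vector -/
def ev (i : Ω) : Vec Ω := Pi.single i 1

theorem ev_apply (i j : Ω) : ev i j = if j = i then 1 else 0 := by simp [ev, Pi.single_apply]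

theorem pe_ev (π : Perm Ω) (i : Ω) : pe π (ev i) = ev (π i) := funext fun j => by
  rw [pe_apply, ev_apply, ev_apply]
  exact if_congr Perm.inv_eq_iff_eq rfl rfl

theorem pe_injective : Function.Injective (pe : Perm Ω → Perm (Vec Ω)) := fun π ρ h => by
  refine Equiv.ext fun i => ?_
  have h1 := congrFun (DFunLike.congr_fun h (ev i)) (π i)
  rw [pe_ev, pe_ev, ev_apply, if_pos rfl, ev_apply] at h1
  by_contra hne
  rw [if_neg hne] at h1
  exact one_ne_zero h1

theorem pe_swap_eq (i j : Ω) (v : Vec Ω) : pe (swap i j) v = v + (v i + v j) • (ev i + ev j) := by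
  refine funext fun k => ?_
  rw [pe_apply, Perm.inv_def, symm_swap, Pi.add_apply, Pi.smul_apply, Pi.add_apply, ev_apply, ev_apply, smul_eq_mul]
  rcases eq_or_ne k i with rfl | hi
  · rw [swap_apply_left, if_pos rfl]
    rcases eq_or_ne k j with rfl | hj
    · simp [z2_add_self]
    · rw [if_neg hj, add_zero, mul_one, ← add_assoc, z2_add_self, zero_add]
  rcases eq_or_ne k j with rfl | hj
  · rw [swap_apply_right, if_neg hi, if_pos rfl, zero_add, mul_one, add_comm (v i), ← add_assoc, z2_add_self,
      zero_add]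
  · rw [swap_apply_of_ne_of_ne hi hj, if_neg hi, if_neg hj, add_zero, mul_zero, add_zero]

theorem eq_swap_of_transvection {π : Perm Ω} (hπ : π ≠ 1) (c : Vec Ω)
    (h : ∀ v, pe π v = v ∨ pe π v = v + c) : ∃ i j, i ≠ j ∧ π = swap i j := by
  obtain ⟨i, hi⟩ : ∃ i, π i ≠ i := by
    by_contra! hall
    exact hπ (Equiv.ext hall)
  have key : ∀ k, π k ≠ k → c = ev k + ev (π k) := fun k hk => by
    rcases h (ev k) with h1 | h1 <;> rw [pe_ev] at h1
    · have h2 := congrFun h1 k
      rw [ev_apply, ev_apply, if_neg (Ne.symm hk), if_pos rfl] at h2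
      exact absurd h2.symm one_ne_zero
    · rw [h1, ← add_assoc, vec_add_self, zero_add]
  refine ⟨i, π i, Ne.symm hi, Equiv.ext fun k => ?_⟩
  have hmem : ∀ k, π k ≠ k → k = i ∨ k = π i := by
    intro k hk
    by_contra hc
    push Not at hc
    have h1 := congrFun ((key k hk).symm.trans (key i hi)) k
    simp only [Pi.add_apply, ev_apply, if_pos rfl, if_neg hc.1, if_neg hc.2, if_neg (Ne.symm hk), add_zero] at h1
    exact one_ne_zero h1
  rcases eq_or_ne k i with rfl | hki
  · rw [swap_apply_left]
  rcases eq_or_ne k (π i) with rfl | hkp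
  · rw [swap_apply_right]
    rcases hmem (π i) (fun h2 => hi (π.injective h2)) with h2 | h2
    · exact absurd h2 hki
    · have h3 : π (π i) ≠ π i := fun h4 => hi (π.injective h4)
      by_contra hne
      rcases hmem (π (π i)) (fun h5 => h3 (π.injective h5)) with h4 | h4
      · exact hne h4
      · exact h3 h4
  · rw [swap_apply_of_ne_of_ne hki hkp]
    by_contra hne
    rcases hmem k hne with h2 | h2
    exacts [hki h2, hkp h2]

theorem swap_comm_or_braid (i j k l : Ω) :
    swap i j * swap k l = swap k l * swap i j ∨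
      swap i j * swap k l * swap i j = swap k l * swap i j * swap k l := by
  have hconj : ∀ a b c d : Ω, swap a b * swap c d * swap a b = swap (swap a b c) (swap a b d) := fun a b c d => by
    conv_lhs => arg 2; rw [← swap_inv]
    rw [Equiv.mul_swap_eq_swap_mul, mul_assoc, mul_inv_cancel, mul_one]
  by_cases h : swap (swap i j k) (swap i j l) = swap k l
  · refine Or.inl ?_
    rw [← hconj] at h
    conv_rhs => rw [← h, mul_assoc, swap_mul_self, mul_one]
  refine Or.inr ?_
  rw [hconj, hconj]
  rcases eq_or_ne k i with rfl | hki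
  · rcases eq_or_ne l j with rfl | hlj
    · exact absurd (by rw [swap_apply_left, swap_apply_right, swap_comm]) h
    rcases eq_or_ne l k with rfl | hlk
    · exact absurd (by simp) h
    rcases eq_or_ne j k with rfl | hjk
    · simp [swap_self] at h
    rw [swap_apply_left, swap_apply_of_ne_of_ne hlk hlj, swap_apply_left, swap_apply_of_ne_of_ne hjk (Ne.symm hlj),
      swap_comm]
  rcases eq_or_ne k j with rfl | hkj
  · rcases eq_or_ne l i with rfl | hli
    · exact absurd (by rw [swap_apply_right, swap_apply_left, swap_comm]) h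
    rcases eq_or_ne l k with rfl | hlk
    · exact absurd (by simp) h
    rw [swap_apply_right, swap_apply_of_ne_of_ne hli hlk, swap_apply_of_ne_of_ne (Ne.symm hki) (Ne.symm hli),
      swap_apply_left]
  rw [swap_apply_of_ne_of_ne hki hkj] at h ⊢
  rcases eq_or_ne l i with rfl | hli
  · rcases eq_or_ne j l with rfl | hjl
    · simp [swap_self] at h
    rw [swap_apply_left, swap_apply_right, swap_apply_of_ne_of_ne (Ne.symm hkj) hjl]
  rcases eq_or_ne l j with rfl | hlj
  · rw [swap_apply_right, swap_apply_of_ne_of_ne (Ne.symm hki) (Ne.symm hli), swap_apply_right, swap_comm]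
  · exact absurd (by rw [swap_apply_of_ne_of_ne hli hlj]) h

/-- the hypotheses on the linear group -/
structure StabSym (X : Subgroup (Perm (Vec Ω))) : Prop where
  add : ∀ x ∈ X, ∀ u v, x (u + v) = x u + x v
  perm : ∀ π, pe π ∈ X
  stab : ∀ x ∈ X, x 1 = 1 → ∃ π, x = pe π

variable {X : Subgroup (Perm (Vec Ω))} (hX : StabSym X)
include hX

theorem StabSym.map_zero {x : Perm (Vec Ω)} (hx : x ∈ X) : x 0 = 0 := by
  have h := hX.add x hx 0 0
  rw [add_zero, vec_add_self] at h
  exact h

theorem StabSym.map_smul {x : Perm (Vec Ω)} (hx : x ∈ X) (a : ZMod 2) (v : Vec Ω) : x (a • v) = a • x v := by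
  rcases z2_cases a with rfl | rfl
  · rw [zero_smul, zero_smul, hX.map_zero hx]
  · rw [one_smul, one_smul]

/-- a transposition fixing `g 1` is conjugate under `g` to a transposition -/
theorem StabSym.conj_swap {g : Perm (Vec Ω)} (hg : g ∈ X) {i j : Ω} (hij : i ≠ j)
    (h : pe (swap i j) (g 1) = g 1) : ∃ k l, k ≠ l ∧ g⁻¹ * pe (swap i j) * g = pe (swap k l) := by
  obtain ⟨π, hπ⟩ := hX.stab _ (mul_mem (mul_mem (inv_mem hg) (hX.perm _)) hg) (by
    rw [Perm.mul_apply, Perm.mul_apply, h]
    exact inv_apply g 1)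
  obtain ⟨k, l, hkl, rfl⟩ := eq_swap_of_transvection (π := π) (fun h1 => hij (by
      rw [h1, map_one, mul_eq_one_iff_eq_inv, inv_mul_eq_iff_eq_mul, mul_inv_cancel] at hπ
      have h2 := pe_injective (hπ.trans (map_one pe).symm)
      have h3 := DFunLike.congr_fun h2 i
      rw [swap_apply_left, Perm.one_apply] at h3
      exact h3.symm)) (g⁻¹ (ev i + ev j)) fun v => by
    rw [← hπ, Perm.mul_apply, Perm.mul_apply, pe_swap_eq]
    rcases z2_cases ((g v) i + (g v) j) with h1 | h1 <;> rw [h1]
    · left; rw [zero_smul, add_zero, inv_apply]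
    · right; rw [one_smul, hX.add _ (inv_mem hg), inv_apply]
  exact ⟨k, l, hkl, hπ⟩

omit hX in
theorem f_smul {f : Vec Ω → ZMod 2} (hf : ∀ u v, f (u + v) = f u + f v) (a : ZMod 2) (v : Vec Ω) :
    f (a • v) = a * f v := by
  rcases z2_cases a with rfl | rfl
  · have h := hf 0 0
    rw [add_zero] at h
    rw [zero_smul, zero_mul]
    exact add_eq_left.1 h.symm
  · rw [one_smul, one_mul]

omit hX in
theorem f_eq_sum {f : Vec Ω → ZMod 2} (hf : ∀ u v, f (u + v) = f u + f v) (v : Vec Ω) :
    f v = ∑ i, f (ev i) * v i := by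
  let F : Vec Ω →+ ZMod 2 := AddMonoidHom.mk' f hf
  show F v = ∑ i, f (ev i) * v i
  conv_lhs => rw [show v = ∑ i, Pi.single i (v i) from (Finset.univ_sum_single v).symm]
  rw [map_sum]
  refine Finset.sum_congr rfl fun i _ => ?_
  rcases z2_cases (v i) with h | h <;> rw [h]
  · rw [Pi.single_zero, map_zero, mul_zero]
  · rw [mul_one]; rfl

omit hX in
/-- a transposition and a transvection -/
theorem transvection_swap {T : Perm (Vec Ω)} {f : Vec Ω → ZMod 2} {c : Vec Ω}
    (hf : ∀ u v, f (u + v) = f u + f v) (hT : ∀ v, T v = v + f v • c) (hf1 : f 1 = 1) (hfc : f c = 0)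
    (hc : c ≠ 0) {i j : Ω} (hij : i ≠ j)
    (hor : T * pe (swap i j) = pe (swap i j) * T ∨
      T * pe (swap i j) * T = pe (swap i j) * T * pe (swap i j)) :
    f (ev i) + f (ev j) = c i + c j ∧ (T * pe (swap i j) = pe (swap i j) * T ↔ f (ev i) + f (ev j) = 0) := by
  have hS : ∀ v, pe (swap i j) v = v + (v i + v j) • (ev i + ev j) := pe_swap_eq i j
  have hd0 : (ev i + ev j : Vec Ω) ≠ 0 := fun h => by
    have h1 := congrFun h i
    simp [ev_apply, hij] at h1
  have hS1 : pe (swap i j) (1 : Vec Ω) = 1 := pe_one_vec _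
  have hT1 : T 1 = 1 + c := by rw [hT, hf1, one_smul]
  have hdd : (ev i + ev j : Vec Ω) i + (ev i + ev j : Vec Ω) j = 0 := by
    simp [ev_apply, hij, hij.symm, z2_add_self]
  set a := f (ev i) + f (ev j) with ha
  set b := c i + c j with hb
  have hcomm : ∀ v, (T * pe (swap i j)) v = (pe (swap i j) * T) v ↔
      ((v i + v j) * a) • c = (f v * b) • (ev i + ev j) := by
    intro v
    rw [Perm.mul_apply, Perm.mul_apply, hT, hT, hS v, hS (v + f v • c), hf, f_smul hf, hf]
    simp only [Pi.add_apply, Pi.smul_apply, smul_eq_mul]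
    rw [show v i + f v * c i + (v j + f v * c j) = (v i + v j) + f v * b by rw [hb]; ring, ← ha,
      show v + (v i + v j) • (ev i + ev j) + (f v + (v i + v j) * a) • c =
        (v + (v i + v j) • (ev i + ev j) + f v • c) + ((v i + v j) * a) • c by rw [add_smul (f v)]; abel,
      show v + f v • c + (v i + v j + f v * b) • (ev i + ev j) =
        (v + (v i + v j) • (ev i + ev j) + f v • c) + (f v * b) • (ev i + ev j) by
        rw [add_smul (v i + v j)]; abel,
      add_right_inj]
  rcases hor with h | h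
  · have h1 : b = 0 := by
      have e := (hcomm 1).1 (by rw [h])
      rw [Pi.one_apply, Pi.one_apply, z2_add_self, zero_mul, zero_smul, hf1, one_mul] at e
      rcases z2_cases b with hb0 | hb1
      · exact hb0
      · rw [hb1, one_smul] at e
        exact absurd e.symm hd0
    have h2 : a = 0 := by
      have e := (hcomm (ev i)).1 (by rw [h])
      rw [h1, mul_zero, zero_smul, show (ev i : Vec Ω) i + ev i j = 1 by simp [ev_apply, hij.symm], one_mul] at e
      rcases z2_cases a with ha0 | ha1
      · exact ha0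
      · rw [ha1, one_smul] at e
        exact absurd e hc
    exact ⟨h2.trans h1.symm, fun _ => h2, fun _ => h⟩
  · -- the braid relation at the all-one vector
    have e := DFunLike.congr_fun h (1 : Vec Ω)
    simp only [Perm.mul_apply] at e
    rw [hS1, hT1, hS (1 + c), hT] at e
    simp only [Pi.add_apply, Pi.one_apply] at e
    rw [show (1 : ZMod 2) + c i + (1 + c j) = b by rw [hb]; linear_combination z2_add_self (1 : ZMod 2), hf,
      f_smul hf, hf, hf, hf1, hfc, add_zero, ← ha] at e
    have ha1 : a = b := by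
      rcases z2_cases a with h1 | h1 <;> rcases z2_cases b with h2 | h2 <;> rw [h1, h2] at e ⊢
      · simp at e
        exact absurd e hc
      · exfalso
        simp at e
        exact hc e
    refine ⟨ha1, fun h' => ?_, fun h1 => Equiv.ext fun v => (hcomm v).2 ?_⟩
    · have e' := (hcomm 1).1 (by rw [h'])
      rw [Pi.one_apply, Pi.one_apply, z2_add_self, zero_mul, zero_smul, hf1, one_mul] at e'
      rcases z2_cases b with hb0 | hb1
      · exact ha1.trans hb0
      · rw [hb1, one_smul] at e'
        exact absurd e'.symm hd0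
    · rw [← ha1, h1, mul_zero, mul_zero, zero_smul, zero_smul]

omit hX in
theorem swap_share_ne {a b c : Ω} (hab : a ≠ b) (hac : a ≠ c) (hbc : b ≠ c) :
    swap a b * swap a c ≠ swap a c * swap a b := fun h => by
  have h1 := DFunLike.congr_fun h a
  rw [Perm.mul_apply, Perm.mul_apply, swap_apply_left, swap_apply_left,
    swap_apply_of_ne_of_ne (Ne.symm hac) (Ne.symm hbc), swap_apply_of_ne_of_ne (Ne.symm hab) hbc] at h1
  exact hbc h1.symm

omit hX in
theorem swap_disjoint_comm {a b c d : Ω} (hac : a ≠ c) (had : a ≠ d) (hbc : b ≠ c) (hbd : b ≠ d) :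
    swap a b * swap c d = swap c d * swap a b := by
  rw [Equiv.mul_swap_eq_swap_mul, swap_apply_of_ne_of_ne (Ne.symm hac) (Ne.symm hbc),
    swap_apply_of_ne_of_ne (Ne.symm had) (Ne.symm hbd)]

omit hX in
theorem eq_one_or_of_mul_le {i m : ℕ} (him : i ≤ m) (hm : 1 ≤ m) (h : i ≤ 1 ∨ m - i ≤ 1) :
    (i * (m - i) = 0 ∧ (i = 0 ∨ i = m)) ∨ (i * (m - i) = m - 1 ∧ (i = 1 ∨ i = m - 1)) := by
  rcases h with h | h
  · rcases (show i = 0 ∨ i = 1 by omega) with rfl | rfl
    · simp
    · simp
  · rcases (show i = m ∨ i = m - 1 by omega) with rfl | rfl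
    · simp
    · right
      rw [show m - (m - 1) = 1 by omega, mul_one]
      simp

/-- **the shape of a moving transvection**, seen from a second point of the orbit -/
theorem StabSym.shape_aux (hcard : Even (Fintype.card Ω)) {g : Perm (Vec Ω)} (hg : g ∈ X) (hg1 : g 1 ≠ 1) :
    ∃ a b, g 1 a = 1 ∧ g 1 b = 0 ∧ Odd (univ.filter fun i => g 1 i = 1).card ∧
      ∃ T ∈ X, T 1 ≠ 1 ∧ ∃ γ : ZMod 2,
        ∀ v, T v = v + (∑ i, (g 1 i + ev a i + ev b i) * v i) •
          (fun i => if g 1 i = 1 then ev a i + γ else 1 + ev b i) := by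
  classical
  have hgi : g⁻¹ ∈ X := inv_mem hg
  obtain ⟨i₀, -⟩ : ∃ i, g 1 i ≠ 1 := by
    by_contra! hall
    exact hg1 (funext hall)
  obtain ⟨y, hy⟩ : ∃ y, g 1 = y := ⟨_, rfl⟩
  obtain ⟨z, hz⟩ : ∃ z, g⁻¹ (1 : Vec Ω) = z := ⟨_, rfl⟩
  have hgz : g z = 1 := by rw [← hz]; exact apply_inv g 1
  have hgy : g⁻¹ y = 1 := by rw [← hy]; exact inv_apply g 1
  rw [hy] at hg1 ⊢
  obtain ⟨p, hp⟩ : ∃ p, z p = 1 := by
    by_contra! hall
    have h0 : z = 0 := funext fun i => (z2_cases (z i)).resolve_right (hall i)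
    rw [h0, hX.map_zero hg] at hgz
    exact one_ne_zero (congrFun hgz i₀).symm
  obtain ⟨q, hq⟩ : ∃ q, z q = 0 := by
    by_contra! hall
    have h0 : z = 1 := funext fun i => (z2_cases (z i)).resolve_left (hall i)
    exact hg1 (by rw [← hy]; rw [h0] at hgz; exact hgz)
  have hpq : p ≠ q := fun h => by rw [h, hq] at hp; exact zero_ne_one hp
  obtain ⟨T, hTdef⟩ : ∃ T, g * pe (swap p q) * g⁻¹ = T := ⟨_, rfl⟩
  have hTX : T ∈ X := hTdef ▸ mul_mem (mul_mem hg (hX.perm _)) hgi
  obtain ⟨c, hc⟩ : ∃ c, g (ev p + ev q) = c := ⟨_, rfl⟩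
  let f : Vec Ω → ZMod 2 := fun v => g⁻¹ v p + g⁻¹ v q
  have hfadd : ∀ u v, f (u + v) = f u + f v := fun u v => by
    simp only [f, hX.add _ hgi, Pi.add_apply]; ring
  have hT : ∀ v, T v = v + f v • c := fun v => by
    rw [← hTdef, Perm.mul_apply, Perm.mul_apply, pe_swap_eq, hX.add g hg, hX.map_smul hg, apply_inv, hc]
  have hf1 : f 1 = 1 := by
    show g⁻¹ 1 p + g⁻¹ 1 q = 1
    rw [hz, hp, hq, add_zero]
  have hfy : f y = 0 := by
    show g⁻¹ y p + g⁻¹ y q = 0
    rw [hgy, Pi.one_apply, Pi.one_apply, z2_add_self]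
  have hgc : g⁻¹ c = ev p + ev q := by rw [← hc]; exact inv_apply g _
  have hfc : f c = 0 := by
    show g⁻¹ c p + g⁻¹ c q = 0
    rw [hgc]
    simp [ev_apply, hpq, hpq.symm, z2_add_self]
  have hc0 : c ≠ 0 := fun h => by
    rw [h, hX.map_zero hgi] at hgc
    have h4 := congrFun hgc p
    simp [ev_apply, hpq] at h4
  -- the transpositions fixing both
  have hfix : ∀ (w : Vec Ω) i j, i ≠ j → (pe (swap i j) w = w ↔ w i = w j) := by
    intro w i j hij
    rw [pe_swap_eq, add_eq_left]
    constructor
    · intro h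
      refine z2_eq_of_add ?_
      have h2 := congrFun h i
      simpa [ev_apply, hij] using h2
    · intro h
      rw [h, z2_add_self, zero_smul]
  have hback : ∀ i j, i ≠ j → y i = y j →
      ∃ k l, k ≠ l ∧ z k = z l ∧ g⁻¹ * pe (swap i j) * g = pe (swap k l) := by
    intro i j hij hyij
    obtain ⟨k, l, hkl, h⟩ := hX.conj_swap hg hij (by rw [hy]; exact (hfix y i j hij).2 hyij)
    refine ⟨k, l, hkl, (hfix z k l hkl).1 ?_, h⟩
    rw [← h, Perm.mul_apply, Perm.mul_apply, hgz, pe_one_vec, hz]
  have hforth : ∀ k l, k ≠ l → z k = z l →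
      ∃ i j, i ≠ j ∧ y i = y j ∧ g * pe (swap k l) * g⁻¹ = pe (swap i j) := by
    intro k l hkl hzkl
    obtain ⟨i, j, hij, h⟩ := hX.conj_swap hgi hkl (by rw [hz]; exact (hfix z k l hkl).2 hzkl)
    rw [inv_inv] at h
    refine ⟨i, j, hij, (hfix y i j hij).1 ?_, h⟩
    rw [← h, Perm.mul_apply, Perm.mul_apply, hgy, pe_one_vec, hy]
  -- commutation with `T`
  have hconjc : ∀ {A B A' B' : Perm (Vec Ω)}, g * A * g⁻¹ = A' → g * B * g⁻¹ = B' →
      (A' * B' = B' * A' ↔ A * B = B * A) := by
    intro A B A' B' hA hB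
    rw [← hA, ← hB, show g * A * g⁻¹ * (g * B * g⁻¹) = g * (A * B) * g⁻¹ by group,
      show g * B * g⁻¹ * (g * A * g⁻¹) = g * (B * A) * g⁻¹ by group]
    exact ⟨fun h => mul_left_cancel (mul_right_cancel h), fun h => by rw [h]⟩
  have hrel : ∀ i j, i ≠ j → y i = y j →
      f (ev i) + f (ev j) = c i + c j ∧
        (T * pe (swap i j) = pe (swap i j) * T ↔ f (ev i) + f (ev j) = 0) := by
    intro i j hij hyij
    obtain ⟨k, l, -, -, hkl⟩ := hback i j hij hyij
    have e2 : pe (swap i j) = g * pe (swap k l) * g⁻¹ := by rw [← hkl]; group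
    refine transvection_swap hfadd hT hf1 hfc hc0 hij ?_
    rw [e2, ← hTdef]
    rcases swap_comm_or_braid p q k l with h | h
    · left
      exact (hconjc rfl rfl).2 (by rw [← map_mul, h, map_mul])
    · right
      calc g * pe (swap p q) * g⁻¹ * (g * pe (swap k l) * g⁻¹) * (g * pe (swap p q) * g⁻¹)
          = g * (pe (swap p q) * pe (swap k l) * pe (swap p q)) * g⁻¹ := by group
        _ = g * (pe (swap k l) * pe (swap p q) * pe (swap k l)) * g⁻¹ := by
          rw [← map_mul, ← map_mul, h, map_mul, map_mul]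
        _ = _ := by group
  -- the two sides of the bijection
  let φ : Vec Ω := fun i => f (ev i)
  let r : Ω → Ω := fun k => if z k = 1 then p else q
  have hr : ∀ k, z (r k) = z k := fun k => by
    rcases z2_cases (z k) with h | h <;> simp [r, h, hp, hq]
  let D : Finset (Ω × Ω) := univ.filter fun x => φ x.1 = 1 ∧ φ x.2 = 0 ∧ y x.1 = y x.2
  have hne : ∀ x ∈ D, x.1 ≠ x.2 := fun x hx h => by
    simp only [D, mem_filter] at hx
    rw [h, hx.2.2.1] at hx
    exact zero_ne_one hx.2.1
  have hΓ : ∀ x ∈ D, ∃ k, k ≠ p ∧ k ≠ q ∧ g⁻¹ * pe (swap x.1 x.2) * g = pe (swap (r k) k) := by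
    intro x hx
    have hxD := hx
    simp only [D, mem_filter, mem_univ, true_and] at hxD
    obtain ⟨k, l, hkl, hzkl, h⟩ := hback x.1 x.2 (hne x hx) hxD.2.2
    have hnc : ¬ swap p q * swap k l = swap k l * swap p q := by
      intro hh
      have e : g * pe (swap k l) * g⁻¹ = pe (swap x.1 x.2) := by rw [← h]; group
      have h2 : T * pe (swap x.1 x.2) = pe (swap x.1 x.2) * T :=
        (hconjc hTdef e).2 (by rw [← map_mul, hh, map_mul])
      have h3 := (hrel x.1 x.2 (hne x hx) hxD.2.2).2.1 h2
      rw [show f (ev x.1) = 1 from hxD.1, show f (ev x.2) = 0 from hxD.2.1] at h3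
      exact one_ne_zero h3
    have hmeet : k = p ∨ k = q ∨ l = p ∨ l = q := by
      by_contra hc'
      push Not at hc'
      exact hnc (swap_disjoint_comm hc'.1.symm hc'.2.2.1.symm hc'.2.1.symm hc'.2.2.2.symm)
    rcases hmeet with rfl | rfl | rfl | rfl
    · exact ⟨l, hkl.symm, fun e => by rw [e, hp, hq] at hzkl; exact one_ne_zero hzkl,
        by rw [h, show r l = k by simp [r, ← hzkl, hp]]⟩
    · exact ⟨l, fun e => by rw [e, hp, hq] at hzkl; exact zero_ne_one hzkl, hkl.symm,
        by rw [h, show r l = k by simp [r, ← hzkl, hq]]⟩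
    · exact ⟨k, hkl, fun e => by rw [e, hp, hq] at hzkl; exact zero_ne_one hzkl,
        by rw [h, show r k = l by simp [r, hzkl, hp], swap_comm]⟩
    · exact ⟨k, fun e => by rw [e, hp, hq] at hzkl; exact one_ne_zero hzkl, hkl,
        by rw [h, show r k = l by simp [r, hzkl, hq], swap_comm]⟩
  choose Γ hΓp hΓq hΓeq using hΓ
  have hΓr : ∀ x (hx : x ∈ D), r (Γ x hx) ≠ Γ x hx := fun x hx e => by
    rcases z2_cases (z (Γ x hx)) with h | h <;> simp [r, h] at e
    exacts [hΓq x hx e.symm, hΓp x hx e.symm]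
  have hback' : ∀ {i j : Ω} {k l : Ω}, g⁻¹ * pe (swap i j) * g = pe (swap k l) →
      g * pe (swap k l) * g⁻¹ = pe (swap i j) := fun {i j k l} h => by rw [← h]; group
  have hΓinj : ∀ x (hx : x ∈ D) x' (hx' : x' ∈ D), Γ x hx = Γ x' hx' → x = x' := by
    intro x hx x' hx' h
    have h2 : pe (swap x.1 x.2) = pe (swap x'.1 x'.2) := by
      rw [← hback' (hΓeq x hx), ← hback' (hΓeq x' hx'), h]
    have h3 := DFunLike.congr_fun (pe_injective h2) x.1
    have hne' := hne x hx
    simp only [D, mem_filter] at hx hx'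
    rw [swap_apply_left] at h3
    rcases eq_or_ne x.1 x'.1 with e1 | e1
    · rw [e1, swap_apply_left] at h3
      exact Prod.ext e1 h3
    rcases eq_or_ne x.1 x'.2 with e2 | e2
    · rw [← e2, hx.2.1] at hx'
      exact absurd hx'.2.2.1 one_ne_zero
    · rw [swap_apply_of_ne_of_ne e1 e2] at h3
      exact absurd h3.symm hne'
  have hΓsurj : ∀ k, k ≠ p → k ≠ q → ∃ x, ∃ hx : x ∈ D, Γ x hx = k := by
    intro k hkp hkq
    have hrk : r k ≠ k := fun e => by
      rcases z2_cases (z k) with h | h <;> simp [r, h] at e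
      exacts [hkq e.symm, hkp e.symm]
    obtain ⟨i, j, hij, hyij, h⟩ := hforth (r k) k hrk (hr k)
    have hnc : ¬ T * pe (swap i j) = pe (swap i j) * T := by
      intro hh
      have h2 := (hconjc hTdef h).1 hh
      rw [← map_mul, ← map_mul] at h2
      rcases z2_cases (z k) with hk | hk
      · rw [show r k = q by simp [r, hk], swap_comm p q] at h2
        exact swap_share_ne hpq.symm (Ne.symm hkq) (Ne.symm hkp) (pe_injective h2)
      · rw [show r k = p by simp [r, hk]] at h2
        exact swap_share_ne hpq (Ne.symm hkp) (Ne.symm hkq) (pe_injective h2)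
    have h3 : f (ev i) + f (ev j) = 1 :=
      (z2_cases _).resolve_left fun e => hnc ((hrel i j hij hyij).2.2 e)
    obtain ⟨x, hx, hxe⟩ : ∃ x, x ∈ D ∧ pe (swap x.1 x.2) = pe (swap i j) := by
      rcases z2_cases (φ i) with h1 | h1
      · refine ⟨(j, i), by simp [D, h1, hyij.symm]; simpa [φ, show f (ev i) = 0 from h1] using h3, ?_⟩
        rw [swap_comm]
      · refine ⟨(i, j), ?_, rfl⟩
        simp only [D, mem_filter, mem_univ, true_and]
        refine ⟨h1, ?_, hyij⟩
        rw [show f (ev i) = 1 from h1] at h3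
        exact add_eq_left.1 h3
    refine ⟨x, hx, ?_⟩
    have h4 : pe (swap (r (Γ x hx)) (Γ x hx)) = pe (swap (r k) k) := by
      rw [← hΓeq x hx, hxe, ← h]; group
    have h5 := DFunLike.congr_fun (pe_injective h4) (Γ x hx)
    rw [swap_apply_right] at h5
    rcases eq_or_ne (Γ x hx) k with e | e
    · exact e
    rcases eq_or_ne (Γ x hx) (r k) with e2 | e2
    · exfalso
      rcases z2_cases (z k) with hk | hk <;> simp [r, hk] at e2
      exacts [hΓq x hx e2, hΓp x hx e2]
    · rw [swap_apply_of_ne_of_ne e2 e] at h5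
      exact absurd h5 (hΓr x hx)
  have hcardD : D.card = Fintype.card Ω - 2 := by
    rw [show D.card = ((univ.erase p).erase q).card from
      Finset.card_bij Γ (fun x hx => by simp [hΓp x hx, hΓq x hx]) hΓinj (fun k hk => by
        simp only [mem_erase, mem_univ, and_true] at hk
        obtain ⟨x, hx, e⟩ := hΓsurj k hk.2 hk.1
        exact ⟨x, hx, e⟩),
      card_erase_of_mem (by simp [hpq.symm]), card_erase_of_mem (mem_univ p), card_univ]
    omega
  -- non-commutation is transitive
  have hz2 : ∀ x (hx : x ∈ D) x' (hx' : x' ∈ D),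
      ¬ swap x.1 x.2 * swap x'.1 x'.2 = swap x'.1 x'.2 * swap x.1 x.2 ↔
        (z (Γ x hx) = z (Γ x' hx') ∧ x ≠ x') := by
    intro x hx x' hx'
    have e : (swap x.1 x.2 * swap x'.1 x'.2 = swap x'.1 x'.2 * swap x.1 x.2 ↔
        swap (r (Γ x hx)) (Γ x hx) * swap (r (Γ x' hx')) (Γ x' hx') =
          swap (r (Γ x' hx')) (Γ x' hx') * swap (r (Γ x hx)) (Γ x hx)) := by
      have e1 := hconjc (hback' (hΓeq x hx)) (hback' (hΓeq x' hx'))
      rw [← map_mul, ← map_mul, ← map_mul, ← map_mul, pe_injective.eq_iff, pe_injective.eq_iff] at e1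
      exact e1
    rw [e]
    constructor
    · intro hnc
      refine ⟨?_, fun e' => hnc (by subst e'; rfl)⟩
      by_contra hz'
      refine hnc (swap_disjoint_comm ?_ ?_ ?_ ?_)
      · exact fun e' => hz' (by rw [← hr (Γ x hx), e', hr])
      · exact fun e' => hz' (by rw [← hr (Γ x hx), e'])
      · exact fun e' => hz' (by rw [e', hr])
      · exact fun e' => hz' (by rw [e'])
    · rintro ⟨hzz, hxx⟩
      have hkk : Γ x hx ≠ Γ x' hx' := fun e' => hxx (hΓinj x hx x' hx' e')
      have hrr : r (Γ x hx) = r (Γ x' hx') := by simp only [r, hzz]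
      rw [← hrr]
      exact swap_share_ne (hΓr x hx) (hrr ▸ hΓr x' hx') hkk
  -- no rectangle
  have hrect : ∀ e : ZMod 2, (univ.filter fun i => y i = e ∧ φ i = 1).card ≤ 1 ∨
      (univ.filter fun i => y i = e ∧ φ i = 0).card ≤ 1 := by
    intro e
    by_contra hc'
    push Not at hc'
    obtain ⟨i, hi, i', hi', hii⟩ := Finset.one_lt_card.1 hc'.1
    obtain ⟨j, hj, j', hj', hjj⟩ := Finset.one_lt_card.1 hc'.2
    simp only [mem_filter, mem_univ, true_and] at hi hi' hj hj'
    have m1 : (i, j) ∈ D := by simp [D, hi, hj]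
    have m2 : (i, j') ∈ D := by simp [D, hi, hj']
    have m3 : (i', j') ∈ D := by simp [D, hi', hj']
    have hdiff : ∀ {a b : Ω}, φ a = 1 → φ b = 0 → a ≠ b := fun ha hb e' => by
      rw [e', hb] at ha; exact zero_ne_one ha
    have n12 := (hz2 _ m1 _ m2).1 (swap_share_ne (hdiff hi.2 hj.2) (hdiff hi.2 hj'.2) hjj)
    have n23 := (hz2 _ m2 _ m3).1 (by
      rw [swap_comm i j', swap_comm i' j']
      exact swap_share_ne (hdiff hi.2 hj'.2).symm (hdiff hi'.2 hj'.2).symm hii)
    exact (hz2 _ m1 _ m3).2 ⟨n12.1.trans n23.1, fun e' => hii (congrArg Prod.fst e')⟩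
      (swap_disjoint_comm hii (hdiff hi.2 hj'.2) (hdiff hi'.2 hj.2).symm hjj)
  -- counting
  let S : ZMod 2 → ZMod 2 → Finset Ω := fun e d => univ.filter fun i => y i = e ∧ φ i = d
  let S' : ZMod 2 → Finset Ω := fun e => univ.filter fun i => y i = e
  have hsplit : ∀ e, (S e 0).card + (S e 1).card = (S' e).card := by
    intro e
    rw [← card_union_of_disjoint (disjoint_filter.2 fun i _ h0 h1 => zero_ne_one (h0.2.symm.trans h1.2))]
    refine congrArg Finset.card (Finset.ext fun i => ?_)
    simp only [S, S', mem_union, mem_filter, mem_univ, true_and]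
    exact ⟨fun h => h.elim And.left And.left, fun h => (z2_cases (φ i)).imp (⟨h, ·⟩) (⟨h, ·⟩)⟩
  have htot : (S' 1).card + (S' 0).card = Fintype.card Ω := by
    rw [← card_union_of_disjoint (disjoint_filter.2 fun i _ h0 h1 => one_ne_zero (h0.symm.trans h1)),
      ← card_univ]
    refine congrArg Finset.card (Finset.ext fun i => ?_)
    simp only [S', mem_union, mem_filter, mem_univ, true_and, iff_true]
    exact (z2_cases (y i)).symm
  have hDsplit : D.card = (S 1 1).card * (S 1 0).card + (S 0 1).card * (S 0 0).card := by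
    rw [← card_product, ← card_product, ← card_union_of_disjoint (disjoint_left.2 fun x h1 h0 => by
      simp only [S, mem_product, mem_filter] at h1 h0
      exact one_ne_zero (h1.1.2.1.symm.trans h0.1.2.1))]
    refine congrArg Finset.card (Finset.ext fun x => ?_)
    simp only [D, S, mem_union, mem_product, mem_filter, mem_univ, true_and]
    constructor
    · rintro ⟨h1, h2, h3⟩
      rcases z2_cases (y x.1) with h | h
      · exact Or.inr ⟨⟨h, h1⟩, h3 ▸ h, h2⟩
      · exact Or.inl ⟨⟨h, h1⟩, h3 ▸ h, h2⟩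
    · rintro (⟨⟨h, h1⟩, h', h2⟩ | ⟨⟨h, h1⟩, h', h2⟩) <;> exact ⟨h1, h2, h.trans h'.symm⟩
  have hsum : ∀ v : Vec Ω,
      f v = ((univ.filter fun i => v i = 1 ∧ φ i = 1).card : ZMod 2) := by
    intro v
    rw [f_eq_sum hfadd, Finset.card_filter, Nat.cast_sum]
    refine Finset.sum_congr rfl fun i _ => ?_
    rcases z2_cases (v i) with h | h <;> rcases z2_cases (φ i) with h' | h' <;>
      simp [φ] at h' <;> simp [φ, h, h']
  have hyeven : ((S 1 1).card : ZMod 2) = 0 := by rw [← hfy, hsum y]
  have hallodd : ((S 1 1).card : ZMod 2) + ((S 0 1).card : ZMod 2) = 1 := by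
    refine Eq.trans ?_ hf1
    rw [hsum 1, ← Nat.cast_add,
      ← card_union_of_disjoint (disjoint_filter.2 fun i _ h0 h1 => one_ne_zero (h0.1.symm.trans h1.1))]
    refine congrArg (fun s : Finset Ω => (s.card : ZMod 2)) (Finset.ext fun i => ?_)
    simp only [S, mem_union, mem_filter, mem_univ, true_and, Pi.one_apply]
    exact ⟨fun h => h.elim And.right And.right, fun h => (z2_cases (y i)).symm.imp (⟨·, h⟩) (⟨·, h⟩)⟩
  have hAne : 0 < (S' 1).card := by
    rw [card_pos]
    by_contra hA
    have h0 : y = 0 := funext fun i => (z2_cases (y i)).resolve_right fun e => hA ⟨i, by simp [S', e]⟩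
    rw [h0, hX.map_zero hgi] at hgy
    exact zero_ne_one (congrFun hgy i₀)
  have hBne : 0 < (S' 0).card := by
    rw [card_pos]
    by_contra hB
    exact hg1 (funext fun i => (z2_cases (y i)).resolve_left fun e => hB ⟨i, by simp [S', e]⟩)
  rw [ZMod.natCast_eq_zero_iff_even] at hyeven
  have hBodd : Odd (S 0 1).card := by
    rw [← ZMod.natCast_eq_one_iff_odd]
    rw [← ZMod.natCast_eq_zero_iff_even] at hyeven
    rwa [hyeven, zero_add] at hallodd
  have hshape : (S 1 0).card = 1 ∧ (S 0 1).card = 1 := by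
    have hA := eq_one_or_of_mul_le (i := (S 1 1).card) (m := (S' 1).card)
      (by have := hsplit 1; omega) hAne (by
        rcases hrect 1 with h | h
        · exact Or.inl h
        · exact Or.inr (by have := hsplit 1; simp only [S] at this ⊢; omega))
    have hB := eq_one_or_of_mul_le (i := (S 0 1).card) (m := (S' 0).card)
      (by have := hsplit 0; omega) hBne (by
        rcases hrect 0 with h | h
        · exact Or.inl h
        · exact Or.inr (by have := hsplit 0; simp only [S] at this ⊢; omega))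
    rw [show (S' 1).card - (S 1 1).card = (S 1 0).card by have := hsplit 1; omega] at hA
    rw [show (S' 0).card - (S 0 1).card = (S 0 0).card by have := hsplit 0; omega] at hB
    have := hsplit 1
    have := hsplit 0
    rw [Nat.even_iff] at hcard hyeven
    rw [Nat.odd_iff] at hBodd
    omega
  obtain ⟨a, ha⟩ := Finset.card_eq_one.1 hshape.1
  obtain ⟨b, hb⟩ := Finset.card_eq_one.1 hshape.2
  have hamem : y a = 1 ∧ φ a = 0 := by
    have : a ∈ S 1 0 := ha ▸ mem_singleton_self a
    simpa [S] using this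
  have hbmem : y b = 0 ∧ φ b = 1 := by
    have : b ∈ S 0 1 := hb ▸ mem_singleton_self b
    simpa [S] using this
  have hφ : ∀ i, φ i = y i + ev a i + ev b i := by
    intro i
    have hab : a ≠ b := fun e => by rw [e, hbmem.1] at hamem; exact zero_ne_one hamem.1
    rcases eq_or_ne i a with rfl | hia
    · simp [ev_apply, hamem, hab, z2_add_self]
    rcases eq_or_ne i b with rfl | hib
    · simp [ev_apply, hbmem, hab.symm]
    · simp only [ev_apply, if_neg hia, if_neg hib, add_zero]
      rcases z2_cases (y i) with h | h <;> rcases z2_cases (φ i) with h' | h' <;> rw [h, h']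
      · have : i ∈ S 0 1 := by simp [S, h, h']
        rw [hb, mem_singleton] at this
        exact absurd this hib
      · have : i ∈ S 1 0 := by simp [S, h, h']
        rw [ha, mem_singleton] at this
        exact absurd this hia
  have hodd : Odd (univ.filter fun i => y i = 1).card := by
    show Odd (S' 1).card
    rw [← hsplit 1, hshape.1, add_comm]
    exact hyeven.add_odd odd_one
  have hcA : ∀ i, y i = 1 → c i = ev a i + (c a + 1) := by
    intro i hi
    rcases eq_or_ne i a with rfl | hia
    · rw [ev_apply, if_pos rfl]; linear_combination -(z2_add_self (1 : ZMod 2))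
    · have h1 := (hrel a i hia.symm (hamem.1.trans hi.symm)).1
      rw [show f (ev a) = 0 from hamem.2, show f (ev i) = φ i from rfl, hφ i,
        hi, ev_apply, if_neg hia, ev_apply, if_neg (fun e => by rw [e, hbmem.1] at hi; exact zero_ne_one hi)] at h1
      rw [ev_apply, if_neg hia]
      linear_combination -h1 - z2_add_self (c a)
  have hcB : ∀ i, y i = 0 → c i = ev b i + (c b + 1) := by
    intro i hi
    rcases eq_or_ne i b with rfl | hib
    · rw [ev_apply, if_pos rfl]; linear_combination -(z2_add_self (1 : ZMod 2))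
    · have h1 := (hrel b i hib.symm (hbmem.1.trans hi.symm)).1
      rw [show f (ev b) = 1 from hbmem.2, show f (ev i) = φ i from rfl, hφ i,
        hi, ev_apply, if_neg (fun e => by rw [e, hamem.1] at hi; exact one_ne_zero hi), ev_apply, if_neg hib] at h1
      rw [ev_apply, if_neg hib]
      linear_combination -h1 - z2_add_self (c b)
  have hcb : c b = 0 := by
    have h1 := f_eq_sum hfadd c
    rw [hfc] at h1
    have h2 : ∀ i, f (ev i) * c i = (if y i = 1 ∧ φ i = 1 then c a + 1 else 0) + if i = b then c b else 0 := by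
      intro i
      rw [show f (ev i) = φ i from rfl]
      rcases eq_or_ne i b with rfl | hib
      · simp [hbmem]
      rcases z2_cases (φ i) with h' | h'
      · simp [h', hib]
      · rcases z2_cases (y i) with h | h
        · have : i ∈ S 0 1 := by simp [S, h, h']
          rw [hb, mem_singleton] at this
          exact absurd this hib
        · have hia : i ≠ a := fun e => by rw [e, hamem.2] at h'; exact zero_ne_one h'
          simp [h', h, hib, hcA i h, ev_apply, hia]
    rw [Finset.sum_congr rfl fun i _ => h2 i, sum_add_distrib, ← sum_filter, sum_const, sum_ite_eq' univ b,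
      if_pos (mem_univ b), show (univ.filter fun i => y i = 1 ∧ φ i = 1) = S 1 1 from rfl, nsmul_eq_mul,
      (ZMod.natCast_eq_zero_iff_even).2 hyeven, zero_mul, zero_add] at h1
    exact h1.symm
  refine ⟨a, b, hamem.1, hbmem.1, hodd, T, hTX, fun e => hc0 ?_, c a + 1, fun v => ?_⟩
  · rw [hT, hf1, one_smul, add_eq_left] at e
    exact e
  rw [hT, f_eq_sum hfadd]
  congr 2
  · exact Finset.sum_congr rfl fun i _ => by rw [show f (ev i) = φ i from rfl, hφ i]
  · funext i
    rcases z2_cases (y i) with h | h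
    · rw [if_neg (by rw [h]; exact zero_ne_one), hcB i h, hcb, zero_add, add_comm]
    · rw [if_pos h, hcA i h]

/-- every other point of the orbit has odd weight -/
theorem StabSym.odd_weight (hcard : Even (Fintype.card Ω)) {g : Perm (Vec Ω)} (hg : g ∈ X) (hg1 : g 1 ≠ 1) :
    Odd (univ.filter fun i => g 1 i = 1).card := by
  obtain ⟨-, -, -, -, h, -⟩ := hX.shape_aux hcard hg hg1
  exact h

/-- **a moving transvection** of the same weight as a given point of the orbit -/
theorem StabSym.shape (hcard : Even (Fintype.card Ω)) {g : Perm (Vec Ω)} (hg : g ∈ X) (hg1 : g 1 ≠ 1) :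
    ∃ T ∈ X, ∃ u : Vec Ω,
      (univ.filter fun i => u i = 1).card = (univ.filter fun i => g 1 i = 1).card ∧
        T 1 = u ∧ ∀ v, T v = v + (∑ i, u i * v i) • (1 + u) := by
  obtain ⟨a, b, ha, hb, hodd, T, hT, hT1, γ, hTv⟩ := hX.shape_aux hcard hg hg1
  have hab : a ≠ b := fun e => by rw [e, hb] at ha; exact zero_ne_one ha
  let u : Vec Ω := fun i => g 1 i + ev a i + ev b i
  have hucard : (univ.filter fun i => u i = 1) =
      insert b ((univ.filter fun i => g 1 i = 1).erase a) := by
    ext i
    simp only [mem_insert, mem_erase, mem_filter, mem_univ, true_and, u, ev_apply]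
    rcases eq_or_ne i b with rfl | hib
    · simp [hb, hab.symm]
    rcases eq_or_ne i a with rfl | hia
    · simp [ha, hab, z2_add_self]
    · simp [hib, hia]
  have hsum : ∑ i, u i * (1 : Vec Ω) i = 1 := by
    simp only [Pi.one_apply, mul_one, u, sum_add_distrib, ev_apply, sum_ite_eq', mem_univ, if_true]
    rw [add_assoc, z2_add_self, add_zero, ← (ZMod.natCast_eq_one_iff_odd).2 hodd, card_filter, Nat.cast_sum]
    refine sum_congr rfl fun i _ => ?_
    rcases z2_cases (g 1 i) with h | h <;> simp [h]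
  rcases z2_cases γ with rfl | rfl
  · have hc : (fun i => if g 1 i = 1 then ev a i + 0 else 1 + ev b i) = 1 + u := by
      funext i
      simp only [Pi.add_apply, Pi.one_apply, u, ev_apply]
      rcases z2_cases (g 1 i) with h | h
      · rw [if_neg (by rw [h]; exact zero_ne_one), h,
          if_neg (fun e : i = a => by rw [e, ha] at h; exact one_ne_zero h)]
        ring
      · rw [if_pos h, h, if_neg (fun e : i = b => by rw [e, hb] at h; exact zero_ne_one h)]
        linear_combination -(z2_add_self (1 : ZMod 2))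
    rw [hc] at hTv
    refine ⟨T, hT, u, ?_, ?_, hTv⟩
    · rw [hucard, card_insert_of_notMem (by simp [hb]), card_erase_of_mem (by simp [ha])]
      have : 0 < (univ.filter fun i => g 1 i = 1).card := hodd.pos
      omega
    · rw [hTv, hsum, one_smul, ← add_assoc, vec_add_self, zero_add]
  · -- otherwise the image of the all-one vector has weight two
    exfalso
    have h1 : T 1 = ev a + ev b := by
      rw [hTv, hsum, one_smul]
      funext i
      simp only [Pi.add_apply, Pi.one_apply, ev_apply]
      rcases z2_cases (g 1 i) with h | h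
      · rw [if_neg (by rw [h]; exact zero_ne_one),
          if_neg (fun e : i = a => by rw [e, ha] at h; exact one_ne_zero h)]
        linear_combination z2_add_self (1 : ZMod 2)
      · rw [if_pos h, if_neg (fun e : i = b => by rw [e, hb] at h; exact zero_ne_one h)]
        linear_combination z2_add_self (1 : ZMod 2)
    have h2 : (univ.filter fun i => T 1 i = 1).card = 2 := by
      rw [h1, show (univ.filter fun i => (ev a + ev b : Vec Ω) i = 1) = {a, b} by
        ext i
        rcases eq_or_ne i a with rfl | hia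
        · simp [ev_apply, hab]
        rcases eq_or_ne i b with rfl | hib
        · simp [ev_apply, hab.symm]
        · simp [ev_apply, hia, hib]]
      exact card_pair hab
    have h3 := hX.odd_weight hcard hT hT1
    rw [h2] at h3
    exact Nat.not_odd_iff_even.2 even_two h3

end CfsgLib.KondoAlt
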