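import Cfsg.Agent.Lib.Invol.KondoAlt.Classify
import Cfsg.Agent.Lib.Invol.KondoAlt.Even

/-!
# The hypotheses on the group

`t = φ (tm Ω)` has a centralizer that is an extension of the model by a group of odd order.
-/

set_option autoImplicit false
set_option linter.unusedSectionVars false
set_option linter.style.haveILetI false

namespace CfsgLib.KondoAlt

open Equiv

variable {Ω : Type*} [Fintype Ω] [DecidableEq Ω] {G : Type*} [Group G] [Finite G]

/-- the hypotheses -/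
structure Data (Ω : Type*) [Fintype Ω] [DecidableEq Ω] (G : Type*) [Group G] where
  φ : Wm Ω →* G
  inj : Function.Injective φ
  ρ : Subgroup.centralizer ({φ (Wm.tm Ω)} : Set G) →* Wm Ω
  retr : ∀ x h, ρ ⟨φ x, h⟩ = x
  ker_odd : Odd (Nat.card ρ.ker)
  ker_comm : ∀ k (i : Ω), ρ k = 1 → (k : G) * φ (Wm.bs (ev i)) = φ (Wm.bs (ev i)) * k → k = 1
  index_odd : Odd (Subgroup.centralizer ({φ (Wm.tm Ω)} : Set G)).index
  even_card : Even (Fintype.card Ω)
  pos : 0 < Fintype.card Ω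
  noTwo : ∀ H : Subgroup G, H.Normal → H.index ≠ 2

namespace Data

variable (D : Data Ω G)

/-- the involution -/
def t : G := D.φ (Wm.tm Ω)

/-- the coordinates on `E` -/
def b (v : Vec Ω) : G := D.φ (Wm.bs v)

theorem b_add (v w : Vec Ω) : D.b (v + w) = D.b v * D.b w := by rw [b, Wm.bs_add, map_mul]; rfl

theorem b_injective : Function.Injective D.b := D.inj.comp Wm.bs_injective

theorem b_zero : D.b 0 = 1 := map_one D.φ

theorem b_one : D.b 1 = D.t := rfl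

theorem b_comm (v w : Vec Ω) : D.b v * D.b w = D.b w * D.b v := by rw [← b_add, ← b_add, add_comm]

theorem b_sq (v : Vec Ω) : D.b v * D.b v = 1 := by rw [← b_add, vec_add_self, b_zero]

theorem phi_mem (x : Wm Ω) : D.φ x ∈ Subgroup.centralizer ({D.φ (Wm.tm Ω)} : Set G) := by
  rw [Subgroup.mem_centralizer_singleton_iff, ← map_mul, ← map_mul, Wm.tm_comm]

theorem retr' (x : Wm Ω) : D.ρ ⟨D.φ x, D.phi_mem x⟩ = x := D.retr x _

theorem conj_b (x : Wm Ω) (v : Vec Ω) : D.φ x * D.b v * (D.φ x)⁻¹ = D.b (pe (Wm.prm x) v) := by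
  rw [b, ← map_inv, ← map_mul, ← map_mul, Wm.conj_bs]
  rfl

/-- an element centralizing `t` that normalises `E` acts as a permutation -/
theorem conj_b_of_comm {n : G} (hn : n * D.t = D.t * n) {v w : Vec Ω} (h : n * D.b v * n⁻¹ = D.b w) :
    w = pe (Wm.prm (D.ρ ⟨n, Subgroup.mem_centralizer_singleton_iff.2 hn⟩)) v := by
  have e : (⟨n, Subgroup.mem_centralizer_singleton_iff.2 hn⟩ * ⟨D.b v, D.phi_mem _⟩ *
      ⟨n, Subgroup.mem_centralizer_singleton_iff.2 hn⟩⁻¹ : Subgroup.centralizer ({D.φ (Wm.tm Ω)} : Set G)) =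
      ⟨D.b w, D.phi_mem _⟩ := Subtype.ext h
  have h1 := congrArg D.ρ e
  rw [map_mul, map_mul, map_inv, show D.ρ ⟨D.b v, D.phi_mem _⟩ = Wm.bs v from D.retr' _,
    show D.ρ ⟨D.b w, D.phi_mem _⟩ = Wm.bs w from D.retr' _, Wm.conj_bs] at h1
  exact (Wm.bs_injective h1).symm

/-- **`E` is its own centralizer** -/
theorem exists_b_of_comm {g : G} (h : ∀ v, g * D.b v = D.b v * g) : ∃ v, g = D.b v := by
  have hg : g ∈ Subgroup.centralizer ({D.φ (Wm.tm Ω)} : Set G) :=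
    Subgroup.mem_centralizer_singleton_iff.2 (h 1)
  obtain ⟨c, rfl⟩ : ∃ c : Subgroup.centralizer ({D.φ (Wm.tm Ω)} : Set G), (c : G) = g := ⟨⟨g, hg⟩, rfl⟩
  have hbase : Wm.prm (D.ρ c) = 1 := by
    refine pe_injective (Equiv.ext fun v => ?_)
    rw [map_one, Perm.one_apply]
    exact (D.conj_b_of_comm (h 1) (v := v) (w := v) (by rw [h v, mul_inv_cancel_right])).symm
  obtain ⟨v, hv⟩ : ∃ v, D.ρ c = Wm.bs v := ⟨_, Wm.eq_bs_of_mem hbase⟩
  refine ⟨v, ?_⟩
  obtain ⟨i⟩ := Fintype.card_pos_iff.1 D.pos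
  have hk := D.ker_comm (c * (⟨D.b v, D.phi_mem _⟩)⁻¹) i (by
    rw [map_mul, map_inv, hv, show D.ρ ⟨D.b v, D.phi_mem _⟩ = Wm.bs v from D.retr' _, mul_inv_cancel]) <| by
    show (c : G) * (D.b v)⁻¹ * D.b (ev i) = D.b (ev i) * ((c : G) * (D.b v)⁻¹)
    rw [inv_eq_of_mul_eq_one_right (D.b_sq v), mul_assoc, D.b_comm v, ← mul_assoc, h, mul_assoc]
  exact mul_inv_eq_one.1 (congrArg Subtype.val hk)

/-- `g` conjugates `E` into the model -/
def Into (g : G) : Prop := ∀ v, ∃ a, g * D.b v * g⁻¹ = D.φ a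

/-- `n` normalises `E` -/
def Norm (n : G) : Prop := ∀ v, ∃ w, n * D.b v * n⁻¹ = D.b w

theorem norm_mul {m n : G} (hm : D.Norm m) (hn : D.Norm n) : D.Norm (m * n) := fun v => by
  obtain ⟨w, hw⟩ := hn v
  obtain ⟨u, hu⟩ := hm w
  exact ⟨u, by rw [← hu, ← hw]; group⟩

theorem norm_inv {n : G} (hn : D.Norm n) : D.Norm n⁻¹ := by
  choose f hf using hn
  have hinj : Function.Injective f := fun v w e => D.b_injective (by
    have h1 := hf v
    rw [e, ← hf w] at h1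
    exact mul_left_cancel (mul_right_cancel h1))
  intro v
  obtain ⟨u, rfl⟩ := Finite.injective_iff_surjective.1 hinj v
  exact ⟨u, by rw [← hf u]; group⟩

theorem norm_phi (x : Wm Ω) : D.Norm (D.φ x) := fun v => ⟨_, D.conj_b x v⟩

/-- the automorphisms of `E` induced in `G` -/
def autE : Subgroup (Perm (Vec Ω)) where
  carrier := {x | ∃ n, ∀ v, n * D.b v * n⁻¹ = D.b (x v)}
  one_mem' := ⟨1, fun v => by simp⟩
  mul_mem' := fun {x y} ⟨n, hn⟩ ⟨m, hm⟩ => ⟨n * m, fun v => by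
    rw [Perm.mul_apply, ← hn, ← hm]; group⟩
  inv_mem' := fun {x} ⟨n, hn⟩ => ⟨n⁻¹, fun v => by
    have h := hn (x⁻¹ v)
    rw [apply_inv] at h
    rw [← h]; group⟩

theorem stabSym : StabSym D.autE := by
  refine ⟨fun x ⟨n, hn⟩ u v => D.b_injective ?_, fun π => ⟨D.φ (Wm.pm π), fun v => D.conj_b _ v⟩, ?_⟩
  · rw [← hn, b_add, b_add, ← hn, ← hn]; group
  · rintro x ⟨n, hn⟩ h1
    have hc : n * D.t = D.t * n := by
      have h := hn 1
      rw [h1, D.b_one] at h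
      exact mul_inv_eq_iff_eq_mul.1 h
    exact ⟨_, Equiv.ext fun v => D.conj_b_of_comm hc (hn v)⟩

theorem exists_aut {n : G} (hn : D.Norm n) : ∃ x ∈ D.autE, ∀ v, n * D.b v * n⁻¹ = D.b (x v) := by
  choose f hf using hn
  have hinj : Function.Injective f := fun v w e => D.b_injective (by
    have h1 := hf v
    rw [e, ← hf w] at h1
    exact mul_left_cancel (mul_right_cancel h1))
  exact ⟨Equiv.ofBijective f hinj.bijective_of_finite, ⟨n, hf⟩, hf⟩

/-- a Sylow 2-subgroup of the model maps onto one of the group -/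
theorem card_sylow (S : Sylow 2 (Wm Ω)) :
    Nat.card ((S : Subgroup (Wm Ω)).map D.φ) = 2 ^ (Nat.card G).factorization 2 := by
  rw [Subgroup.card_map_of_injective D.inj, S.card_eq_multiplicity]
  congr 1
  have hsurj : Function.Surjective D.ρ := fun x => ⟨_, D.retr' x⟩
  have h1 : Nat.card G = Nat.card (Wm Ω) * (Nat.card D.ρ.ker *
      (Subgroup.centralizer ({D.φ (Wm.tm Ω)} : Set G)).index) := by
    rw [← (Subgroup.centralizer ({D.φ (Wm.tm Ω)} : Set G)).card_mul_index, ← D.ρ.ker.index_mul_card,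
      Subgroup.index_ker, MonoidHom.range_eq_top.2 hsurj, Subgroup.card_top, mul_assoc]
  have hodd := D.ker_odd.mul D.index_odd
  rw [h1, Nat.factorization_mul Nat.card_pos.ne' hodd.pos.ne', Finsupp.add_apply,
    Nat.factorization_eq_zero_of_not_dvd (fun h => Nat.not_even_iff_odd.2 hodd (even_iff_two_dvd.2 h)), add_zero]

/-- the Sylow 2-subgroup of `G` given by one of the model -/
noncomputable def sylow (S : Sylow 2 (Wm Ω)) : Sylow 2 G := Sylow.ofCard _ (D.card_sylow S)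

theorem coe_sylow (S : Sylow 2 (Wm Ω)) : (D.sylow S : Subgroup G) = (S : Subgroup (Wm Ω)).map D.φ := rfl

theorem bs_mem_sylow (S : Sylow 2 (Wm Ω)) (v : Vec Ω) : Wm.bs v ∈ (S : Subgroup (Wm Ω)) := by
  have hp : IsPGroup 2 (Wm.baseG Ω) := IsPGroup.of_card Wm.card_baseG
  obtain ⟨P, hP⟩ := hp.exists_le_sylow
  obtain ⟨g, rfl⟩ := MulAction.exists_smul_eq (Wm Ω) P S
  rw [Sylow.coe_subgroup_smul, Subgroup.pointwise_smul_def]
  refine ⟨g⁻¹ * Wm.bs v * g, hP ?_, ?_⟩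
  · exact (Wm.baseG_normal (Ω := Ω)).conj_mem' _ (Wm.mem_baseG.2 (Wm.prm_bs v)) g
  · show g * (g⁻¹ * Wm.bs v * g) * g⁻¹ = Wm.bs v
    group

theorem b_mem_sylow (S : Sylow 2 (Wm Ω)) (v : Vec Ω) : D.b v ∈ (D.sylow S : Subgroup G) :=
  Subgroup.mem_map_of_mem D.φ (bs_mem_sylow S v)

theorem into_of_sylow {S : Sylow 2 (Wm Ω)} {g : G} (h : ∀ v, g * D.b v * g⁻¹ ∈ (D.sylow S : Subgroup G)) :
    D.Into g := fun v => by
  obtain ⟨a, -, ha⟩ := h v
  exact ⟨a, ha.symm⟩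

end Data

end CfsgLib.KondoAlt
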