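import Cfsg.Agent.Lib.Invol.KondoAlt.SymNormalizer
import Cfsg.Agent.Lib.Invol.KondoAlt.Counting

/-!
# Moving a single block into `E`
-/

set_option autoImplicit false
set_option linter.unusedSectionVars false
set_option linter.style.haveILetI false

namespace CfsgLib.KondoAlt

open Equiv Finset
open scoped Nat

variable {Ω : Type*} [Fintype Ω] [DecidableEq Ω] {G : Type*} [Group G] [Finite G] {o₁ o₂ : Ω}

/-- the subgroup `blk (swap o₁ o₂)` of the model -/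
abbrev blkS (o₁ o₂ : Ω) : Subgroup (Wm Ω) := Wm.blk (swap o₁ o₂) (swap_mul_self _ _)

theorem pm_swap_mem_blkS : Wm.pm (swap o₁ o₂) ∈ blkS o₁ o₂ := ⟨fun _ => Or.inr rfl, fun _ => rfl⟩

theorem bs_mem_blkS {v : Vec Ω} (h : v o₁ = v o₂) : Wm.bs v ∈ blkS o₁ o₂ := by
  refine (Wm.bs_mem_blk _).2 fun i => ?_
  rcases eq_or_ne i o₁ with rfl | h1
  · rw [swap_apply_left, h]
  rcases eq_or_ne i o₂ with rfl | h2
  · rw [swap_apply_right, h]
  · rw [swap_apply_of_ne_of_ne h1 h2]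

theorem blkS_cases {x : Wm Ω} (hx : x ∈ blkS o₁ o₂) :
    Wm.vec x o₁ = Wm.vec x o₂ ∧
      (x = Wm.bs (Wm.vec x) ∨ x = Wm.bs (Wm.vec x) * Wm.pm (swap o₁ o₂)) := by
  refine ⟨?_, ?_⟩
  · have h := hx.2 o₁
    rw [swap_apply_left] at h
    exact h.symm
  have hc := Wm.blk_conj _ hx o₁
  rw [swap_apply_left] at hc
  have hxe := Wm.eq_bs_mul_pm x
  rcases hx.1 o₁ with h | h
  · left
    have h1 : Wm.prm x = 1 := Equiv.ext fun i => by
      rw [Perm.one_apply]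
      rcases eq_or_ne i o₁ with rfl | hi1
      · exact h
      rcases eq_or_ne i o₂ with rfl | hi2
      · rw [hc, h, swap_apply_left]
      · rcases hx.1 i with h' | h'
        · exact h'
        · rw [h', swap_apply_of_ne_of_ne hi1 hi2]
    rw [h1] at hxe
    exact hxe.trans (mul_one _)
  · right
    have h1 : Wm.prm x = swap o₁ o₂ := Equiv.ext fun i => by
      rcases eq_or_ne i o₁ with rfl | hi1
      · exact h
      rcases eq_or_ne i o₂ with rfl | hi2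
      · rw [hc, h, swap_apply_left, swap_apply_right]
      · rcases hx.1 i with h' | h'
        · rw [h', swap_apply_of_ne_of_ne hi1 hi2]
        · exact h'
    rwa [h1] at hxe

namespace SymData

variable (D : SymData Ω G)

theorem s_conj_b (π : Perm (Option Ω)) (v : Vec Ω) :
    D.s π * D.b v * (D.s π)⁻¹ = D.b (peE π v) := D.s_conj π v

theorem s_fix_swap {π : Perm (Option Ω)} (h1 : π (some o₁) = some o₁) (h2 : π (some o₂) = some o₂) :
    D.s π * D.φ (Wm.pm (swap o₁ o₂)) = D.φ (Wm.pm (swap o₁ o₂)) * D.s π := by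
  rw [← D.s_pm, ← map_mul, ← map_mul]
  refine congrArg _ ?_
  rw [Equiv.optionCongr_swap, mul_swap_eq_swap_mul, h1, h2]

theorem peE_fix {π : Perm (Option Ω)} (h1 : π (some o₁) = some o₁) (h2 : π (some o₂) = some o₂) {v : Vec Ω}
    (hv : v o₁ = v o₂) : peE π v o₁ = peE π v o₂ := by
  rw [peE_apply, peE_apply, Perm.inv_eq_iff_eq.2 h1.symm, Perm.inv_eq_iff_eq.2 h2.symm]
  exact hv

/-- elements conjugate to `t` in `E` -/
theorem exists_op_of_conj {g : G} {w : Vec Ω} (h : g * D.t * g⁻¹ = D.b w) : ∃ k, w = op k := by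
  obtain ⟨n, hn, hnw⟩ := D.toData.exists_norm_of_conj (v := 1) (w := w) h
  obtain ⟨v, π, rfl⟩ := D.norm_eq n hn
  refine ⟨π none, D.toData.b_injective ?_⟩
  rw [← hnw, ← peE_op D.even_card, ← D.s_conj_b]
  show D.b v * D.s π * D.b (op none) * (D.b v * D.s π)⁻¹ = D.s π * D.b (op none) * (D.s π)⁻¹
  rw [show D.b v * D.s π * D.b (op none) * (D.b v * D.s π)⁻¹ =
    D.b v * (D.s π * D.b (op none) * (D.s π)⁻¹) * (D.b v)⁻¹ by group, D.s_conj_b, D.b_comm, mul_inv_cancel_right]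

/-- `g` normalises the image of `blkS o₁ o₂` -/
def Norm1 (o₁ o₂ : Ω) (g : G) : Prop := ∀ x ∈ blkS o₁ o₂, ∃ y ∈ blkS o₁ o₂, g * D.φ x * g⁻¹ = D.φ y

theorem norm1_mul {m n : G} (hm : D.Norm1 o₁ o₂ m) (hn : D.Norm1 o₁ o₂ n) : D.Norm1 o₁ o₂ (m * n) := fun x hx => by
  obtain ⟨y, hy, hxy⟩ := hn x hx
  obtain ⟨z, hz, hyz⟩ := hm y hy
  exact ⟨z, hz, by rw [← hyz, ← hxy]; group⟩

theorem norm1_inv {n : G} (hn : D.Norm1 o₁ o₂ n) : D.Norm1 o₁ o₂ n⁻¹ := by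
  choose f hf hfx using hn
  have hbij : Function.Bijective (fun x : blkS o₁ o₂ => (⟨f x x.2, hf x x.2⟩ : blkS o₁ o₂)) :=
    Finite.injective_iff_bijective.1 fun x y e => by
      have e' : f x x.2 = f y y.2 := congrArg Subtype.val e
      have h1 := hfx x x.2
      rw [e', ← hfx y y.2] at h1
      exact Subtype.ext (D.inj (mul_left_cancel (mul_right_cancel h1)))
  intro y hy
  obtain ⟨x, hx⟩ := hbij.2 ⟨y, hy⟩
  refine ⟨x, x.2, ?_⟩
  rw [← show f x x.2 = y from congrArg Subtype.val hx, ← hfx]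
  group

theorem norm1_s {π : Perm (Option Ω)} (h1 : π (some o₁) = some o₁) (h2 : π (some o₂) = some o₂) :
    D.Norm1 o₁ o₂ (D.s π) := by
  intro x hx
  obtain ⟨hv, he | he⟩ := blkS_cases hx
  · exact ⟨Wm.bs (peE π (Wm.vec x)), bs_mem_blkS (peE_fix h1 h2 hv), by rw [he]; exact D.s_conj _ _⟩
  · refine ⟨Wm.bs (peE π (Wm.vec x)) * Wm.pm (swap o₁ o₂), mul_mem (bs_mem_blkS (peE_fix h1 h2 hv))
      pm_swap_mem_blkS, ?_⟩
    conv_lhs => rw [he]
    rw [map_mul, map_mul, ← D.s_conj π (Wm.vec x)]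
    calc D.s π * (D.φ (Wm.bs (Wm.vec x)) * D.φ (Wm.pm (swap o₁ o₂))) * (D.s π)⁻¹
        = D.s π * D.φ (Wm.bs (Wm.vec x)) * (D.s π)⁻¹ * (D.s π * D.φ (Wm.pm (swap o₁ o₂)) * (D.s π)⁻¹) := by group
      _ = _ := by rw [D.s_fix_swap h1 h2, mul_inv_cancel_right]

theorem norm1_phi {a : Wm Ω} (h : Wm.prm a * swap o₁ o₂ = swap o₁ o₂ * Wm.prm a) :
    D.Norm1 o₁ o₂ (D.φ a) := by
  intro x hx
  refine ⟨a * x * a⁻¹, ?_, by rw [map_mul, map_mul, map_inv]⟩
  rw [Wm.eq_bs_mul_pm a, show Wm.bs (Wm.vec a) * Wm.pm (Wm.prm a) * x * (Wm.bs (Wm.vec a) * Wm.pm (Wm.prm a))⁻¹ =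
    Wm.bs (Wm.vec a) * (Wm.pm (Wm.prm a) * x * (Wm.pm (Wm.prm a))⁻¹) * (Wm.bs (Wm.vec a))⁻¹ by group]
  have hx' : Wm.pm (Wm.prm a) * x * (Wm.pm (Wm.prm a))⁻¹ ∈ blkS o₁ o₂ :=
    Wm.conj_mem_blk _ _ (by rw [h, mul_inv_cancel_right]) hx
  obtain ⟨hv', he | he⟩ := blkS_cases hx'
  · rw [he, Wm.bs_comm, mul_inv_cancel_right]
    exact bs_mem_blkS hv'
  · rw [he, show Wm.bs (Wm.vec a) * (Wm.bs (Wm.vec (Wm.pm (Wm.prm a) * x * (Wm.pm (Wm.prm a))⁻¹)) *
      Wm.pm (swap o₁ o₂)) * (Wm.bs (Wm.vec a))⁻¹ = Wm.bs (Wm.vec a) *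
      Wm.bs (Wm.vec (Wm.pm (Wm.prm a) * x * (Wm.pm (Wm.prm a))⁻¹)) *
      (Wm.pm (swap o₁ o₂) * (Wm.bs (Wm.vec a))⁻¹ * (Wm.pm (swap o₁ o₂))⁻¹) * Wm.pm (swap o₁ o₂) by group,
      Wm.bs_inv, Wm.conj_bs, ← Wm.bs_add, ← Wm.bs_add]
    refine mul_mem (bs_mem_blkS ?_) pm_swap_mem_blkS
    simp only [Pi.add_apply, Wm.prm_pm, Perm.inv_def, symm_swap, swap_apply_left, swap_apply_right]
    rw [hv']
    abel

/-- the centralizer of the image of `blkS o₁ o₂` -/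
theorem exists_of_comm1 (ho : ∃ i, i ≠ o₁ ∧ i ≠ o₂) {g : G}
    (h : ∀ x ∈ blkS o₁ o₂, g * D.φ x = D.φ x * g) : ∃ x ∈ blkS o₁ o₂, g = D.φ x := by
  obtain ⟨i, hi1, hi2⟩ := ho
  have hg : g ∈ Subgroup.centralizer ({D.φ (Wm.tm Ω)} : Set G) :=
    Subgroup.mem_centralizer_singleton_iff.2 (h _ (Wm.tm_mem_blk _))
  obtain ⟨c, rfl⟩ : ∃ c : Subgroup.centralizer ({D.φ (Wm.tm Ω)} : Set G), (c : G) = g := ⟨⟨g, hg⟩, rfl⟩
  have hr : ∀ a ∈ blkS o₁ o₂, D.ρ c * a = a * D.ρ c := fun a ha => by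
    have h1 := congrArg D.ρ (show c * ⟨D.φ a, D.toData.phi_mem a⟩ = ⟨D.φ a, D.toData.phi_mem a⟩ * c from
      Subtype.ext (h a ha))
    rwa [map_mul, map_mul, D.toData.retr'] at h1
  have hmem := Wm.mem_blk_of_commute (swap_mul_self _ _) hr
  refine ⟨D.ρ c, hmem, ?_⟩
  have hbs : Wm.bs (ev i) ∈ blkS o₁ o₂ := bs_mem_blkS (by simp [ev_apply, hi1.symm, hi2.symm])
  have hk := D.ker_comm (c * (⟨D.φ (D.ρ c), D.toData.phi_mem _⟩)⁻¹) i
    (by rw [map_mul, map_inv, D.toData.retr', mul_inv_cancel]) (by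
      show (c : G) * (D.φ (D.ρ c))⁻¹ * D.φ (Wm.bs (ev i)) = D.φ (Wm.bs (ev i)) * ((c : G) * (D.φ (D.ρ c))⁻¹)
      have hcomm : D.φ (D.ρ c) * D.φ (Wm.bs (ev i)) = D.φ (Wm.bs (ev i)) * D.φ (D.ρ c) := by
        rw [← map_mul, ← map_mul, hr _ hbs]
      rw [mul_assoc, ((Commute.inv_left (show Commute (D.φ (D.ρ c)) (D.φ (Wm.bs (ev i))) from hcomm))).eq,
        ← mul_assoc, h _ hbs, mul_assoc])
  exact mul_inv_eq_one.1 (congrArg Subtype.val hk)

/-- **the single block is conjugate into `E`**, together with its elementary abelian subgroup -/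
theorem exists_into_base (ho : o₁ ≠ o₂) :
    ∃ (g : G) (v : Vec Ω), g * D.φ (Wm.pm (swap o₁ o₂)) * g⁻¹ = D.b v ∧
      ∀ x ∈ blkS o₁ o₂, ∃ a, g * D.φ x * g⁻¹ = D.φ a := by
  classical
  haveI : Fact (Nat.Prime 2) := ⟨Nat.prime_two⟩
  set σm : Wm Ω := Wm.pm (swap o₁ o₂) with hσdef
  let C := Subgroup.centralizer ({σm} : Set (Wm Ω))
  have hσσ : σm * σm = 1 := Wm.blk_sq _ pm_swap_mem_blkS
  have hblkC : ∀ x ∈ blkS o₁ o₂, x ∈ C := fun x hx =>
    Subgroup.mem_centralizer_singleton_iff.2 (Wm.blk_comm _ hx pm_swap_mem_blkS)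
  haveI hnorm : ((blkS o₁ o₂).subgroupOf C).Normal := ⟨fun x hx c => by
    rw [Subgroup.mem_subgroupOf] at hx ⊢
    have hc : Wm.prm (c : Wm Ω) * swap o₁ o₂ = swap o₁ o₂ * Wm.prm (c : Wm Ω) :=
      congrArg Wm.prm (Subgroup.mem_centralizer_singleton_iff.1 c.2)
    obtain ⟨y, hy, hxy⟩ := D.norm1_phi hc (x : Wm Ω) hx
    show (c : Wm Ω) * x * (c : Wm Ω)⁻¹ ∈ blkS o₁ o₂
    rw [show (c : Wm Ω) * x * (c : Wm Ω)⁻¹ = y from D.inj (by rw [map_mul, map_mul, map_inv, hxy])]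
    exact hy⟩
  have hblkp : IsPGroup 2 (blkS o₁ o₂) := IsPGroup.of_card (Wm.card_blk_swap ho)
  obtain ⟨P, hP⟩ := (hblkp.comap_of_injective C.subtype C.subtype_injective).exists_le_sylow
  have hPmap : IsPGroup 2 ((P : Subgroup C).map C.subtype) := P.2.map _
  obtain ⟨S₀, hS₀⟩ := hPmap.exists_le_sylow
  have hσS : σm ∈ (S₀ : Subgroup (Wm Ω)) :=
    hS₀ ⟨⟨σm, hblkC _ pm_swap_mem_blkS⟩, hP pm_swap_mem_blkS, rfl⟩
  let χ : Wm Ω →* ℤˣ := Perm.sign.comp (Wm.prmHom Ω)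
  have hχσ : χ σm = -1 := Perm.sign_swap ho
  let M := (χ.ker ⊓ (S₀ : Subgroup (Wm Ω))).map D.φ
  have hMS : M ≤ (D.sylow S₀ : Subgroup G) := Subgroup.map_mono inf_le_right
  have hMi : M.relIndex (D.sylow S₀ : Subgroup G) = 2 := by
    rw [D.coe_sylow, Subgroup.relIndex_map_map_of_injective _ _ D.inj, Subgroup.inf_relIndex_right,
      Subgroup.relIndex_ker]
    rw [show (S₀ : Subgroup (Wm Ω)).map χ = ⊤ from eq_top_iff.2 fun z _ => by
      rcases Int.units_eq_one_or z with rfl | rfl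
      · exact ⟨1, one_mem _, map_one _⟩
      · exact ⟨_, hσS, hχσ⟩]
    rw [Subgroup.card_top, Nat.card_eq_fintype_card, Fintype.card_units_int]
  obtain ⟨g, hgM, hgS⟩ := exists_conj_mem D.noTwo (D.sylow S₀) hMS hMi
    (u := D.φ σm) (by rw [← map_mul, hσσ, map_one])
  obtain ⟨y, ⟨hyχ, -⟩, hgy⟩ := hgM
  have hP' : ∀ p : (P : Subgroup C), ∃ a, g * D.φ ((p : C) : Wm Ω) * g⁻¹ = D.φ a := fun p => by
    obtain ⟨a, -, ha⟩ := hgS (D.φ ((p : C) : Wm Ω)) (Subgroup.mem_map_of_mem _ (hS₀ ⟨_, p.2, rfl⟩)) (by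
      rw [← map_mul, ← map_mul, Subgroup.mem_centralizer_singleton_iff.1 (p : C).2])
    exact ⟨a, ha.symm⟩
  refine ⟨g, Wm.vec y, ?_, fun x hx => hP' ⟨⟨x, hblkC x hx⟩, hP hx⟩⟩
  rw [← hgy]
  suffices hy1 : Wm.prm y = 1 by rw [Data.b, ← Wm.eq_bs_of_mem hy1]
  by_contra hne
  -- the centralizer of `y` is large
  have hyy : y * y = 1 := D.inj (by
    rw [map_mul, map_one, hgy, show g * D.φ σm * g⁻¹ * (g * D.φ σm * g⁻¹) = g * (D.φ σm * D.φ σm) * g⁻¹ by group,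
      ← map_mul, hσσ, map_one, mul_one, mul_inv_cancel])
  choose a ha using hP'
  have haC : ∀ p, a p ∈ Subgroup.centralizer ({y} : Set (Wm Ω)) := fun p =>
    Subgroup.mem_centralizer_singleton_iff.2 (D.inj (by
      rw [map_mul, map_mul, ← ha, hgy]
      have hc := congrArg D.φ (Subgroup.mem_centralizer_singleton_iff.1 (p : C).2)
      rw [map_mul, map_mul] at hc
      calc g * D.φ ((p : C) : Wm Ω) * g⁻¹ * (g * D.φ σm * g⁻¹)
          = g * (D.φ ((p : C) : Wm Ω) * D.φ σm) * g⁻¹ := by group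
        _ = g * (D.φ σm * D.φ ((p : C) : Wm Ω)) * g⁻¹ := by rw [hc]
        _ = _ := by group))
  let af : (P : Subgroup C) →* Subgroup.centralizer ({y} : Set (Wm Ω)) :=
    MonoidHom.mk' (fun p => ⟨a p, haC p⟩) fun p q => Subtype.ext (D.inj (by
      show D.φ (a (p * q)) = D.φ (a p * a q)
      rw [map_mul, ← ha, ← ha, ← ha]
      push_cast
      rw [map_mul]
      group))
  have hafinj : Function.Injective af := fun p q e => by
    have e' : a p = a q := congrArg Subtype.val e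
    have h1 := ha p
    rw [e', ← ha q] at h1
    exact Subtype.ext (Subtype.ext (D.inj (mul_left_cancel (mul_right_cancel h1))))
  have hπ := ((Wm.sq_eq_one_iff y).1 hyy).1
  obtain ⟨j, hj⟩ : ∃ j, (Wm.prm y).support.card / 2 = j := ⟨_, rfl⟩
  obtain ⟨k, hk⟩ : ∃ k, (univ.filter fun i => Wm.prm y i = i ∧ Wm.vec y i = 1).card = k := ⟨_, rfl⟩
  have hj1 : 1 ≤ j := by
    have h1 : 1 < (Wm.prm y).support.card := Perm.two_le_card_support_of_ne_one hne
    omega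
  have hjev : Even j := by
    have h1 : Perm.sign (Wm.prm y) = 1 := hyχ
    rw [sign_invol hπ, hj] at h1
    exact Nat.not_odd_iff_even.1 fun ho' => by
      rw [ho'.neg_one_pow] at h1
      exact absurd h1 (by decide)
  have hjk : 2 * j + k ≤ Fintype.card Ω := by
    rw [← hj, ← support_card_invol hπ, ← hk, ← card_union_of_disjoint (disjoint_left.2 fun i h h' =>
      (Perm.mem_support.1 h) (mem_filter.1 h').2.1)]
    exact card_le_univ _
  have hPcard : Nat.card (P : Subgroup C) =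
      2 ^ padicValNat 2 (2 ^ Fintype.card Ω * (Fintype.card Ω - 2)!) := by
    rw [P.card_eq_multiplicity, Nat.factorization_def _ Nat.prime_two, Wm.card_centralizer_swap ho]
  have hdvd := Subgroup.card_dvd_of_injective af hafinj
  rw [hPcard] at hdvd
  have hbound := hdvd.trans (Wm.card_centralizer_dvd hyy hj hk)
  have hne0 : 2 ^ (Fintype.card Ω - j) * (k ! * ((Fintype.card Ω - k - 2 * j)! * (2 ^ j * j !))) ≠ 0 := by
    simp [Nat.factorial_ne_zero]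
  obtain ⟨rfl, hkev, hle⟩ := two_blocks D.even_card hjev hj1 hjk ((padicValNat_dvd_iff_le hne0).1 hbound)
  -- so the image is a Sylow subgroup of the centralizer of `y`
  have hcard : Nat.card af.range = 2 ^ (Nat.card (Subgroup.centralizer ({y} : Set (Wm Ω)))).factorization 2 := by
    rw [← Nat.card_congr (af.ofInjective hafinj).toEquiv, hPcard, Nat.factorization_def _ Nat.prime_two]
    refine congrArg _ (le_antisymm ((padicValNat_dvd_iff_le Nat.card_pos.ne').1 hdvd) ?_)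
    refine le_trans ((padicValNat_dvd_iff_le hne0).1 ?_) hle
    exact pow_padicValNat_dvd.trans (Wm.card_centralizer_dvd hyy hj hk)
  let Q : Sylow 2 (Subgroup.centralizer ({y} : Set (Wm Ω))) := Sylow.ofCard af.range hcard
  obtain ⟨z, hz⟩ := Wm.exists_sq_eq hyy (by rw [support_card_invol hπ, hj]) (by rw [hk]; exact hkev)
  have hzC : z ∈ Subgroup.centralizer ({y} : Set (Wm Ω)) :=
    Subgroup.mem_centralizer_singleton_iff.2 (by rw [← hz, mul_assoc])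
  let zc : Subgroup.centralizer ({y} : Set (Wm Ω)) := ⟨z, hzC⟩
  have hzp : IsPGroup 2 (Subgroup.zpowers zc) := by
    suffices h4 : orderOf zc ∣ 2 ^ 2 by
      obtain ⟨e, -, he⟩ := (Nat.dvd_prime_pow Nat.prime_two).1 h4
      exact IsPGroup.of_card (n := e) (by rw [Nat.card_zpowers, he])
    refine orderOf_dvd_of_pow_eq_one (Subtype.ext ?_)
    show z ^ (2 ^ 2) = 1
    rw [show (2 : ℕ) ^ 2 = 2 * 2 from rfl, pow_mul, pow_two, pow_two, hz, hyy]
  obtain ⟨Q', hQ'⟩ := hzp.exists_le_sylow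
  obtain ⟨c, hc⟩ := MulAction.exists_smul_eq (Subgroup.centralizer ({y} : Set (Wm Ω))) Q' Q
  have hczc : c * zc * c⁻¹ ∈ af.range := by
    show c * zc * c⁻¹ ∈ (Q : Subgroup (Subgroup.centralizer ({y} : Set (Wm Ω))))
    rw [← hc, Sylow.coe_subgroup_smul, Subgroup.pointwise_smul_def]
    exact ⟨zc, hQ' (Subgroup.mem_zpowers zc), rfl⟩
  obtain ⟨p, hp⟩ := hczc
  have hsq : a p * a p = y := by
    rw [show a p = ((c * zc * c⁻¹ : Subgroup.centralizer ({y} : Set (Wm Ω))) : Wm Ω) from congrArg Subtype.val hp]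
    push_cast
    rw [show (c : Wm Ω) * z * (c : Wm Ω)⁻¹ * ((c : Wm Ω) * z * (c : Wm Ω)⁻¹) = c * (z * z) * (c : Wm Ω)⁻¹ by group,
      hz, Subgroup.mem_centralizer_singleton_iff.1 c.2, mul_inv_cancel_right]
  have hσsq : σm = ((p : C) : Wm Ω) * ((p : C) : Wm Ω) := D.inj (by
    refine mul_left_cancel (a := g) (mul_right_cancel (b := g⁻¹) ?_)
    rw [← hgy, ← hsq, map_mul, map_mul, ← ha]
    group)
  have h1 := congrArg χ hσsq
  rw [map_mul, hχσ, Int.units_mul_self] at h1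
  exact absurd h1 (by decide)

end SymData

end CfsgLib.KondoAlt
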