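import Mathlib

/-!
# Transfer with control of the centralizer

If there is no normal subgroup of index two and `M` has index two in a Sylow 2-subgroup `S`, every
involution `u` has a conjugate `g u g⁻¹` in `M` with `g (C_S u) g⁻¹ ≤ S`.
-/

set_option autoImplicit false
set_option linter.style.haveILetI false

namespace CfsgLib.KondoAlt

open Subgroup

variable {G : Type*} [Group G]

/-- **extremal transfer lemma** -/
theorem exists_conj_mem [Finite G] (h2 : ∀ H : Subgroup G, H.Normal → H.index ≠ 2) (S : Sylow 2 G)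
    {M : Subgroup G} (hMS : M ≤ (S : Subgroup G)) (hMi : M.relIndex (S : Subgroup G) = 2) {u : G}
    (hu : u * u = 1) :
    ∃ g : G, g * u * g⁻¹ ∈ M ∧ ∀ s ∈ (S : Subgroup G), s * u = u * s → g * s * g⁻¹ ∈ (S : Subgroup G) := by
  classical
  letI : Fintype (G ⧸ M) := Fintype.ofFinite _
  let f : G →* ℤˣ := (Equiv.Perm.sign).comp (MulAction.toPermHom G (G ⧸ M))
  have hf : f u = 1 := by
    by_contra hne
    refine h2 f.ker inferInstance ?_
    have hr : Function.Surjective f := fun z => by
      rcases Int.units_eq_one_or z with rfl | rfl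
      · exact ⟨1, map_one f⟩
      · exact ⟨u, (Int.units_eq_one_or _).resolve_left hne⟩
    rw [Subgroup.index_ker, MonoidHom.range_eq_top.2 hr, Subgroup.card_top,
      Nat.card_eq_fintype_card, Fintype.card_units_int]
  -- the fixed cosets
  haveI hMn : (M.subgroupOf (S : Subgroup G)).Normal := Subgroup.normal_of_index_eq_two hMi
  have hnorm : ∀ s ∈ (S : Subgroup G), ∀ m ∈ M, s * m * s⁻¹ ∈ M := fun s hs m hm =>
    hMn.conj_mem ⟨m, hMS hm⟩ hm ⟨s, hs⟩
  let Good : G ⧸ (S : Subgroup G) → Prop := fun y => ∃ g : G, (g : G ⧸ (S : Subgroup G)) = y ∧ g⁻¹ * u * g ∈ M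
  have hgood : ∀ g : G, Good (g : G ⧸ (S : Subgroup G)) ↔ g⁻¹ * u * g ∈ M := by
    refine fun g => ⟨?_, fun h => ⟨g, rfl, h⟩⟩
    rintro ⟨g', hg', h⟩
    rw [QuotientGroup.eq] at hg'
    have := hnorm _ (inv_mem hg') _ h
    simpa [mul_assoc] using this
  have hfix : ∀ x : G ⧸ M, u • x = x ↔ Good (Subgroup.quotientMapOfLE hMS x) := by
    intro x
    obtain ⟨g, rfl⟩ := QuotientGroup.mk_surjective x
    rw [quotientMapOfLE_apply_mk, hgood, MulAction.Quotient.smul_mk, smul_eq_mul, QuotientGroup.eq,
      ← inv_mem_iff (H := M)]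
    simp [mul_assoc]
  have hcardfix : Nat.card {x : G ⧸ M // u • x = x} = Nat.card {y // Good y} * 2 := by
    let e := Subgroup.quotientEquivProdOfLE hMS
    refine Eq.trans ?_ (congrArg (fun k => Nat.card {y // Good y} * k)
      (show Nat.card ((S : Subgroup G) ⧸ M.subgroupOf (S : Subgroup G)) = 2 from hMi))
    rw [← Nat.card_prod]
    refine Nat.card_congr ((e.subtypeEquiv (q := fun z => Good z.1) fun x => ?_).trans
      { toFun := fun z => (⟨z.1.1, z.2⟩, z.1.2)
        invFun := fun z => ⟨(z.1.1, z.2), z.1.2⟩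
        left_inv := fun _ => rfl
        right_inv := fun _ => rfl })
    rw [hfix x]
    have h1 : (e x).1 = Subgroup.quotientMapOfLE hMS x := by
      obtain ⟨g, rfl⟩ := QuotientGroup.mk_surjective x
      rfl
    rw [h1]
  have hodd : Odd (Nat.card {y // Good y}) := by
    have hsq : (MulAction.toPermHom G (G ⧸ M) u) ^ 2 = 1 := by rw [← map_pow, pow_two, hu, map_one]
    have h1 : Equiv.Perm.sign (MulAction.toPermHom G (G ⧸ M) u) = 1 := hf
    rw [Equiv.Perm.sign_of_pow_two_eq_one hsq] at h1
    have hev : Even ((Fintype.card (G ⧸ M) -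
        Fintype.card (Function.fixedPoints (MulAction.toPermHom G (G ⧸ M) u))) / 2) := by
      by_contra he
      rw [(Nat.not_even_iff_odd.1 he).neg_one_pow] at h1
      exact absurd h1 (by decide)
    have h3 : Fintype.card (Function.fixedPoints (MulAction.toPermHom G (G ⧸ M) u)) =
        Nat.card {y // Good y} * 2 := by
      rw [← hcardfix, ← Nat.card_eq_fintype_card]
      rfl
    have h4 : Fintype.card (G ⧸ M) = 2 * (S : Subgroup G).index := by
      rw [← Nat.card_eq_fintype_card, ← Subgroup.index_eq_card, ← Subgroup.relIndex_mul_index hMS, hMi]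
    have h5 : Nat.card {y // Good y} ≤ (S : Subgroup G).index := by
      rw [Subgroup.index_eq_card]
      exact Nat.card_le_card_of_injective _ Subtype.val_injective
    have hoS : Odd (S : Subgroup G).index := Nat.not_even_iff_odd.1 fun he => S.not_dvd_index he.two_dvd
    rw [h3, h4] at hev
    rw [Nat.odd_iff] at hoS ⊢
    rw [Nat.even_iff] at hev
    omega
  -- the centralizer acts
  let R : Subgroup G := (S : Subgroup G) ⊓ Subgroup.centralizer {u}
  have hR : IsPGroup 2 R := S.2.to_le inf_le_left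
  letI : MulAction R {y // Good y} :=
    { smul := fun r y => ⟨(r : G) • y.1, by
        obtain ⟨g, hg, h⟩ := y.2
        refine ⟨r * g, by rw [← hg]; rfl, ?_⟩
        have hc : (r : G) * u = u * r := (Subgroup.mem_centralizer_singleton_iff.1 r.2.2)
        rw [show ((r : G) * g)⁻¹ * u * (r * g) = g⁻¹ * ((r : G)⁻¹ * (u * r)) * g by group, ← hc,
          inv_mul_cancel_left]
        exact h⟩
      one_smul := fun y => Subtype.ext (one_smul G y.1)
      mul_smul := fun a b y => Subtype.ext (mul_smul (a : G) (b : G) y.1) }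
  have hnd : ¬ 2 ∣ Nat.card {y // Good y} := fun h => Nat.not_even_iff_odd.2 hodd (even_iff_two_dvd.2 h)
  obtain ⟨y, hy⟩ := hR.nonempty_fixed_point_of_prime_not_dvd_card _ hnd
  obtain ⟨g, hg, hgu⟩ := y.2
  refine ⟨g⁻¹, by rwa [inv_inv], fun s hs hsu => ?_⟩
  have h1 : s • (g : G ⧸ (S : Subgroup G)) = g := by
    rw [hg]
    exact congrArg Subtype.val (hy ⟨s, hs, Subgroup.mem_centralizer_singleton_iff.2 hsu⟩)
  rw [MulAction.Quotient.smul_mk, smul_eq_mul, QuotientGroup.eq] at h1
  rw [inv_inv]
  simpa [mul_assoc] using inv_mem h1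

end CfsgLib.KondoAlt
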