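import Cfsg.Agent.Lib.Invol.KondoAlt.WeakClosure
import Cfsg.Agent.Lib.Invol.KondoAlt.Transfer
import Cfsg.Agent.Lib.Coprime.Gaschutz

/-!
# The normalizer of `E` is `E` by the symmetric group on one more point
-/

set_option autoImplicit false
set_option linter.unusedSectionVars false
set_option linter.style.haveILetI false

namespace CfsgLib.KondoAlt

open Equiv Finset

variable {Ω : Type*} [Fintype Ω] [DecidableEq Ω] {G : Type*} [Group G] [Finite G]

/-- the parity of the bit part -/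
def parity (Ω : Type*) [Fintype Ω] : Wm Ω →* Multiplicative (ZMod 2) where
  toFun x := Multiplicative.ofAdd (∑ i, Wm.vec x i)
  map_one' := by simp
  map_mul' x y := by
    rw [← ofAdd_add]
    refine congrArg _ ?_
    simp only [Wm.vec_mul, sum_add_distrib]
    rw [Equiv.sum_comp (Wm.prm x)⁻¹ (Wm.vec y)]

theorem parity_bs_ev (i : Ω) : parity Ω (Wm.bs (ev i)) = Multiplicative.ofAdd 1 :=
  congrArg Multiplicative.ofAdd (sum_ev i)

theorem peE_injective (hcard : Even (Fintype.card Ω)) :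
    Function.Injective (peE : Perm (Option Ω) → Perm (Vec Ω)) := by
  rw [injective_iff_map_eq_one]
  intro ρ hρ
  refine Equiv.ext fun z => op_injective hcard ?_
  rw [← peE_op hcard, hρ]
  rfl

namespace Data

variable (D : Data Ω G)

/-- **fusion in `E` is controlled by the normalizer** -/
theorem exists_norm_of_conj {g : G} {v w : Vec Ω} (h : g * D.b v * g⁻¹ = D.b w) :
    ∃ n, D.Norm n ∧ n * D.b v * n⁻¹ = D.b w := by
  classical
  let C := Subgroup.centralizer ({D.b w} : Set G)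
  let E := (Wm.baseG Ω).map D.φ
  have hEp : IsPGroup 2 E := (IsPGroup.of_card Wm.card_baseG).map D.φ
  have hbE : ∀ u, D.b u ∈ E := fun u => Subgroup.mem_map_of_mem _ (Wm.mem_baseG.2 rfl)
  have hE2p : IsPGroup 2 (E.map (MulAut.conj g).toMonoidHom) := hEp.map _
  have h1 : IsPGroup 2 (E.subgroupOf C) := hEp.comap_of_injective C.subtype C.subtype_injective
  have h2 : IsPGroup 2 ((E.map (MulAut.conj g).toMonoidHom).subgroupOf C) :=
    hE2p.comap_of_injective C.subtype C.subtype_injective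
  obtain ⟨P₁, hP₁⟩ := h1.exists_le_sylow
  obtain ⟨P₂, hP₂⟩ := h2.exists_le_sylow
  obtain ⟨c, hc⟩ := MulAction.exists_smul_eq C P₂ P₁
  have hp : IsPGroup 2 ((P₁ : Subgroup C).map C.subtype) := P₁.2.map _
  obtain ⟨Q, hQ⟩ := hp.exists_le_sylow
  obtain ⟨S₀⟩ := (Sylow.nonempty : Nonempty (Sylow 2 (Wm Ω)))
  obtain ⟨k, hk⟩ := MulAction.exists_smul_eq G Q (D.sylow S₀)
  have hQS : ∀ x ∈ (P₁ : Subgroup C), k * (x : G) * k⁻¹ ∈ (D.sylow S₀ : Subgroup G) := by
    intro x hx
    rw [← hk, Sylow.coe_subgroup_smul, Subgroup.pointwise_smul_def]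
    exact ⟨x, hQ ⟨x, hx, rfl⟩, rfl⟩
  have hbw : ∀ u, D.b u ∈ C := fun u => Subgroup.mem_centralizer_singleton_iff.2 (D.b_comm u w)
  have hgw : ∀ u, g * D.b u * g⁻¹ ∈ C := fun u => Subgroup.mem_centralizer_singleton_iff.2 (by
    rw [← h]
    calc g * D.b u * g⁻¹ * (g * D.b v * g⁻¹) = g * (D.b u * D.b v) * g⁻¹ := by group
      _ = g * (D.b v * D.b u) * g⁻¹ := by rw [D.b_comm]
      _ = _ := by group)
  have hn1 : D.Norm k := D.norm_of_into (D.into_of_sylow fun u => hQS ⟨_, hbw u⟩ (hP₁ (hbE u)))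
  have hn2 : D.Norm (k * (c : G) * g) := D.norm_of_into (D.into_of_sylow fun u => by
    have hm : c * ⟨_, hgw u⟩ * c⁻¹ ∈ (P₁ : Subgroup C) := by
      rw [← hc, Sylow.coe_subgroup_smul, Subgroup.pointwise_smul_def]
      exact ⟨⟨_, hgw u⟩, hP₂ ⟨D.b u, hbE u, rfl⟩, rfl⟩
    have h' := hQS _ hm
    have e : k * (c : G) * g * D.b u * (k * (c : G) * g)⁻¹ =
        k * ((c : G) * (g * D.b u * g⁻¹) * (c : G)⁻¹) * k⁻¹ := by group
    rw [e]
    exact h')
  refine ⟨c * g, ?_, ?_⟩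
  · have := D.norm_mul (D.norm_inv hn1) hn2
    rwa [show k⁻¹ * (k * (c : G) * g) = c * g by group] at this
  · rw [show (c : G) * g * D.b v * ((c : G) * g)⁻¹ = c * (g * D.b v * g⁻¹) * (c : G)⁻¹ by group, h,
      Subgroup.mem_centralizer_singleton_iff.1 c.2, mul_inv_cancel_right]

/-- the normalizer moves `t` -/
theorem exists_moving : ∃ x ∈ D.autE, x 1 ≠ 1 := by
  classical
  by_contra! hall
  obtain ⟨i⟩ := Fintype.card_pos_iff.1 D.pos
  obtain ⟨S₀⟩ := (Sylow.nonempty : Nonempty (Sylow 2 (Wm Ω)))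
  have hi : Wm.bs (ev i) ∈ (S₀ : Subgroup (Wm Ω)) := bs_mem_sylow S₀ _
  let M := ((parity Ω).ker ⊓ (S₀ : Subgroup (Wm Ω))).map D.φ
  have hMS : M ≤ (D.sylow S₀ : Subgroup G) := Subgroup.map_mono inf_le_right
  have hMi : M.relIndex (D.sylow S₀ : Subgroup G) = 2 := by
    rw [D.coe_sylow, Subgroup.relIndex_map_map_of_injective _ _ D.inj, Subgroup.inf_relIndex_right,
      Subgroup.relIndex_ker]
    rw [show (S₀ : Subgroup (Wm Ω)).map (parity Ω) = ⊤ from eq_top_iff.2 fun z _ => by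
      rcases z2_cases z.toAdd with h | h
      · exact ⟨1, one_mem _, by rw [map_one]; exact Multiplicative.toAdd.injective h.symm⟩
      · exact ⟨_, hi, by rw [parity_bs_ev]; exact Multiplicative.toAdd.injective h.symm⟩]
    rw [Subgroup.card_top, Nat.card_eq_fintype_card, Fintype.card_multiplicative, ZMod.card]
  obtain ⟨g, hgM, hgS⟩ := exists_conj_mem D.noTwo (D.sylow S₀) hMS hMi (D.b_sq (ev i))
  have hn : D.Norm g := D.norm_of_into (D.into_of_sylow fun v => hgS _ (D.b_mem_sylow S₀ v) (D.b_comm _ _))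
  obtain ⟨x, hx, hxg⟩ := D.exists_aut hn
  obtain ⟨π, rfl⟩ := D.stabSym.stab x hx (hall x hx)
  rw [hxg, pe_ev] at hgM
  obtain ⟨z, hz, hz'⟩ := hgM
  obtain rfl := D.inj hz'
  have h1 : parity Ω (Wm.bs (ev (π i))) = 1 := hz.1
  rw [parity_bs_ev] at h1
  exact one_ne_zero (Multiplicative.ofAdd.injective h1)

/-- the normalizer of `E` -/
def normG : Subgroup G where
  carrier := {n | D.Norm n}
  one_mem' := fun v => ⟨v, by simp⟩
  mul_mem' := D.norm_mul
  inv_mem' := D.norm_inv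

theorem index_range_odd : Odd D.φ.range.index := by
  have hCidx := D.index_odd
  have hle : D.φ.range ≤ Subgroup.centralizer ({D.φ (Wm.tm Ω)} : Set G) := by
    rintro _ ⟨x, rfl⟩
    exact D.phi_mem x
  rw [← Subgroup.relIndex_mul_index hle]
  refine Odd.mul ?_ hCidx
  have hsurj : Function.Surjective D.ρ := fun x => ⟨_, D.retr' x⟩
  have h1 : D.φ.range.relIndex (Subgroup.centralizer ({D.φ (Wm.tm Ω)} : Set G)) *
      Nat.card (Wm Ω) = Nat.card D.ρ.ker * Nat.card (Wm Ω) := by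
    have e1 := (D.φ.range.subgroupOf (Subgroup.centralizer ({D.φ (Wm.tm Ω)} : Set G))).index_mul_card
    rw [Nat.card_congr (Subgroup.subgroupOfEquivOfLe hle).toEquiv,
      ← Nat.card_congr (D.φ.ofInjective D.inj).toEquiv] at e1
    rw [Subgroup.relIndex, e1, ← D.ρ.ker.index_mul_card, Subgroup.index_ker, MonoidHom.range_eq_top.2 hsurj,
      Subgroup.card_top, mul_comm]
  rw [Nat.eq_of_mul_eq_mul_right Nat.card_pos h1]
  exact D.ker_odd

end Data

/-- the data with the symmetric group on one more point -/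
structure SymData (Ω : Type*) [Fintype Ω] [DecidableEq Ω] (G : Type*) [Group G] extends Data Ω G where
  s : Perm (Option Ω) →* G
  s_conj : ∀ π v, s π * φ (Wm.bs v) * (s π)⁻¹ = φ (Wm.bs (peE π v))
  s_pm : ∀ π : Perm Ω, s (Equiv.optionCongr π) = φ (Wm.pm π)
  norm_eq : ∀ n, (∀ v, ∃ w, n * φ (Wm.bs v) * n⁻¹ = φ (Wm.bs w)) → ∃ v π, n = φ (Wm.bs v) * s π

namespace Data

variable (D : Data Ω G)

include D in
/-- **the normalizer of `E`** in good coordinates -/
theorem exists_symData : Nonempty (SymData Ω G) := by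
  classical
  obtain ⟨x₀, hx₀, hx₀1⟩ := D.exists_moving
  obtain ⟨θ, hθ, hX⟩ := (D.stabSym.trivial_or_symmetric D.even_card).resolve_left fun h => hx₀1 (h x₀ hx₀)
  have hθθ : θ * θ = 1 := by rcases hθ with rfl | rfl; exacts [one_mul 1, theta_mul_self _]
  have hθv : ∀ v, θ (θ v) = v := fun v => by rw [← Perm.mul_apply, hθθ]; rfl
  have hθadd : ∀ v w, θ (v + w) = θ v + θ w := by
    rcases hθ with rfl | rfl; exacts [fun v w => rfl, theta_add _]
  have hθ1 : θ 1 = 1 := by rcases hθ with rfl | rfl; exacts [rfl, theta_one _]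
  have hθpe : ∀ π, θ * pe π * θ = pe π := fun π => by
    rcases hθ with rfl | rfl
    · rw [one_mul, mul_one]
    · rw [theta_pe, mul_assoc, theta_mul_self, mul_one]
  -- the complement
  let N := D.normG
  let E := (Wm.baseG Ω).map D.φ
  have hrange : D.φ.range ≤ N := by rintro _ ⟨x, rfl⟩; exact D.norm_phi x
  have hEN : E ≤ N := (Subgroup.map_le_range _ _).trans hrange
  let K := E.subgroupOf N
  let U := D.φ.range.subgroupOf N
  let A := ((MonoidHom.range (MonoidHom.mk' (Wm.pm : Perm Ω → Wm Ω) Wm.pm_mul)).map D.φ).subgroupOf N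
  have hKmem : ∀ n : N, n ∈ K ↔ ∃ v, (n : G) = D.b v := fun n => by
    rw [Subgroup.mem_subgroupOf]
    refine ⟨fun ⟨z, hz, e⟩ => ⟨Wm.vec z, ?_⟩, fun ⟨v, e⟩ => ⟨Wm.bs v, Wm.mem_baseG.2 rfl, e.symm⟩⟩
    rw [← e, Data.b, ← Wm.eq_bs_of_mem hz]
  haveI : K.Normal := ⟨fun z hz n => by
    obtain ⟨v, hv⟩ := (hKmem z).1 hz
    obtain ⟨w, hw⟩ := n.2 v
    exact (hKmem _).2 ⟨w, by rw [← hw, ← hv]; rfl⟩⟩
  haveI : IsMulCommutative K := ⟨⟨fun a b => Subtype.ext (Subtype.ext (by
    obtain ⟨v, hv⟩ := (hKmem a).1 a.2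
    obtain ⟨w, hw⟩ := (hKmem b).1 b.2
    show ((a : N) : G) * ((b : N) : G) = ((b : N) : G) * ((a : N) : G)
    rw [hv, hw, D.b_comm]))⟩⟩
  have hgz : CfsgLib.Coprime.GzData K U A := by
    refine ⟨?_, ?_, ?_⟩
    · intro z hz
      rw [Subgroup.mem_subgroupOf] at hz ⊢
      exact Subgroup.map_le_range _ _ hz
    · rw [eq_bot_iff]
      rintro z ⟨hzA, hzK⟩
      obtain ⟨v, hv⟩ := (hKmem z).1 hzK
      obtain ⟨_, ⟨π, rfl⟩, hπ⟩ := Subgroup.mem_subgroupOf.1 hzA
      have e : (MonoidHom.mk' (Wm.pm : Perm Ω → Wm Ω) Wm.pm_mul) π = Wm.bs v :=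
        D.inj (hπ.trans hv)
      have e0 : (0 : Vec Ω) = v := congrArg Wm.vec e
      rw [Subgroup.mem_bot]
      exact Subtype.ext (by rw [hv, ← e0, D.b_zero]; rfl)
    · refine le_antisymm (sup_le (fun z hz => ?_) fun z hz => ?_) fun z hz => ?_
      · rw [Subgroup.mem_subgroupOf] at hz ⊢
        exact Subgroup.map_le_range _ _ hz
      · rw [Subgroup.mem_subgroupOf] at hz ⊢
        exact Subgroup.map_le_range _ _ hz
      · obtain ⟨x, hx⟩ := Subgroup.mem_subgroupOf.1 hz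
        have e : z = ⟨D.b (Wm.vec x), hEN ⟨_, Wm.mem_baseG.2 rfl, rfl⟩⟩ *
            ⟨D.φ (Wm.pm (Wm.prm x)), hrange ⟨_, rfl⟩⟩ := Subtype.ext (by
          show (z : G) = D.φ (Wm.bs _) * D.φ (Wm.pm _)
          rw [← map_mul, ← Wm.eq_bs_mul_pm, hx])
        rw [e]
        exact Subgroup.mul_mem_sup ((hKmem _).2 ⟨_, rfl⟩) (Subgroup.mem_subgroupOf.2 ⟨_, ⟨_, rfl⟩, rfl⟩)
  have hcop : (Nat.card K).Coprime U.index := by
    rw [Nat.card_congr (Subgroup.subgroupOfEquivOfLe hEN).toEquiv, Subgroup.card_map_of_injective D.inj,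
      Wm.card_baseG]
    refine Nat.Coprime.pow_left _ (Nat.coprime_two_left.2 ?_)
    exact D.index_range_odd.of_dvd_nat ⟨_, (Subgroup.relIndex_mul_index hrange).symm⟩
  obtain ⟨H, hH⟩ := CfsgLib.Coprime.gaschutz_exists hgz hcop
  -- identification with the symmetric group
  have hact : ∀ h : H, ∃ π, ∀ v, ((h : N) : G) * D.b v * ((h : N) : G)⁻¹ = D.b (θ (peE π (θ v))) := by
    intro h
    obtain ⟨x, hx, hxv⟩ := D.exists_aut (h : N).2
    obtain ⟨π, hπ⟩ := (hX x).1 hx
    refine ⟨π, fun v => ?_⟩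
    rw [hxv, ← hπ]
    simp only [Perm.mul_apply, hθv]
  choose τ hτ using hact
  have huniq : ∀ {π π'}, (∀ v, D.b (θ (peE π (θ v))) = D.b (θ (peE π' (θ v)))) → π = π' := fun h =>
    peE_injective D.even_card (Equiv.ext fun v => by
      have h1 := θ.injective (D.b_injective (h (θ v)))
      rwa [hθv] at h1)
  let τh : H →* Perm (Option Ω) := MonoidHom.mk' τ fun h h' => huniq fun v => by
    rw [← hτ, map_mul, Perm.mul_apply, ← hθv (peE (τ h') (θ v)), ← hτ, ← hτ]
    push_cast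
    group
  have hτinj : Function.Injective τh := by
    rw [injective_iff_map_eq_one]
    intro h h1
    obtain ⟨v, hv⟩ := D.exists_b_of_comm (g := ((h : N) : G)) fun v => by
      have h2 := hτ h v
      rw [show τ h = 1 from h1, map_one, Perm.one_apply, hθv] at h2
      exact mul_inv_eq_iff_eq_mul.1 h2
    exact Subtype.ext (Subgroup.disjoint_def.1 hH.disjoint ((hKmem _).2 ⟨v, hv⟩) h.2)
  have hsplit : ∀ n : G, D.Norm n → ∃ v, ∃ h : H, n = D.b v * ((h : N) : G) := by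
    intro n hn
    obtain ⟨⟨⟨k, hk⟩, h⟩, hkh⟩ := hH.existsUnique ⟨n, hn⟩ |>.exists
    obtain ⟨v, hv⟩ := (hKmem k).1 hk
    exact ⟨v, h, by rw [← hv]; exact (congrArg Subtype.val hkh).symm⟩
  have hτsurj : Function.Surjective τh := by
    intro π
    obtain ⟨n, hn⟩ := (hX (θ * peE π * θ)).2 ⟨π, by
      rw [← mul_assoc, ← mul_assoc, hθθ, one_mul, mul_assoc, hθθ, mul_one]⟩
    obtain ⟨v, h, rfl⟩ := hsplit n fun u => ⟨_, hn u⟩
    refine ⟨h, huniq fun u => ?_⟩
    have e := hn u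
    rw [Perm.mul_apply, Perm.mul_apply] at e
    rw [← e, show τh h = τ h from rfl, show D.b v * ((h : N) : G) * D.b u * (D.b v * ((h : N) : G))⁻¹ =
      D.b v * (((h : N) : G) * D.b u * ((h : N) : G)⁻¹) * (D.b v)⁻¹ by group, hτ, D.b_comm, mul_inv_cancel_right]
  let τe := MulEquiv.ofBijective τh ⟨hτinj, hτsurj⟩
  let s : Perm (Option Ω) →* G := (N.subtype.comp H.subtype).comp τe.symm.toMonoidHom
  have hs : ∀ π v, s π * D.b v * (s π)⁻¹ = D.b (θ (peE π (θ v))) := by
    intro π v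
    have h1 := hτ (τe.symm π) v
    rw [show τ (τe.symm π) = π from τe.apply_symm_apply π] at h1
    exact h1
  -- the new parametrisation
  let bh : Multiplicative (Vec Ω) →* G := MonoidHom.mk' (fun v => D.b (θ v.toAdd)) fun v w => by
    rw [← D.b_add, ← hθadd]; rfl
  let sΩ : Perm Ω →* G := MonoidHom.mk' (fun π => s (Equiv.optionCongr π)) fun π π' => by
    rw [← map_mul]
    exact congrArg _ (Equiv.ext fun z => by cases z <;> rfl)
  let φ' : Wm Ω →* G := SemidirectProduct.lift bh sΩ fun π => MonoidHom.ext fun v => by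
    show D.b (θ fun i => v.toAdd (π⁻¹ i)) = s (Equiv.optionCongr π) * D.b (θ v.toAdd) * (s (Equiv.optionCongr π))⁻¹
    rw [hs, hθv, peE_optionCongr]
    rfl
  have hφ' : ∀ x, φ' x = D.b (θ (Wm.vec x)) * s (Equiv.optionCongr (Wm.prm x)) := fun x => rfl
  have hφ't : φ' (Wm.tm Ω) = D.φ (Wm.tm Ω) := by
    rw [hφ', show Equiv.optionCongr (Wm.prm (Wm.tm Ω)) = 1 from Equiv.ext fun z => by cases z <;> rfl, map_one,
      mul_one]
    exact congrArg D.b hθ1
  have hφ'range : ∀ x, ∃ y, φ' x = D.φ y := by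
    intro x
    obtain ⟨v, hv⟩ := D.exists_b_of_comm
      (g := (D.φ (Wm.pm (Wm.prm x)))⁻¹ * s (Equiv.optionCongr (Wm.prm x))) fun v => by
      have e : θ (peE (Equiv.optionCongr (Wm.prm x)) (θ v)) = pe (Wm.prm x) v := by
        rw [peE_optionCongr]
        conv_rhs => rw [← hθpe (Wm.prm x)]
        rfl
      have h1 := hs (Equiv.optionCongr (Wm.prm x)) v
      rw [e, ← Wm.prm_pm (Wm.prm x), ← D.conj_b, Wm.prm_pm] at h1
      refine mul_inv_eq_iff_eq_mul.1 ?_
      rw [show ((D.φ (Wm.pm (Wm.prm x)))⁻¹ * s (Equiv.optionCongr (Wm.prm x))) * D.b v *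
        ((D.φ (Wm.pm (Wm.prm x)))⁻¹ * s (Equiv.optionCongr (Wm.prm x)))⁻¹ = (D.φ (Wm.pm (Wm.prm x)))⁻¹ *
        (s (Equiv.optionCongr (Wm.prm x)) * D.b v * (s (Equiv.optionCongr (Wm.prm x)))⁻¹) *
        D.φ (Wm.pm (Wm.prm x)) by group, h1]
      group
    refine ⟨Wm.bs (θ (Wm.vec x)) * (Wm.pm (Wm.prm x) * Wm.bs v), ?_⟩
    rw [hφ', map_mul, map_mul, show D.φ (Wm.bs v) = D.b v from rfl, ← hv, mul_inv_cancel_left]
    rfl
  have hφ'inj : Function.Injective φ' := by
    rw [injective_iff_map_eq_one]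
    intro x hx
    rw [hφ', mul_eq_one_iff_eq_inv] at hx
    have h1 : Wm.prm x = 1 := by
      have h2 : (1 : Perm (Option Ω)) = Equiv.optionCongr (Wm.prm x) := huniq fun v => by
        rw [map_one, Perm.one_apply, hθv, ← hs]
        rw [← inv_inv (s _), ← hx, inv_inv, inv_eq_of_mul_eq_one_right (D.b_sq _), D.b_comm _ v, mul_assoc, D.b_sq,
          mul_one]
      exact Equiv.ext fun i => Option.some_injective _ (DFunLike.congr_fun h2 (some i)).symm
    rw [h1, show Equiv.optionCongr (1 : Perm Ω) = 1 from Equiv.ext fun z => by cases z <;> rfl, map_one,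
      inv_one, ← D.b_zero] at hx
    refine Wm.ext' ?_ h1
    have h2 := congrArg θ (D.b_injective hx)
    rw [hθv] at h2
    rw [h2, Wm.vec_one]
    have h3 := hθadd 0 0
    rw [add_zero] at h3
    exact left_eq_add.1 h3
  have hφb : ∀ v, φ' (Wm.bs v) = D.b (θ v) := fun v => by
    rw [hφ', Wm.prm_bs, show Equiv.optionCongr (1 : Perm Ω) = 1 from Equiv.ext fun z => by cases z <;> rfl,
      map_one, mul_one, Wm.vec_bs]
  choose ψ hψ using hφ'range
  let ψh : Wm Ω →* Wm Ω := MonoidHom.mk' ψ fun x y => D.inj (by rw [← hψ, map_mul, map_mul, ← hψ, ← hψ])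
  let ψe : Wm Ω ≃* Wm Ω := MulEquiv.ofBijective ψh
    (Finite.injective_iff_bijective.1 fun x y e => hφ'inj (by rw [hψ, hψ]; exact congrArg D.φ e))
  let incl : Subgroup.centralizer ({φ' (Wm.tm Ω)} : Set G) →* Subgroup.centralizer ({D.φ (Wm.tm Ω)} : Set G) :=
    Subgroup.inclusion (by rw [hφ't])
  refine ⟨{ φ := φ', inj := hφ'inj, ρ := (ψe.symm.toMonoidHom.comp D.ρ).comp incl, retr := ?_, ker_odd := ?_,
            ker_comm := ?_, index_odd := ?_, even_card := D.even_card, pos := D.pos, noTwo := D.noTwo,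
            s := s, s_conj := ?_, s_pm := ?_, norm_eq := ?_ }⟩
  · intro x h
    show ψe.symm (D.ρ (incl ⟨φ' x, h⟩)) = x
    rw [show incl ⟨φ' x, h⟩ = ⟨D.φ (ψ x), D.phi_mem _⟩ from Subtype.ext (hψ x), D.retr']
    exact ψe.symm_apply_apply x
  · let f : ((ψe.symm.toMonoidHom.comp D.ρ).comp incl).ker → D.ρ.ker := fun k => ⟨incl k, by
      rw [MonoidHom.mem_ker]
      have := MonoidHom.mem_ker.1 k.2
      exact ψe.symm.injective (this.trans (map_one ψe.symm).symm)⟩
    have hbij : Function.Bijective f := by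
      refine ⟨fun a b e => ?_, fun k => ?_⟩
      · have e' : incl a.1 = incl b.1 := congrArg Subtype.val e
        exact Subtype.ext (Subgroup.inclusion_injective _ e')
      refine ⟨⟨⟨((k : Subgroup.centralizer ({D.φ (Wm.tm Ω)} : Set G)) : G), by rw [hφ't]; exact k.1.2⟩, ?_⟩, rfl⟩
      show ψe.symm (D.ρ k) = 1
      rw [MonoidHom.mem_ker.1 k.2, map_one]
    rw [Nat.card_eq_of_bijective f hbij]
    exact D.ker_odd
  · intro k i hk hcomm
    have h0 : Commute (k : G) (D.b (θ (ev i))) :=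
      Eq.subst (motive := fun z => Commute (k : G) z) (hφb (ev i)) hcomm
    have h1 : Commute (k : G) (D.b (ev i)) := by
      rcases hθ with rfl | rfl
      · exact h0
      · rw [theta_apply, sum_ev, one_smul, D.b_add] at h0
        have h2 : Commute (k : G) (D.b 1) := Subgroup.mem_centralizer_singleton_iff.1 (incl k).2
        have h3 := h0.mul_right h2
        rwa [mul_assoc, D.b_sq, mul_one] at h3
    have h2 := D.ker_comm (incl k) i (ψe.symm.injective (hk.trans (map_one ψe.symm).symm)) h1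
    exact Subgroup.inclusion_injective _ (h2.trans (map_one incl).symm)
  · rw [hφ't]; exact D.index_odd
  · intro π v
    rw [hφb, hφb, hs, hθv]
  · intro π
    rw [hφ', Wm.prm_pm, Wm.vec_pm]
    have h3 := hθadd 0 0
    rw [add_zero] at h3
    rw [left_eq_add.1 h3, D.b_zero, one_mul]
  · intro n hn
    obtain ⟨v, h, rfl⟩ := hsplit n fun u => by
      obtain ⟨w, hw⟩ := hn (θ u)
      rw [hφb, hφb, hθv] at hw
      exact ⟨_, hw⟩
    refine ⟨θ v, τe h, ?_⟩
    rw [hφb, hθv]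
    show _ = _ * ((τe.symm (τe h) : N) : G)
    rw [τe.symm_apply_apply]

end Data

end CfsgLib.KondoAlt
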