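import Cfsg.Agent.Lib.Invol.KondoAlt.BlockOrbit

/-!
# The element of order three at one block
-/

set_option autoImplicit false
set_option linter.unusedSectionVars false
set_option linter.style.haveILetI false

namespace CfsgLib.KondoAlt

open Equiv Finset

variable {Ω : Type*} [Fintype Ω] [DecidableEq Ω] {G : Type*} [Group G] [Finite G] {o₁ o₂ : Ω}

/-- a linear functional on bit vectors vanishing outside the block at its unit vectors -/
theorem sum_ev_smul (v : Vec Ω) : v = ∑ i, v i • ev i := by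
  funext j
  rw [Finset.sum_apply]
  simp [ev_apply]

namespace SymData

variable (D : SymData Ω G)

/-- conjugation by `h⁻¹ a h` for a transvection `a` of the block normalizer -/
theorem exists_pulled (h : G) (hn : D.Norm1 o₁ o₂ h) (hh : h * D.φ (e0 o₁ o₂) * h⁻¹ = D.t)
    {a c₀ : Wm Ω} (hc₀ : c₀ ∈ blkS o₁ o₂) (hc1 : c₀ ≠ 1)
    (htr : ∀ x ∈ blkS o₁ o₂, a * x * a⁻¹ = x ∨ a * x * a⁻¹ = x * c₀)
    {x₀ : Wm Ω} (hx₀ : x₀ ∈ blkS o₁ o₂) (hmove : a * x₀ * a⁻¹ ≠ x₀)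
    (hcomm : ∀ r : Wm Ω, (∀ x ∈ blkS o₁ o₂, r * x * r⁻¹ ∈ blkS o₁ o₂) → a * r * a⁻¹ * r⁻¹ ∈ blkS o₁ o₂) :
    ∃ c ∈ blkS o₁ o₂, c ≠ 1 ∧
      (∀ x ∈ blkS o₁ o₂, h⁻¹ * D.φ a * h * D.φ x * (h⁻¹ * D.φ a * h)⁻¹ = D.φ x ∨
        h⁻¹ * D.φ a * h * D.φ x * (h⁻¹ * D.φ a * h)⁻¹ = D.φ (x * c)) ∧
      (∃ x ∈ blkS o₁ o₂, h⁻¹ * D.φ a * h * D.φ x * (h⁻¹ * D.φ a * h)⁻¹ ≠ D.φ x) ∧
      h⁻¹ * D.φ a * h * D.φ (e0 o₁ o₂) * (h⁻¹ * D.φ a * h)⁻¹ = D.φ (e0 o₁ o₂) ∧
      ∀ i j, i ≠ o₁ → i ≠ o₂ → j ≠ o₁ → j ≠ o₂ → ∀ x ∈ blkS o₁ o₂,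
        h⁻¹ * D.φ a * h * (D.φ (Wm.pm (swap i j)) * D.φ x * (D.φ (Wm.pm (swap i j)))⁻¹) * (h⁻¹ * D.φ a * h)⁻¹ =
          D.φ (Wm.pm (swap i j)) * (h⁻¹ * D.φ a * h * D.φ x * (h⁻¹ * D.φ a * h)⁻¹) *
            (D.φ (Wm.pm (swap i j)))⁻¹ := by
  obtain ⟨c, hc, hcc⟩ := D.norm1_inv hn c₀ hc₀
  rw [inv_inv] at hcc
  have htr' : ∀ x ∈ blkS o₁ o₂, h⁻¹ * D.φ a * h * D.φ x * (h⁻¹ * D.φ a * h)⁻¹ = D.φ x ∨
      h⁻¹ * D.φ a * h * D.φ x * (h⁻¹ * D.φ a * h)⁻¹ = D.φ (x * c) := by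
    intro x hx
    obtain ⟨y, hy, hxy⟩ := hn x hx
    have e : h⁻¹ * D.φ a * h * D.φ x * (h⁻¹ * D.φ a * h)⁻¹ = h⁻¹ * D.φ (a * y * a⁻¹) * h := by
      rw [map_mul, map_mul, map_inv, ← hxy]; group
    rcases htr y hy with h' | h' <;> rw [h'] at e
    · exact Or.inl (e.trans (by rw [← hxy]; group))
    · refine Or.inr (e.trans ?_)
      rw [map_mul, map_mul D.φ x, ← hxy, ← hcc]; group
  refine ⟨c, hc, fun h1 => hc1 (D.inj ?_), htr', ?_, ?_, fun i j hi1 hi2 hj1 hj2 x hx => ?_⟩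
  · rw [h1, map_one] at hcc
    rw [map_one, ← conj_eq_one_iff (a := h⁻¹), inv_inv, hcc]
  · obtain ⟨x, hx, hxx⟩ := D.norm1_inv hn x₀ hx₀
    refine ⟨x, hx, fun h1 => hmove (D.inj ?_)⟩
    rw [inv_inv] at hxx
    calc D.φ (a * x₀ * a⁻¹) = h * (h⁻¹ * D.φ a * h * (h⁻¹ * D.φ x₀ * h) * (h⁻¹ * D.φ a * h)⁻¹) * h⁻¹ := by
          rw [map_mul, map_mul, map_inv]; group
      _ = D.φ x₀ := by rw [hxx, h1, ← hxx]; group
  · rw [show h⁻¹ * D.φ a * h * D.φ (e0 o₁ o₂) * (h⁻¹ * D.φ a * h)⁻¹ =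
      h⁻¹ * (D.φ a * (h * D.φ (e0 o₁ o₂) * h⁻¹) * (D.φ a)⁻¹) * h by group, hh, Data.t, ← map_inv, ← map_mul,
      ← map_mul, Wm.tm_comm, mul_inv_cancel_right, show D.φ (Wm.tm Ω) = h * D.φ (e0 o₁ o₂) * h⁻¹ from hh.symm]
    group
  · -- commutation with the outside transpositions
    set S := D.φ (Wm.pm (swap i j)) with hS
    have hπc : swap i j * swap o₁ o₂ = swap o₁ o₂ * swap i j :=
      swap_disjoint_comm hi1 hi2 hj1 hj2
    have hSe : S * D.φ (e0 o₁ o₂) = D.φ (e0 o₁ o₂) * S := by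
      rw [hS, ← map_mul, ← map_mul]
      refine congrArg D.φ (Wm.ext' (funext fun z => ?_) ?_)
      · have hout : ∀ w, outVec o₁ o₂ (swap i j w) = outVec o₁ o₂ w := fun w => by
          rcases eq_or_ne w i with rfl | hw1
          · simp [outVec, hi1, hi2, hj1, hj2]
          rcases eq_or_ne w j with rfl | hw2
          · simp [outVec, hi1, hi2, hj1, hj2]
          · rw [swap_apply_of_ne_of_ne hw1 hw2]
        simp [e0, Wm.vec_mul, hout]
      · simp [e0, hπc]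
    have hnt : h * S * h⁻¹ * D.t = D.t * (h * S * h⁻¹) := by
      rw [← hh]
      calc h * S * h⁻¹ * (h * D.φ (e0 o₁ o₂) * h⁻¹) = h * (S * D.φ (e0 o₁ o₂)) * h⁻¹ := by group
        _ = _ := by rw [hSe]; group
    obtain ⟨r, hr⟩ : ∃ r, r = D.ρ ⟨h * S * h⁻¹, Subgroup.mem_centralizer_singleton_iff.2 hnt⟩ := ⟨_, rfl⟩
    have hSn : D.Norm1 o₁ o₂ (h * S * h⁻¹) := D.norm1_mul (D.norm1_mul hn (D.norm1_phi hπc)) (D.norm1_inv hn)
    have hract : ∀ y ∈ blkS o₁ o₂, r * y * r⁻¹ ∈ blkS o₁ o₂ ∧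
        h * S * h⁻¹ * D.φ y * (h * S * h⁻¹)⁻¹ = D.φ (r * y * r⁻¹) := by
      intro y hy
      obtain ⟨z, hz, hzy⟩ := hSn y hy
      have h' := congrArg D.ρ (show (⟨h * S * h⁻¹, Subgroup.mem_centralizer_singleton_iff.2 hnt⟩ *
        ⟨D.φ y, D.toData.phi_mem y⟩ * ⟨h * S * h⁻¹, Subgroup.mem_centralizer_singleton_iff.2 hnt⟩⁻¹ :
          Subgroup.centralizer ({D.φ (Wm.tm Ω)} : Set G)) = ⟨D.φ z, D.toData.phi_mem z⟩ from Subtype.ext hzy)
      rw [map_mul, map_mul, map_inv, D.toData.retr', D.toData.retr', ← hr] at h'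
      exact ⟨h' ▸ hz, by rw [h', hzy]⟩
    obtain ⟨y, hy, hxy⟩ := hn x hx
    have hay : a * y * a⁻¹ ∈ blkS o₁ o₂ := by
      rcases htr y hy with h' | h' <;> rw [h']
      exacts [hy, mul_mem hy hc₀]
    have hz := hcomm r fun x hx => (hract x hx).1
    have key : a * (r * y * r⁻¹) * a⁻¹ = r * (a * y * a⁻¹) * r⁻¹ := by
      have hmem := (hract _ hay).1
      calc a * (r * y * r⁻¹) * a⁻¹
          = (a * r * a⁻¹ * r⁻¹) * (r * (a * y * a⁻¹) * r⁻¹) * (a * r * a⁻¹ * r⁻¹)⁻¹ := by group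
        _ = _ := by rw [Wm.blk_comm _ hz hmem, mul_inv_cancel_right]
    calc h⁻¹ * D.φ a * h * (S * D.φ x * S⁻¹) * (h⁻¹ * D.φ a * h)⁻¹
        = h⁻¹ * (D.φ a * (h * S * h⁻¹ * (h * D.φ x * h⁻¹) * (h * S * h⁻¹)⁻¹) * (D.φ a)⁻¹) * h := by group
      _ = h⁻¹ * D.φ (r * (a * y * a⁻¹) * r⁻¹) * h := by
        rw [hxy, (hract y hy).2, ← map_inv, ← map_mul, ← map_mul, key]
      _ = h⁻¹ * (h * S * h⁻¹ * D.φ (a * y * a⁻¹) * (h * S * h⁻¹)⁻¹) * h := by rw [(hract _ hay).2]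
      _ = _ := by rw [map_mul, map_mul, map_inv, ← hxy]; group

/-- if the transvection fixes `t`, it is the only outside transposition -/
theorem fixed_case (ho : o₁ ≠ o₂) {T : G} {c : Wm Ω}
    (htr : ∀ x ∈ blkS o₁ o₂, T * D.φ x * T⁻¹ = D.φ x ∨ T * D.φ x * T⁻¹ = D.φ (x * c))
    (hc : c ∈ blkS o₁ o₂) (hmove : ∃ x ∈ blkS o₁ o₂, T * D.φ x * T⁻¹ ≠ D.φ x)
    (he0 : T * D.φ (e0 o₁ o₂) * T⁻¹ = D.φ (e0 o₁ o₂))
    (hS : ∀ i j, i ≠ o₁ → i ≠ o₂ → j ≠ o₁ → j ≠ o₂ → ∀ x ∈ blkS o₁ o₂,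
      T * (D.φ (Wm.pm (swap i j)) * D.φ x * (D.φ (Wm.pm (swap i j)))⁻¹) * T⁻¹ =
        D.φ (Wm.pm (swap i j)) * (T * D.φ x * T⁻¹) * (D.φ (Wm.pm (swap i j)))⁻¹)
    (hfix : T * D.t * T⁻¹ = D.t) :
    ∃ i j, i ≠ j ∧ i ≠ o₁ ∧ i ≠ o₂ ∧ j ≠ o₁ ∧ j ≠ o₂ ∧ (∀ k, k = o₁ ∨ k = o₂ ∨ k = i ∨ k = j) ∧
      ∀ x ∈ blkS o₁ o₂, T * D.φ x * T⁻¹ = D.φ (Wm.pm (swap i j) * x * (Wm.pm (swap i j))⁻¹) := by
  classical
  obtain ⟨r, hr⟩ : ∃ r, r = D.ρ ⟨T, Subgroup.mem_centralizer_singleton_iff.2 (mul_inv_eq_iff_eq_mul.1 hfix)⟩ :=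
    ⟨_, rfl⟩
  have hract : ∀ x ∈ blkS o₁ o₂, r * x * r⁻¹ ∈ blkS o₁ o₂ ∧ T * D.φ x * T⁻¹ = D.φ (r * x * r⁻¹) := by
    intro x hx
    obtain ⟨z, hz, hzx⟩ : ∃ z ∈ blkS o₁ o₂, T * D.φ x * T⁻¹ = D.φ z :=
      (htr x hx).elim (fun h => ⟨x, hx, h⟩) fun h => ⟨x * c, mul_mem hx hc, h⟩
    have h' := congrArg D.ρ (show (⟨T, Subgroup.mem_centralizer_singleton_iff.2 (mul_inv_eq_iff_eq_mul.1 hfix)⟩ *
      ⟨D.φ x, D.toData.phi_mem x⟩ *
        ⟨T, Subgroup.mem_centralizer_singleton_iff.2 (mul_inv_eq_iff_eq_mul.1 hfix)⟩⁻¹ :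
        Subgroup.centralizer ({D.φ (Wm.tm Ω)} : Set G)) = ⟨D.φ z, D.toData.phi_mem z⟩ from Subtype.ext hzx)
    rw [map_mul, map_mul, map_inv, D.toData.retr', D.toData.retr', ← hr] at h'
    exact ⟨h' ▸ hz, by rw [h', hzx]⟩
  have hπ := prm_comm_of_normal ho fun x hx => (hract x hx).1
  set π := Wm.prm r with hπdef
  have hπinv : π⁻¹ * swap o₁ o₂ = swap o₁ o₂ * π⁻¹ := by
    rw [inv_mul_eq_iff_eq_mul, ← mul_assoc, hπ, mul_inv_cancel_right]
  have hpres : ∀ i, i ≠ o₁ → i ≠ o₂ → π i ≠ o₁ ∧ π i ≠ o₂ := fun i h1 h2 => by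
    constructor <;> intro h <;> have h' := congrArg (π⁻¹ ·) h <;> simp only [inv_apply] at h' <;>
      [rcases apply_mem_pair ho hπinv (Or.inl (rfl : o₁ = o₁)) with h'' | h'';
       rcases apply_mem_pair ho hπinv (Or.inr (rfl : o₂ = o₂)) with h'' | h''] <;>
      rw [h''] at h'
    exacts [h1 h', h2 h', h1 h', h2 h']
  -- the transposition of the block is fixed
  have hσ : r * Wm.pm (swap o₁ o₂) * r⁻¹ = Wm.pm (swap o₁ o₂) := by
    have hout : r * Wm.bs (outVec o₁ o₂) * r⁻¹ = Wm.bs (outVec o₁ o₂) := by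
      rw [Wm.conj_bs]
      refine congrArg Wm.bs (funext fun z => ?_)
      show outVec o₁ o₂ (π⁻¹ z) = outVec o₁ o₂ z
      simp only [outVec]
      by_cases hz : z = o₁ ∨ z = o₂
      · have h1 : π⁻¹ z = o₁ ∨ π⁻¹ z = o₂ := apply_mem_pair ho hπinv hz
        rw [if_pos h1, if_pos hz]
      · push Not at hz
        have h1 : π⁻¹ z ≠ o₁ ∧ π⁻¹ z ≠ o₂ := by
          constructor <;> intro h <;> have h' := congrArg (π ·) h <;> simp only [apply_inv] at h' <;>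
            [rcases apply_mem_pair ho hπ (Or.inl (rfl : o₁ = o₁)) with h'' | h'';
             rcases apply_mem_pair ho hπ (Or.inr (rfl : o₂ = o₂)) with h'' | h''] <;>
            rw [h''] at h'
          exacts [hz.1 h', hz.2 h', hz.1 h', hz.2 h']
        rw [if_neg (not_or.2 h1), if_neg (not_or.2 hz)]
    have he : r * e0 o₁ o₂ * r⁻¹ = e0 o₁ o₂ := D.inj (((hract _ e0_mem).2).symm.trans he0)
    rw [e0, show r * (Wm.bs (outVec o₁ o₂) * Wm.pm (swap o₁ o₂)) * r⁻¹ =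
      r * Wm.bs (outVec o₁ o₂) * r⁻¹ * (r * Wm.pm (swap o₁ o₂) * r⁻¹) by group, hout] at he
    exact mul_left_cancel he
  have hbs : ∀ v : Vec Ω, v o₁ = v o₂ → T * D.b v * T⁻¹ = D.b (pe π v) := fun v hv => by
    have h := (hract _ (bs_mem_blkS hv)).2
    rw [Wm.conj_bs] at h
    exact h
  -- it moves a point outside
  obtain ⟨i, hi1, hi2, hij⟩ : ∃ i, i ≠ o₁ ∧ i ≠ o₂ ∧ π i ≠ i := by
    by_contra! hall
    obtain ⟨x, hx, hxT⟩ := hmove
    obtain ⟨hv, hx' | hx'⟩ := blkS_cases hx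
    all_goals
      have hvfix : pe π (Wm.vec x) = Wm.vec x := funext fun z => by
        rw [pe_apply]
        by_cases hz : z = o₁ ∨ z = o₂
        · rcases apply_mem_pair ho hπinv hz with h | h <;> rw [h] <;> rcases hz with rfl | rfl <;>
            first | rfl | exact hv | exact hv.symm
        · push Not at hz
          rw [Perm.inv_eq_iff_eq.2 (hall z hz.1 hz.2).symm]
      apply hxT
      rw [(hract x hx).2]
      refine congrArg D.φ ?_
      conv_lhs => rw [hx']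
      conv_rhs => rw [hx']
    · rw [Wm.conj_bs]; exact congrArg Wm.bs hvfix
    · rw [show r * (Wm.bs (Wm.vec x) * Wm.pm (swap o₁ o₂)) * r⁻¹ =
        r * Wm.bs (Wm.vec x) * r⁻¹ * (r * Wm.pm (swap o₁ o₂) * r⁻¹) by group, hσ, Wm.conj_bs]
      exact congrArg (fun v => Wm.bs v * Wm.pm (swap o₁ o₂)) hvfix
  have hev : ∀ z, z ≠ o₁ → z ≠ o₂ → (ev z : Vec Ω) o₁ = ev z o₂ := fun z h1 h2 => by
    simp [ev_apply, h1.symm, h2.symm]
  have hcomm : ∀ a b, a ≠ o₁ → a ≠ o₂ → b ≠ o₁ → b ≠ o₂ → π b = swap a b (π a) := by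
    intro a b ha1 ha2 hb1 hb2
    have h := hS a b ha1 ha2 hb1 hb2 _ (bs_mem_blkS (hev a ha1 ha2))
    rw [show T * D.φ (Wm.bs (ev a)) * T⁻¹ = D.b (pe π (ev a)) from hbs _ (hev a ha1 ha2), D.toData.conj_b,
      show D.φ (Wm.bs (ev a)) = D.b (ev a) from rfl, D.toData.conj_b, Wm.prm_pm, pe_ev, pe_ev, pe_ev, swap_apply_left,
      hbs _ (hev b hb1 hb2), pe_ev] at h
    by_contra hne
    have h1 := congrFun (D.toData.b_injective h) (π b)
    simp [ev_apply, hne] at h1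
  obtain ⟨hj1, hj2⟩ := hpres i hi1 hi2
  have hji : π (π i) = i := by
    have h := hcomm i (π i) hi1 hi2 hj1 hj2
    rwa [swap_apply_right] at h
  have hall : ∀ k, k = o₁ ∨ k = o₂ ∨ k = i ∨ k = π i := by
    intro k
    by_contra hk
    push Not at hk
    have h := hcomm i k hi1 hi2 hk.1 hk.2.1
    rw [swap_apply_of_ne_of_ne hij (fun e => hk.2.2.2 e.symm)] at h
    exact hk.2.2.1 (π.injective h)
  refine ⟨i, π i, Ne.symm hij, hi1, hi2, hj1, hj2, hall, fun x hx => ?_⟩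
  rw [(hract x hx).2]
  refine congrArg D.φ ?_
  obtain ⟨hv, hx' | hx'⟩ := blkS_cases hx
  all_goals
    have hvec : pe π (Wm.vec x) = pe (swap i (π i)) (Wm.vec x) := funext fun z => by
      rw [pe_apply, pe_apply, Perm.inv_def (swap i (π i)), symm_swap]
      rcases hall z with rfl | rfl | rfl | rfl
      · rw [swap_apply_of_ne_of_ne (Ne.symm hi1) (Ne.symm hj1)]
        rcases apply_mem_pair ho hπinv (Or.inl rfl) with h | h <;> rw [h]
        exact hv.symm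
      · rw [swap_apply_of_ne_of_ne (Ne.symm hi2) (Ne.symm hj2)]
        rcases apply_mem_pair ho hπinv (Or.inr rfl) with h | h <;> rw [h]
        exact hv
      · rw [swap_apply_left, Perm.inv_eq_iff_eq.2 hji.symm]
      · rw [swap_apply_right, inv_apply]
    conv_lhs => rw [hx']
    conv_rhs => rw [hx']
  · rw [Wm.conj_bs, Wm.conj_bs, Wm.prm_pm]; exact congrArg Wm.bs hvec
  · have hsc : Wm.pm (swap i (π i)) * Wm.pm (swap o₁ o₂) * (Wm.pm (swap i (π i)))⁻¹ = Wm.pm (swap o₁ o₂) := by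
      rw [← Wm.pm_mul, swap_disjoint_comm hi1 hi2 hj1 hj2, Wm.pm_mul, mul_inv_cancel_right]
    rw [show r * (Wm.bs (Wm.vec x) * Wm.pm (swap o₁ o₂)) * r⁻¹ =
      r * Wm.bs (Wm.vec x) * r⁻¹ * (r * Wm.pm (swap o₁ o₂) * r⁻¹) by group, hσ,
      show Wm.pm (swap i (π i)) * (Wm.bs (Wm.vec x) * Wm.pm (swap o₁ o₂)) * (Wm.pm (swap i (π i)))⁻¹ =
      Wm.pm (swap i (π i)) * Wm.bs (Wm.vec x) * (Wm.pm (swap i (π i)))⁻¹ *
        (Wm.pm (swap i (π i)) * Wm.pm (swap o₁ o₂) * (Wm.pm (swap i (π i)))⁻¹) by group, hsc, Wm.conj_bs, Wm.conj_bs,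
      Wm.prm_pm]
    exact congrArg (fun v => Wm.bs v * Wm.pm (swap o₁ o₂)) hvec

/-- **the transvection moving `t`** fixes `σ` and the outside vectors and sends `u` to `u σ` -/
theorem moving_case (ho : o₁ ≠ o₂) (h4 : 4 ≤ Fintype.card Ω) {T : G} {c : Wm Ω}
    (htr : ∀ x ∈ blkS o₁ o₂, T * D.φ x * T⁻¹ = D.φ x ∨ T * D.φ x * T⁻¹ = D.φ (x * c))
    (hc : c ∈ blkS o₁ o₂) (hc1 : c ≠ 1)
    (he0 : T * D.φ (e0 o₁ o₂) * T⁻¹ = D.φ (e0 o₁ o₂))
    (hS : ∀ i j, i ≠ o₁ → i ≠ o₂ → j ≠ o₁ → j ≠ o₂ → ∀ x ∈ blkS o₁ o₂,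
      T * (D.φ (Wm.pm (swap i j)) * D.φ x * (D.φ (Wm.pm (swap i j)))⁻¹) * T⁻¹ =
        D.φ (Wm.pm (swap i j)) * (T * D.φ x * T⁻¹) * (D.φ (Wm.pm (swap i j)))⁻¹)
    (hmove : T * D.t * T⁻¹ ≠ D.t) :
    T * D.φ (Wm.pm (swap o₁ o₂)) * T⁻¹ = D.φ (Wm.pm (swap o₁ o₂)) ∧
      T * D.b (pairVec o₁ o₂) * T⁻¹ = D.φ (Wm.bs (pairVec o₁ o₂) * Wm.pm (swap o₁ o₂)) ∧
      ∀ v : Vec Ω, v o₁ = 0 → v o₂ = 0 → T * D.b v * T⁻¹ = D.b v := by
  classical
  have hN1 : D.Norm1 o₁ o₂ T := fun x hx =>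
    (htr x hx).elim (fun h => ⟨x, hx, h⟩) fun h => ⟨x * c, mul_mem hx hc, h⟩
  -- the functional
  let f : Wm Ω → ZMod 2 := fun x => if T * D.φ x * T⁻¹ = D.φ x then 0 else 1
  have hf : ∀ x ∈ blkS o₁ o₂, T * D.φ x * T⁻¹ = D.φ (x * if f x = 1 then c else 1) := fun x hx => by
    simp only [f]
    split_ifs with h h' h'
    · exact absurd h' zero_ne_one
    · rw [mul_one]; exact h
    · exact (htr x hx).resolve_left h
    · exact absurd rfl h'
  have hff : ∀ x ∈ blkS o₁ o₂, ∀ z, T * D.φ x * T⁻¹ = D.φ (x * if z = 1 then c else 1) → f x = (z : ZMod 2) := by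
    intro x hx z hz
    have h := mul_left_cancel (D.inj ((hf x hx).symm.trans hz))
    rcases z2_cases (f x) with h1 | h1 <;> rcases z2_cases z with rfl | rfl <;> rw [h1] at h ⊢ <;>
      simp only [zero_ne_one, if_false, if_true] at h
    · exact absurd h.symm hc1
    · exact absurd h hc1
  have hfmul : ∀ x ∈ blkS o₁ o₂, ∀ y ∈ blkS o₁ o₂, f (x * y) = f x + f y := fun x hx y hy => by
    refine hff _ (mul_mem hx hy) _ ?_
    rw [map_mul, show T * (D.φ x * D.φ y) * T⁻¹ = T * D.φ x * T⁻¹ * (T * D.φ y * T⁻¹) by group, hf x hx, hf y hy,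
      ← map_mul]
    refine congrArg D.φ ?_
    have hcy := Wm.blk_comm _ hc hy
    rcases z2_cases (f x) with h1 | h1 <;> rcases z2_cases (f y) with h2 | h2 <;> rw [h1, h2] <;>
      simp only [add_zero, zero_add, zero_ne_one, if_false, if_true, mul_one, z2_add_self]
    · rw [mul_assoc]
    · rw [mul_assoc, hcy, ← mul_assoc]
    · rw [mul_assoc, ← mul_assoc c y c, hcy, mul_assoc y c c, Wm.blk_sq _ hc, mul_one]
  have hfc : f c = 0 := by
    refine (z2_cases _).resolve_right fun h => ?_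
    have h' := hf c hc
    rw [if_pos h, Wm.blk_sq _ hc, map_one] at h'
    exact hc1 (D.inj ((conj_eq_one_iff.1 h').trans (map_one D.φ).symm))
  -- invariance under the outside transpositions
  have hswapmem : ∀ {i j}, i ≠ o₁ → i ≠ o₂ → j ≠ o₁ → j ≠ o₂ → ∀ x ∈ blkS o₁ o₂,
      Wm.pm (swap i j) * x * (Wm.pm (swap i j))⁻¹ ∈ blkS o₁ o₂ := fun hi1 hi2 hj1 hj2 x hx =>
    Wm.conj_mem_blk _ _ (by rw [swap_disjoint_comm hi1 hi2 hj1 hj2, mul_inv_cancel_right]) hx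
  have hinv : ∀ {i j}, i ≠ o₁ → i ≠ o₂ → j ≠ o₁ → j ≠ o₂ → ∀ x ∈ blkS o₁ o₂,
      f (Wm.pm (swap i j) * x * (Wm.pm (swap i j))⁻¹) = f x ∧
        (f x = 1 → Wm.pm (swap i j) * c * (Wm.pm (swap i j))⁻¹ = c) := by
    intro i j hi1 hi2 hj1 hj2 x hx
    have h := hS i j hi1 hi2 hj1 hj2 x hx
    rw [hf x hx, ← map_inv, ← map_mul, ← map_mul, hf _ (hswapmem hi1 hi2 hj1 hj2 x hx), ← map_mul, ← map_mul] at h
    have h' := D.inj h
    set s := Wm.pm (swap i j) with hs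
    rw [show s * (x * if f x = 1 then c else 1) * s⁻¹ = s * x * s⁻¹ * (s * (if f x = 1 then c else 1) * s⁻¹) by group]
      at h'
    have h'' := mul_left_cancel h'
    rcases z2_cases (f x) with h1 | h1 <;> rcases z2_cases (f (s * x * s⁻¹)) with h2 | h2 <;> rw [h1, h2] at h'' <;>
      simp only [zero_ne_one, if_false, if_true, mul_one, mul_inv_cancel] at h''
    · exact ⟨by rw [h1, h2], fun h => by simp [h1] at h⟩
    · exact absurd h'' hc1
    · exact absurd (conj_eq_one_iff.1 h''.symm) hc1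
    · exact ⟨by rw [h1, h2], fun _ => h''.symm⟩
  have hev : ∀ z, z ≠ o₁ → z ≠ o₂ → Wm.bs (ev z) ∈ blkS o₁ o₂ := fun z h1 h2 =>
    bs_mem_blkS (by simp [ev_apply, h1.symm, h2.symm])
  obtain ⟨q, -, hq⟩ := exists_mem_notMem_of_card_lt_card (s := ({o₁, o₂} : Finset Ω)) (t := univ)
    (by rw [card_pair ho, card_univ]; omega)
  simp only [mem_insert, mem_singleton, not_or] at hq
  obtain ⟨hq1, hq2⟩ := hq
  obtain ⟨δ, hδ⟩ : ∃ δ, f (Wm.bs (ev q)) = δ := ⟨_, rfl⟩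
  have hfev : ∀ z, z ≠ o₁ → z ≠ o₂ → f (Wm.bs (ev z)) = δ := fun z h1 h2 => by
    rw [← hδ, ← (hinv hq1 hq2 h1 h2 _ (hev q hq1 hq2)).1]
    refine congrArg f ?_
    rw [Wm.conj_bs]
    exact congrArg Wm.bs (by rw [show (fun l => ev q ((Wm.prm (Wm.pm (swap q z)))⁻¹ l)) = pe (swap q z) (ev q) from rfl,
      pe_ev, swap_apply_left])
  have hf0 : f (Wm.bs 0) = 0 := by
    have h := hfmul _ (one_mem _) _ (one_mem _)
    rw [one_mul] at h
    rw [Wm.bs_zero]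
    exact left_eq_add.1 h
  have hfv : ∀ v : Vec Ω, v o₁ = 0 → v o₂ = 0 → f (Wm.bs v) = δ * ∑ i, v i := by
    intro v hv1 hv2
    have key : ∀ s : Finset Ω, (∑ i ∈ s, v i • ev i : Vec Ω) o₁ = (∑ i ∈ s, v i • ev i : Vec Ω) o₂ ∧
        f (Wm.bs (∑ i ∈ s, v i • ev i)) = δ * ∑ i ∈ s, v i := by
      intro s
      induction s using Finset.induction_on with
      | empty => simp [hf0]
      | insert a s ha ih =>
        rw [sum_insert ha, sum_insert ha]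
        rcases z2_cases (v a) with h | h <;> rw [h]
        · rw [zero_smul, zero_add, zero_add]; exact ih
        · have ha1 : a ≠ o₁ := fun e => by rw [e, hv1] at h; exact zero_ne_one h
          have ha2 : a ≠ o₂ := fun e => by rw [e, hv2] at h; exact zero_ne_one h
          rw [one_smul, Wm.bs_add, hfmul _ (hev a ha1 ha2) _ (bs_mem_blkS ih.1), ih.2, hfev a ha1 ha2, mul_add, mul_one]
          refine ⟨?_, rfl⟩
          simp only [Pi.add_apply, ih.1]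
          simp [ev_apply, ha1.symm, ha2.symm]
    conv_lhs => rw [sum_ev_smul v]
    exact (key univ).2
  have hout_sum : ∑ i, outVec o₁ o₂ i = 0 := by
    rw [show outVec o₁ o₂ = 1 + pairVec o₁ o₂ by
      funext i
      rcases eq_or_ne i o₁ with rfl | h1
      · simp [outVec, pairVec_left ho, z2_add_self]
      rcases eq_or_ne i o₂ with rfl | h2
      · simp [outVec, pairVec_right ho, z2_add_self]
      · simp [outVec, pairVec_of_ne h1 h2, h1, h2]]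
    simp only [Pi.add_apply, sum_add_distrib, pairVec, sum_ev, z2_add_self, add_zero]
    exact sum_one D.even_card
  have hfout : f (Wm.bs (outVec o₁ o₂)) = 0 := by
    rw [hfv _ (by simp [outVec]) (by simp [outVec]), hout_sum, mul_zero]
  have houtmem : Wm.bs (outVec o₁ o₂) ∈ blkS o₁ o₂ := bs_mem_blkS (by simp [outVec])
  have hfσ : f (Wm.pm (swap o₁ o₂)) = 0 := by
    have h0 : f (e0 o₁ o₂) = 0 := hff _ e0_mem 0 (by rw [if_neg zero_ne_one, mul_one]; exact he0)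
    rwa [e0, hfmul _ houtmem _ pm_swap_mem_blkS, hfout, zero_add] at h0
  have htm : Wm.tm Ω = Wm.bs (pairVec o₁ o₂) * Wm.bs (outVec o₁ o₂) := by
    rw [← Wm.bs_add]
    refine congrArg Wm.bs (funext fun i => ?_)
    rcases eq_or_ne i o₁ with rfl | h1
    · simp [outVec, pairVec_left ho]
    rcases eq_or_ne i o₂ with rfl | h2
    · simp [outVec, pairVec_right ho]
    · simp [outVec, pairVec_of_ne h1 h2, h1, h2]
  have hft : f (Wm.tm Ω) = 1 := (z2_cases _).resolve_left fun h => hmove (by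
    have h' := hf _ (Wm.tm_mem_blk _ : Wm.tm Ω ∈ blkS o₁ o₂)
    rwa [h, if_neg zero_ne_one, mul_one] at h')
  have hfu : f (Wm.bs (pairVec o₁ o₂)) = 1 := by
    rwa [htm, hfmul _ (bs_pairVec_mem ho) _ houtmem, hfout, add_zero] at hft
  -- the centre
  have hcK : ∀ i, i ≠ o₁ → i ≠ o₂ → Wm.vec c i = Wm.vec c q := fun i h1 h2 => by
    have h := (hinv hq1 hq2 h1 h2 _ (bs_pairVec_mem ho)).2 hfu
    have h' := congrFun (congrArg Wm.vec h) i
    simp [Wm.vec_mul, Wm.vec_inv] at h'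
    exact h'.symm
  obtain ⟨hcv, hcc⟩ := blkS_cases hc
  set v := Wm.vec c with hvdef
  have hvdec : v = v o₁ • pairVec o₁ o₂ + v q • outVec o₁ o₂ := by
    funext i
    rcases eq_or_ne i o₁ with rfl | h1
    · simp [pairVec_left ho, outVec]
    rcases eq_or_ne i o₂ with rfl | h2
    · simp [pairVec_right ho, outVec, hcv]
    · simp [pairVec_of_ne h1 h2, outVec, h1, h2, hcK i h1 h2]
  have hvmem : Wm.bs v ∈ blkS o₁ o₂ := bs_mem_blkS hcv
  have hfbsv : f (Wm.bs v) = v o₁ := by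
    conv_lhs => rw [hvdec, Wm.bs_add]
    rw [hfmul _ (bs_mem_blkS (by simp [pairVec_left ho, pairVec_right ho])) _ (bs_mem_blkS (by simp [outVec]))]
    rcases z2_cases (v o₁) with h | h <;> rcases z2_cases (v q) with h' | h' <;>
      simp [h, h', hf0, hfu, hfout]
  have hβ : v o₁ = 0 := by
    rcases hcc with h | h <;> rw [h] at hfc
    · rwa [hfbsv] at hfc
    · rwa [hfmul _ hvmem _ pm_swap_mem_blkS, hfσ, add_zero, hfbsv] at hfc
  have hv : v = v q • outVec o₁ o₂ := by rw [hvdec, hβ, zero_smul, zero_add]; simp [outVec, hq1, hq2]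
  have htc : T * D.t * T⁻¹ = D.φ (Wm.tm Ω * c) := by
    have h := hf _ (Wm.tm_mem_blk _ : Wm.tm Ω ∈ blkS o₁ o₂)
    rwa [hft, if_pos rfl] at h
  have hcσ : c = Wm.pm (swap o₁ o₂) := by
    rcases z2_cases (v q) with hγ | hγ
    · rw [hγ, zero_smul] at hv
      rcases hcc with h | h <;> rw [hv, Wm.bs_zero] at h
      · exact absurd h hc1
      · rwa [one_mul] at h
    · exfalso
      rw [hγ, one_smul] at hv
      rw [hv] at hcc
      rcases hcc with h | h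
      · -- the block vector is not fused with `t`
        rw [h, htm, mul_assoc (Wm.bs (pairVec o₁ o₂)), Wm.blk_sq _ houtmem, mul_one] at htc
        obtain ⟨k, hk⟩ := D.exists_op_of_conj htc
        have h1 := congrFun (congrArg ext hk)
        have h2 := h1 (some q)
        have h3 := h1 none
        rw [ext_op D.even_card] at h2 h3
        rw [ext_pairVec ho (k := none) (mem_restPts.2 ⟨by simp, by simp⟩)] at h3
        rw [ext_pairVec ho (k := some q) (mem_restPts.2 ⟨by simp [hq1], by simp [hq2]⟩)] at h2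
        by_cases hk0 : k = none
        · subst hk0; simp at h2
        · simp [Ne.symm hk0] at h3
      · -- nor is its product with the block transposition
        have he' : Wm.tm Ω * c = Wm.bs (pairVec o₁ o₂) * Wm.pm (swap o₁ o₂) := by
          rw [h, htm, mul_assoc, ← mul_assoc (Wm.bs (outVec o₁ o₂)) (Wm.bs (outVec o₁ o₂)), Wm.blk_sq _ houtmem,
            one_mul]
        have H : Carry D o₁ o₂ T⁻¹ (swap o₁ o₂) (swap_mul_self _ _) (Wm.tm Ω * c) :=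
          ⟨D.norm1_inv hN1, fun a ha => (hN1 a ha).elim fun x hx => ⟨x, hx.1, by rw [← hx.2]; group⟩,
            mul_mem (Wm.tm_mem_blk _) hc, by rw [← htc]; group⟩
        have hz : ∀ l ∈ restPts o₁ o₂, ext (Wm.vec (Wm.tm Ω * c)) l = 0 := fun l hl => by
          rw [show Wm.vec (Wm.tm Ω * c) = pairVec o₁ o₂ by
            rw [he', vec_mul_blkS (bs_pairVec_mem ho) pm_swap_mem_blkS, Wm.vec_bs, Wm.vec_pm, add_zero],
            ext_pairVec ho hl]
        have h1 : cls o₁ o₂ (Wm.tm Ω * c) 1 = ∅ := filter_eq_empty_iff.2 fun l hl => by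
          rw [hz l hl]; exact zero_ne_one
        have h0 : cls o₁ o₂ (Wm.tm Ω * c) 0 = restPts o₁ o₂ := filter_eq_self.2 hz
        have := card_restPts ho
        rcases D.classes_cases H ho (swap_ne_one ho) h4 with ⟨h2, -, -⟩ | ⟨h2, -⟩
        · rw [h1, card_empty] at h2; omega
        · rw [h0] at h2; omega
  -- the functional vanishes outside
  have hδ0 : δ = 0 := by
    refine (z2_cases δ).resolve_right fun hδ1 => ?_
    subst hδ1
    obtain ⟨r, -, hr⟩ := exists_mem_notMem_of_card_lt_card (s := ({o₁, o₂, q} : Finset Ω)) (t := univ)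
      (by rw [card_univ]; exact lt_of_le_of_lt (card_le_three) (by omega))
    simp only [mem_insert, mem_singleton, not_or] at hr
    obtain ⟨hr1, hr2, hrq⟩ := hr
    -- conjugates by transpositions with the extra point
    let Tz : Ω → G := fun z => D.s (swap none (some z)) * T * (D.s (swap none (some z)))⁻¹
    have hTz : ∀ z, z ≠ o₁ → z ≠ o₂ → ∀ w : Vec Ω, w o₁ = w o₂ →
        Tz z * D.b w * (Tz z)⁻¹ =
          D.φ (Wm.bs w * if f (Wm.bs (peE (swap none (some z)) w)) = 1 then c else 1) := by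
      intro z hz1 hz2 w hw
      have hf1 : swap none (some z) (some o₁) = some o₁ :=
        swap_apply_of_ne_of_ne (Option.some_ne_none _) (by simp [Ne.symm hz1])
      have hf2 : swap none (some z) (some o₂) = some o₂ :=
        swap_apply_of_ne_of_ne (Option.some_ne_none _) (by simp [Ne.symm hz2])
      have hss : D.s (swap none (some z)) * D.s (swap none (some z)) = 1 := by
        rw [← map_mul, swap_mul_self, map_one]
      have hsb : (D.s (swap none (some z)))⁻¹ * D.b w * D.s (swap none (some z)) =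
          D.φ (Wm.bs (peE (swap none (some z)) w)) := by
        rw [inv_eq_of_mul_eq_one_right hss]
        conv_lhs => arg 2; rw [← inv_eq_of_mul_eq_one_right hss]
        exact D.s_conj _ w
      have hpp : peE (swap none (some z)) (peE (swap none (some z)) w) = w := by
        rw [← Perm.mul_apply, ← map_mul, swap_mul_self, map_one]; rfl
      rw [show Tz z * D.b w * (Tz z)⁻¹ = D.s (swap none (some z)) *
        (T * ((D.s (swap none (some z)))⁻¹ * D.b w * D.s (swap none (some z))) * T⁻¹) *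
          (D.s (swap none (some z)))⁻¹ by simp only [Tz]; group, hsb, hf _ (bs_mem_blkS (peE_fix hf1 hf2 hw)),
        map_mul, map_mul, show ∀ A B : G, D.s (swap none (some z)) * (A * B) * (D.s (swap none (some z)))⁻¹ =
          D.s (swap none (some z)) * A * (D.s (swap none (some z)))⁻¹ *
            (D.s (swap none (some z)) * B * (D.s (swap none (some z)))⁻¹) from fun A B => by group,
        D.s_conj, hpp]
      congr 1
      split_ifs
      · rw [hcσ, D.s_fix_swap hf1 hf2, mul_inv_cancel_right]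
      · rw [map_one, mul_one, mul_inv_cancel]
    have hTzσ : ∀ z, z ≠ o₁ → z ≠ o₂ → Tz z * D.φ c * (Tz z)⁻¹ = D.φ c := by
      intro z hz1 hz2
      have hf1 : swap none (some z) (some o₁) = some o₁ :=
        swap_apply_of_ne_of_ne (Option.some_ne_none _) (by simp [Ne.symm hz1])
      have hf2 : swap none (some z) (some o₂) = some o₂ :=
        swap_apply_of_ne_of_ne (Option.some_ne_none _) (by simp [Ne.symm hz2])
      have hcs : D.s (swap none (some z)) * D.φ c = D.φ c * D.s (swap none (some z)) := by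
        rw [hcσ]; exact D.s_fix_swap hf1 hf2
      have hTc : T * D.φ c * T⁻¹ = D.φ c := by
        have h := hf c hc
        rwa [hfc, if_neg zero_ne_one, mul_one] at h
      calc Tz z * D.φ c * (Tz z)⁻¹ = D.s (swap none (some z)) * (T * ((D.s (swap none (some z)))⁻¹ *
            (D.φ c * D.s (swap none (some z)))) * T⁻¹) * (D.s (swap none (some z)))⁻¹ := by simp only [Tz]; group
        _ = D.φ c := by rw [← hcs, inv_mul_cancel_left, hTc, hcs, mul_inv_cancel_right]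
    -- both fix `t` up to the centre
    have hft' : ∀ z, z ≠ o₁ → z ≠ o₂ → f (Wm.bs (peE (swap none (some z)) 1)) = 0 := by
      intro z hz1 hz2
      rw [peE_swap_eq none (some z) (by simp), show ext (1 : Vec Ω) none = 0 from sum_one D.even_card,
        show ext (1 : Vec Ω) (some z) = 1 from rfl, zero_add, one_smul,
        show vT ({none, some z} : Finset (Option Ω)) = ev z by funext i; simp [vT, ev_apply],
        Wm.bs_add, hfmul (Wm.bs (1 : Vec Ω)) (Wm.tm_mem_blk _) (Wm.bs (ev z)) (hev z hz1 hz2), hfev z hz1 hz2,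
        show f (Wm.bs (1 : Vec Ω)) = 1 from hft, z2_add_self]
    have hPt : Tz q * Tz r * D.t * (Tz q * Tz r)⁻¹ = D.t := by
      have h1 : Tz r * D.t * (Tz r)⁻¹ = D.t := by
        rw [← D.toData.b_one, hTz r hr1 hr2 1 rfl, hft' r hr1 hr2, if_neg zero_ne_one, mul_one]
        rfl
      have h2 : Tz q * D.t * (Tz q)⁻¹ = D.t := by
        rw [← D.toData.b_one, hTz q hq1 hq2 1 rfl, hft' q hq1 hq2, if_neg zero_ne_one, mul_one]
        rfl
      rw [show Tz q * Tz r * D.t * (Tz q * Tz r)⁻¹ = Tz q * (Tz r * D.t * (Tz r)⁻¹) * (Tz q)⁻¹ by group, h1, h2]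
    have hq' : (ev q : Vec Ω) o₁ = ev q o₂ := by simp [ev_apply, Ne.symm hq1, Ne.symm hq2]
    have hPq : Tz q * Tz r * D.b (ev q) * (Tz q * Tz r)⁻¹ = D.φ (Wm.bs (ev q) * c) := by
      have e1 : peE (swap none (some q)) (ev q) = (ev q : Vec Ω) := by
        rw [peE_swap_eq none (some q) (by simp), show ext (ev q) none = 1 from sum_ev q,
          show ext (ev q) (some q) = ev q q from rfl, ev_apply, if_pos rfl, z2_add_self, zero_smul, add_zero]
      have e2 : peE (swap none (some r)) (ev q) = (ev q + ev r : Vec Ω) := by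
        rw [peE_swap_eq none (some r) (by simp), show ext (ev q) none = 1 from sum_ev q,
          show ext (ev q) (some r) = ev q r from rfl, ev_apply, if_neg hrq, add_zero, one_smul,
          show vT ({none, some r} : Finset (Option Ω)) = ev r by funext i; simp [vT, ev_apply]]
      have h1 : Tz r * D.b (ev q) * (Tz r)⁻¹ = D.b (ev q) := by
        rw [hTz r hr1 hr2 _ hq', e2, Wm.bs_add, hfmul _ (hev q hq1 hq2) _ (hev r hr1 hr2), hfev q hq1 hq2,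
          hfev r hr1 hr2, z2_add_self, if_neg zero_ne_one, mul_one]
        rfl
      have h2 : Tz q * D.b (ev q) * (Tz q)⁻¹ = D.φ (Wm.bs (ev q) * c) := by
        rw [hTz q hq1 hq2 _ hq', e1, hfev q hq1 hq2, if_pos rfl]
      rw [show Tz q * Tz r * D.b (ev q) * (Tz q * Tz r)⁻¹ = Tz q * (Tz r * D.b (ev q) * (Tz r)⁻¹) * (Tz q)⁻¹ by group,
        h1, h2]
    have hct := mul_inv_eq_iff_eq_mul.1 hPt
    have h := congrArg (fun z => Wm.prm (D.ρ z)) (show (⟨Tz q * Tz r, Subgroup.mem_centralizer_singleton_iff.2 hct⟩ *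
      ⟨D.φ (Wm.bs (ev q)), D.toData.phi_mem _⟩ * ⟨Tz q * Tz r, Subgroup.mem_centralizer_singleton_iff.2 hct⟩⁻¹ :
        Subgroup.centralizer ({D.φ (Wm.tm Ω)} : Set G)) = ⟨D.φ (Wm.bs (ev q) * c), D.toData.phi_mem _⟩ from
      Subtype.ext hPq)
    rw [map_mul D.ρ, map_mul D.ρ, map_inv D.ρ, D.toData.retr', D.toData.retr'] at h
    simp only [Wm.prm_mul, Wm.prm_inv, Wm.prm_bs, mul_one, mul_inv_cancel, one_mul, hcσ, Wm.prm_pm] at h
    exact swap_ne_one ho h.symm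
  refine ⟨?_, ?_, fun w hw1 hw2 => ?_⟩
  · have h := hf _ (pm_swap_mem_blkS (o₁ := o₁) (o₂ := o₂))
    rwa [hfσ, if_neg zero_ne_one, mul_one] at h
  · have h := hf _ (bs_pairVec_mem ho)
    rwa [hfu, if_pos rfl, hcσ] at h
  · have h := hf _ (bs_mem_blkS (show w o₁ = w o₂ by rw [hw1, hw2]))
    rwa [hfv w hw1 hw2, hδ0, zero_mul, if_neg zero_ne_one, mul_one] at h

/-- **the triality element** -/
theorem exists_triality (ho : o₁ ≠ o₂) (h4 : 4 ≤ Fintype.card Ω) :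
    ∃ d : G, d ^ 3 = 1 ∧
      d * D.φ (Wm.pm (swap o₁ o₂)) * d⁻¹ = D.b (pairVec o₁ o₂) ∧
      d * D.b (pairVec o₁ o₂) * d⁻¹ = D.φ (Wm.bs (pairVec o₁ o₂) * Wm.pm (swap o₁ o₂)) ∧
      ∀ v : Vec Ω, v o₁ = 0 → v o₂ = 0 → d * D.b v * d⁻¹ = D.b v := by
  classical
  obtain ⟨h, hn, hh⟩ := D.exists_move ho h4
  obtain ⟨T, hTσ, hTu, hTv⟩ : ∃ T : G, T * D.φ (Wm.pm (swap o₁ o₂)) * T⁻¹ = D.φ (Wm.pm (swap o₁ o₂)) ∧
      T * D.b (pairVec o₁ o₂) * T⁻¹ = D.φ (Wm.bs (pairVec o₁ o₂) * Wm.pm (swap o₁ o₂)) ∧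
      ∀ v : Vec Ω, v o₁ = 0 → v o₂ = 0 → T * D.b v * T⁻¹ = D.b v := by
    have hu1 : Wm.bs (pairVec o₁ o₂) ≠ 1 := fun e => by
      have h1 := congrFun (Wm.bs_injective (e.trans Wm.bs_zero.symm)) o₁
      rw [pairVec_left ho] at h1
      exact one_ne_zero h1
    have htr1 : ∀ x ∈ blkS o₁ o₂, Wm.bs (ev o₁) * x * (Wm.bs (ev o₁))⁻¹ = x ∨
        Wm.bs (ev o₁) * x * (Wm.bs (ev o₁))⁻¹ = x * Wm.bs (pairVec o₁ o₂) := fun x hx => by
      have h := conj_bs_ev hx o₁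
      rwa [swap_apply_left] at h
    have hmove1 : Wm.bs (ev o₁) * Wm.pm (swap o₁ o₂) * (Wm.bs (ev o₁))⁻¹ ≠ Wm.pm (swap o₁ o₂) := fun e => by
      have h1 := congrFun (congrArg Wm.vec e) o₁
      simp [Wm.vec_mul, Wm.vec_inv, ev_apply, ho.symm] at h1
    have hcomm1 : ∀ r : Wm Ω, (∀ x ∈ blkS o₁ o₂, r * x * r⁻¹ ∈ blkS o₁ o₂) →
        Wm.bs (ev o₁) * r * (Wm.bs (ev o₁))⁻¹ * r⁻¹ ∈ blkS o₁ o₂ := fun r hr => by
      rw [show Wm.bs (ev o₁) * r * (Wm.bs (ev o₁))⁻¹ * r⁻¹ = Wm.bs (ev o₁) * (r * (Wm.bs (ev o₁))⁻¹ * r⁻¹) by group,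
        Wm.bs_inv, Wm.conj_bs, show (fun i => ev o₁ ((Wm.prm r)⁻¹ i)) = pe (Wm.prm r) (ev o₁) from rfl, pe_ev,
        ← Wm.bs_add]
      refine bs_mem_blkS ?_
      rcases apply_mem_pair ho (prm_comm_of_normal ho hr) (i := o₁) (Or.inl rfl) with e | e <;> rw [e]
      · simp [z2_add_self]
      · simp [ev_apply, ho, ho.symm]
    obtain ⟨c, hc, hc1, htr, hmv, he0, hS⟩ :=
      D.exists_pulled h hn hh (bs_pairVec_mem ho) hu1 htr1 pm_swap_mem_blkS hmove1 hcomm1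
    by_cases hfix : h⁻¹ * D.φ (Wm.bs (ev o₁)) * h * D.t * (h⁻¹ * D.φ (Wm.bs (ev o₁)) * h)⁻¹ = D.t
    swap
    · exact ⟨_, D.moving_case ho h4 htr hc hc1 he0 hS hfix⟩
    obtain ⟨i, j, hij, hi1, hi2, hj1, hj2, hall, hT⟩ := D.fixed_case ho htr hc hmv he0 hS hfix
    -- the other transvection
    have hc₀mem : Wm.bs (ev i + ev j) ∈ blkS o₁ o₂ := bs_mem_blkS (by
      simp [ev_apply, Ne.symm hi1, Ne.symm hi2, Ne.symm hj1, Ne.symm hj2])
    have hc₀1 : Wm.bs (ev i + ev j) ≠ 1 := fun e => by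
      have h1 := congrFun (Wm.bs_injective (e.trans Wm.bs_zero.symm)) i
      simp [ev_apply, hij] at h1
    have hsc : Wm.pm (swap i j) * Wm.pm (swap o₁ o₂) * (Wm.pm (swap i j))⁻¹ = Wm.pm (swap o₁ o₂) := by
      rw [← Wm.pm_mul, swap_disjoint_comm hi1 hi2 hj1 hj2, Wm.pm_mul, mul_inv_cancel_right]
    have htr2 : ∀ x ∈ blkS o₁ o₂, Wm.pm (swap i j) * x * (Wm.pm (swap i j))⁻¹ = x ∨
        Wm.pm (swap i j) * x * (Wm.pm (swap i j))⁻¹ = x * Wm.bs (ev i + ev j) := by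
      intro x hx
      have hb : ∀ w : Vec Ω, Wm.pm (swap i j) * Wm.bs w * (Wm.pm (swap i j))⁻¹ =
          Wm.bs w * Wm.bs ((w i + w j) • (ev i + ev j)) := fun w => by
        rw [Wm.conj_bs, show (fun k => w ((Wm.prm (Wm.pm (swap i j)))⁻¹ k)) = pe (swap i j) w from rfl, pe_swap_eq,
          Wm.bs_add]
      obtain ⟨-, hx' | hx'⟩ := blkS_cases hx
      · have h1 := hb (Wm.vec x)
        rw [← hx'] at h1
        rcases z2_cases (Wm.vec x i + Wm.vec x j) with h' | h' <;> rw [h'] at h1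
        · exact Or.inl (by rw [h1, zero_smul, Wm.bs_zero, mul_one])
        · exact Or.inr (by rw [h1, one_smul])
      · have h1 : Wm.pm (swap i j) * x * (Wm.pm (swap i j))⁻¹ =
            Wm.bs (Wm.vec x) * Wm.bs ((Wm.vec x i + Wm.vec x j) • (ev i + ev j)) * Wm.pm (swap o₁ o₂) := by
          conv_lhs => rw [hx']
          rw [show Wm.pm (swap i j) * (Wm.bs (Wm.vec x) * Wm.pm (swap o₁ o₂)) * (Wm.pm (swap i j))⁻¹ =
            Wm.pm (swap i j) * Wm.bs (Wm.vec x) * (Wm.pm (swap i j))⁻¹ *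
              (Wm.pm (swap i j) * Wm.pm (swap o₁ o₂) * (Wm.pm (swap i j))⁻¹) by group, hsc, hb]
        rcases z2_cases (Wm.vec x i + Wm.vec x j) with h' | h' <;> rw [h'] at h1
        · exact Or.inl (by rw [h1, zero_smul, Wm.bs_zero, mul_one, ← hx'])
        · refine Or.inr ?_
          rw [h1, one_smul, mul_assoc, Wm.blk_comm _ hc₀mem pm_swap_mem_blkS, ← mul_assoc, ← hx']
    have hmove2 : Wm.pm (swap i j) * Wm.bs (ev i) * (Wm.pm (swap i j))⁻¹ ≠ Wm.bs (ev i) := fun e => by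
      rw [Wm.conj_bs] at e
      have h1 := congrFun (Wm.bs_injective e) i
      simp [ev_apply, hij.symm] at h1
    have hcomm2 : ∀ r : Wm Ω, (∀ x ∈ blkS o₁ o₂, r * x * r⁻¹ ∈ blkS o₁ o₂) →
        Wm.pm (swap i j) * r * (Wm.pm (swap i j))⁻¹ * r⁻¹ ∈ blkS o₁ o₂ := fun r hr => by
      have hπ := prm_comm_of_normal ho hr
      have hπinv : (Wm.prm r)⁻¹ * swap o₁ o₂ = swap o₁ o₂ * (Wm.prm r)⁻¹ := by
        rw [inv_mul_eq_iff_eq_mul, ← mul_assoc, hπ, mul_inv_cancel_right]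
      have hK : ∀ z, z = i ∨ z = j → Wm.prm r z = i ∨ Wm.prm r z = j := fun z hz => by
        rcases hall (Wm.prm r z) with h' | h' | h' | h'
        · exfalso
          have h'' := congrArg ((Wm.prm r)⁻¹ ·) h'
          simp only [inv_apply] at h''
          rcases apply_mem_pair ho hπinv (i := o₁) (Or.inl rfl) with e | e <;> rw [e] at h'' <;> subst h'' <;>
            rcases hz with hz | hz
          exacts [hi1 hz.symm, hj1 hz.symm, hi2 hz.symm, hj2 hz.symm]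
        · exfalso
          have h'' := congrArg ((Wm.prm r)⁻¹ ·) h'
          simp only [inv_apply] at h''
          rcases apply_mem_pair ho hπinv (i := o₂) (Or.inr rfl) with e | e <;> rw [e] at h'' <;> subst h'' <;>
            rcases hz with hz | hz
          exacts [hi1 hz.symm, hj1 hz.symm, hi2 hz.symm, hj2 hz.symm]
        · exact Or.inl h'
        · exact Or.inr h'
      have hsw : Wm.prm r * swap i j = swap i j * Wm.prm r := by
        rw [mul_swap_eq_swap_mul]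
        rcases hK i (Or.inl rfl) with e | e <;> rcases hK j (Or.inr rfl) with e' | e'
        · exact absurd ((Wm.prm r).injective (e.trans e'.symm)) hij
        · rw [e, e']
        · rw [e, e', swap_comm]
        · exact absurd ((Wm.prm r).injective (e.trans e'.symm)) hij
      have hprm : Wm.prm (Wm.pm (swap i j) * r * (Wm.pm (swap i j))⁻¹ * r⁻¹) = 1 := by
        simp only [Wm.prm_mul, Wm.prm_inv, Wm.prm_pm]
        rw [← hsw]; group
      rw [Wm.eq_bs_of_mem hprm]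
      refine bs_mem_blkS ?_
      have e3 : ∀ k, k = o₁ ∨ k = o₂ →
          Wm.vec (Wm.pm (swap i j) * r * (Wm.pm (swap i j))⁻¹ * r⁻¹) k = 0 := fun k hk => by
        have hne : k ≠ i ∧ k ≠ j := by
          rcases hk with rfl | rfl
          exacts [⟨Ne.symm hi1, Ne.symm hj1⟩, ⟨Ne.symm hi2, Ne.symm hj2⟩]
        rw [Wm.vec_mul, Wm.vec_mul, Wm.vec_mul]
        simp only [Wm.vec_pm, Wm.vec_inv, Wm.prm_mul, Wm.prm_inv, Wm.prm_pm, Pi.zero_apply, zero_add, add_zero,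
          mul_inv_rev, inv_inv, Perm.mul_apply, Perm.inv_def (swap i j), symm_swap]
        rw [swap_apply_of_ne_of_ne hne.1 hne.2]
        rw [show Wm.prm r (swap i j ((Wm.prm r)⁻¹ k)) = k by
          rw [← Perm.mul_apply, hsw, Perm.mul_apply, apply_inv, swap_apply_of_ne_of_ne hne.1 hne.2]]
        exact z2_add_self _
      rw [e3 o₁ (Or.inl rfl), e3 o₂ (Or.inr rfl)]
    have hei : Wm.bs (ev i) ∈ blkS o₁ o₂ := bs_mem_blkS (by simp [ev_apply, Ne.symm hi1, Ne.symm hi2])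
    obtain ⟨c', hc', hc'1, htr', hmv', he0', hS'⟩ :=
      D.exists_pulled h hn hh hc₀mem hc₀1 htr2 hei hmove2 hcomm2
    by_cases hfix' : h⁻¹ * D.φ (Wm.pm (swap i j)) * h * D.t * (h⁻¹ * D.φ (Wm.pm (swap i j)) * h)⁻¹ = D.t
    swap
    · exact ⟨_, D.moving_case ho h4 htr' hc' hc'1 he0' hS' hfix'⟩
    exfalso
    obtain ⟨i', j', hij', hi1', hi2', hj1', hj2', -, hT'⟩ := D.fixed_case ho htr' hc' hmv' he0' hS' hfix'
    have hsame : swap i' j' = swap i j := by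
      rcases hall i' with e | e | e | e
      · exact absurd e hi1'
      · exact absurd e hi2'
      · subst e
        rcases hall j' with e | e | e | e
        exacts [absurd e hj1', absurd e hj2', absurd e.symm hij', by rw [e]]
      · subst e
        rcases hall j' with e | e | e | e
        exacts [absurd e hj1', absurd e hj2', by rw [e, swap_comm], absurd e.symm hij']
    obtain ⟨x, hx, hxσ⟩ := D.norm1_inv hn _ (pm_swap_mem_blkS (o₁ := o₁) (o₂ := o₂))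
    rw [inv_inv] at hxσ
    have e1 := hT x hx
    have e2 := hT' x hx
    rw [hsame] at e2
    have e3 := e1.trans e2.symm
    rw [← hxσ] at e3
    refine hmove1 (D.inj ?_)
    rw [map_mul, map_mul, map_inv]
    calc D.φ (Wm.bs (ev o₁)) * D.φ (Wm.pm (swap o₁ o₂)) * (D.φ (Wm.bs (ev o₁)))⁻¹
        = h * (h⁻¹ * D.φ (Wm.bs (ev o₁)) * h * (h⁻¹ * D.φ (Wm.pm (swap o₁ o₂)) * h) *
            (h⁻¹ * D.φ (Wm.bs (ev o₁)) * h)⁻¹) * h⁻¹ := by group
      _ = D.φ (Wm.pm (swap i j)) * D.φ (Wm.pm (swap o₁ o₂)) * (D.φ (Wm.pm (swap i j)))⁻¹ := by rw [e3]; group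
      _ = D.φ (Wm.pm (swap o₁ o₂)) := by rw [← map_inv, ← map_mul, ← map_mul, hsc]
  -- the element
  set a := D.φ (Wm.bs (ev o₁)) with hadef
  have haσ : a * D.φ (Wm.pm (swap o₁ o₂)) * a⁻¹ = D.φ (Wm.pm (swap o₁ o₂)) * D.b (pairVec o₁ o₂) := by
    rw [hadef, Data.b, ← map_inv, ← map_mul, ← map_mul, ← map_mul]
    refine congrArg D.φ ((conj_bs_ev pm_swap_mem_blkS o₁).resolve_left fun e => ?_) |>.trans ?_
    · have h1 := congrFun (congrArg Wm.vec e) o₁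
      simp [Wm.vec_mul, Wm.vec_inv, ev_apply, ho.symm] at h1
    · rw [swap_apply_left]; rfl
  have hab : ∀ v : Vec Ω, a * D.b v * a⁻¹ = D.b v := fun v => by
    rw [show a = D.b (ev o₁) from rfl, D.b_comm, mul_inv_cancel_right]
  have hσσ : D.φ (Wm.pm (swap o₁ o₂)) * D.φ (Wm.pm (swap o₁ o₂)) = 1 := by
    rw [← map_mul, Wm.blk_sq _ pm_swap_mem_blkS, map_one]
  have hcu : D.φ (Wm.pm (swap o₁ o₂)) * D.b (pairVec o₁ o₂) = D.b (pairVec o₁ o₂) * D.φ (Wm.pm (swap o₁ o₂)) := by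
    rw [Data.b, ← map_mul, ← map_mul, Wm.blk_comm _ pm_swap_mem_blkS (bs_pairVec_mem ho)]
  obtain ⟨d, hdσ, hdu, hdv⟩ : ∃ d : G, d * D.φ (Wm.pm (swap o₁ o₂)) * d⁻¹ = D.b (pairVec o₁ o₂) ∧
      d * D.b (pairVec o₁ o₂) * d⁻¹ = D.φ (Wm.bs (pairVec o₁ o₂) * Wm.pm (swap o₁ o₂)) ∧
      ∀ v : Vec Ω, v o₁ = 0 → v o₂ = 0 → d * D.b v * d⁻¹ = D.b v := by
    refine ⟨T * a, ?_, ?_, fun v h1 h2 => ?_⟩
    · rw [show T * a * D.φ (Wm.pm (swap o₁ o₂)) * (T * a)⁻¹ =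
        T * (a * D.φ (Wm.pm (swap o₁ o₂)) * a⁻¹) * T⁻¹ by group, haσ,
        show T * (D.φ (Wm.pm (swap o₁ o₂)) * D.b (pairVec o₁ o₂)) * T⁻¹ =
        T * D.φ (Wm.pm (swap o₁ o₂)) * T⁻¹ * (T * D.b (pairVec o₁ o₂) * T⁻¹) by group, hTσ, hTu, map_mul,
        show D.φ (Wm.bs (pairVec o₁ o₂)) = D.b (pairVec o₁ o₂) from rfl, ← mul_assoc, hcu, mul_assoc, hσσ, mul_one]
    · rw [show T * a * D.b (pairVec o₁ o₂) * (T * a)⁻¹ = T * (a * D.b (pairVec o₁ o₂) * a⁻¹) * T⁻¹ by group, hab,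
        hTu]
    · rw [show T * a * D.b v * (T * a)⁻¹ = T * (a * D.b v * a⁻¹) * T⁻¹ by group, hab, hTv v h1 h2]
  have hd3σ : d ^ 3 * D.φ (Wm.pm (swap o₁ o₂)) * (d ^ 3)⁻¹ = D.φ (Wm.pm (swap o₁ o₂)) := by
    have hdus : d * D.φ (Wm.bs (pairVec o₁ o₂) * Wm.pm (swap o₁ o₂)) * d⁻¹ = D.φ (Wm.pm (swap o₁ o₂)) := by
      rw [map_mul, show d * (D.φ (Wm.bs (pairVec o₁ o₂)) * D.φ (Wm.pm (swap o₁ o₂))) * d⁻¹ =
        d * D.b (pairVec o₁ o₂) * d⁻¹ * (d * D.φ (Wm.pm (swap o₁ o₂)) * d⁻¹) by rw [Data.b]; group, hdu, hdσ,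
        map_mul, show D.φ (Wm.bs (pairVec o₁ o₂)) = D.b (pairVec o₁ o₂) from rfl, mul_assoc, hcu, ← mul_assoc,
        D.b_sq, one_mul]
    rw [show d ^ 3 * D.φ (Wm.pm (swap o₁ o₂)) * (d ^ 3)⁻¹ =
      d * (d * (d * D.φ (Wm.pm (swap o₁ o₂)) * d⁻¹) * d⁻¹) * d⁻¹ by rw [pow_succ, pow_two]; group, hdσ, hdu, hdus]
  have hd3b : ∀ v : Vec Ω, v o₁ = v o₂ → d ^ 3 * D.b v * (d ^ 3)⁻¹ = D.b v := by
    intro v hv
    have hu : d ^ 3 * D.b (pairVec o₁ o₂) * (d ^ 3)⁻¹ = D.b (pairVec o₁ o₂) := by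
      rw [← hdσ]
      calc d ^ 3 * (d * D.φ (Wm.pm (swap o₁ o₂)) * d⁻¹) * (d ^ 3)⁻¹
          = d * (d ^ 3 * D.φ (Wm.pm (swap o₁ o₂)) * (d ^ 3)⁻¹) * d⁻¹ := by group
        _ = _ := by rw [hd3σ]
    obtain ⟨w, hw1, hw2, hvw⟩ : ∃ w : Vec Ω, w o₁ = 0 ∧ w o₂ = 0 ∧ v = v o₁ • pairVec o₁ o₂ + w :=
      ⟨v + v o₁ • pairVec o₁ o₂, by simp [pairVec_left ho, z2_add_self],
        by simp [pairVec_right ho, hv, z2_add_self], by rw [add_comm v, ← add_assoc, vec_add_self, zero_add]⟩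
    have hw3 : d ^ 3 * D.b w * (d ^ 3)⁻¹ = D.b w := by
      rw [show d ^ 3 * D.b w * (d ^ 3)⁻¹ = d * (d * (d * D.b w * d⁻¹) * d⁻¹) * d⁻¹ by rw [pow_succ, pow_two]; group,
        hdv w hw1 hw2, hdv w hw1 hw2, hdv w hw1 hw2]
    rw [hvw, D.b_add, show d ^ 3 * (D.b (v o₁ • pairVec o₁ o₂) * D.b w) * (d ^ 3)⁻¹ =
      d ^ 3 * D.b (v o₁ • pairVec o₁ o₂) * (d ^ 3)⁻¹ * (d ^ 3 * D.b w * (d ^ 3)⁻¹) by group, hw3]
    rcases z2_cases (v o₁) with h' | h' <;> rw [h']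
    · rw [zero_smul, D.b_zero, mul_one, mul_inv_cancel]
    · rw [one_smul, hu]
  obtain ⟨q, -, hq⟩ := exists_mem_notMem_of_card_lt_card (s := ({o₁, o₂} : Finset Ω)) (t := univ)
    (by rw [card_pair ho, card_univ]; omega)
  simp only [mem_insert, mem_singleton, not_or] at hq
  obtain ⟨c, hc, hdc⟩ := D.exists_of_comm1 (g := d ^ 3) ⟨q, hq.1, hq.2⟩ fun x hx => mul_inv_eq_iff_eq_mul.1 (by
    obtain ⟨hv, h' | h'⟩ := blkS_cases hx <;> rw [h']
    · exact hd3b _ hv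
    · rw [map_mul, show d ^ 3 * (D.φ (Wm.bs (Wm.vec x)) * D.φ (Wm.pm (swap o₁ o₂))) * (d ^ 3)⁻¹ =
        d ^ 3 * D.b (Wm.vec x) * (d ^ 3)⁻¹ * (d ^ 3 * D.φ (Wm.pm (swap o₁ o₂)) * (d ^ 3)⁻¹) by rw [Data.b]; group,
        hd3b _ hv, hd3σ]
      rfl)
  have hcc : d ^ 3 * d ^ 3 = 1 := by rw [hdc, ← map_mul, Wm.blk_sq _ hc, map_one]
  refine ⟨d ^ 4, ?_, ?_, ?_, fun v h1 h2 => ?_⟩
  · rw [← pow_mul, show 4 * 3 = (3 + 3) * 2 from rfl, pow_mul, pow_add, hcc, one_pow]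
  all_goals
    have hdd : ∀ z : G, d ^ 4 * z * (d ^ 4)⁻¹ = d * (d ^ 3 * z * (d ^ 3)⁻¹) * d⁻¹ := fun z => by group
    rw [hdd]
  · rw [hd3σ, hdσ]
  · rw [hd3b _ (by rw [pairVec_left ho, pairVec_right ho]), hdu]
  · rw [hd3b v (by rw [h1, h2]), hdv v h1 h2]

end SymData

end CfsgLib.KondoAlt
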