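import Cfsg.Agent.Lib.Invol.KondoAlt.Setup
import Cfsg.Agent.Lib.Invol.KondoAlt.Transvection

/-!
# Weak closure of `E`
-/

set_option autoImplicit false
set_option linter.unusedSectionVars false
set_option linter.style.haveILetI false

namespace CfsgLib.KondoAlt

open Equiv Finset

variable {Ω : Type*} [Fintype Ω] [DecidableEq Ω]

/-- transvections on a block subgroup, pairwise commuting, with centres adding up to the all-one vector -/
theorem exists_block_transvections (hcard : Even (Fintype.card Ω)) (μ : Perm Ω) (hμ : μ * μ = 1) :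
    ∃ (k : ℕ) (a : Fin k → Wm Ω) (u : Fin k → Vec Ω), 2 * k = Fintype.card Ω ∧ Function.Injective u ∧
      (∀ l, u l ≠ 0) ∧ ∑ l, u l = 1 ∧ (∀ l l', a l * a l' = a l' * a l) ∧
      (∀ l, Wm.bs (u l) ∈ Wm.blk μ hμ) ∧
      ∀ l, (∀ x ∈ Wm.blk μ hμ, a l * x * (a l)⁻¹ = x ∨ a l * x * (a l)⁻¹ = x * Wm.bs (u l)) ∧
        ∃ x ∈ Wm.blk μ hμ, a l * x * (a l)⁻¹ ≠ x := by
  classical
  have hμμ : ∀ i, μ (μ i) = i := fun i => by rw [← Perm.mul_apply, hμ]; rfl
  let ord := Fintype.equivFin Ω
  let R : Finset Ω := univ.filter fun i => ord i < ord (μ i)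
  let R' : Finset Ω := univ.filter fun i => ord (μ i) < ord i
  let F : Finset Ω := univ.filter fun i => μ i = i
  have hRR' : R.card = R'.card := card_bij (fun i _ => μ i) (fun i hi => by
      simp only [R, R', mem_filter, mem_univ, true_and, hμμ] at hi ⊢; exact hi)
    (fun i _ j _ e => μ.injective e) (fun j hj => ⟨μ j, by
      simp only [R, R', mem_filter, mem_univ, true_and, hμμ] at hj ⊢; exact hj, hμμ j⟩)
  have hdisj : Disjoint R R' := disjoint_filter.2 fun i _ h h' => lt_asymm h h'
  have hdisjF : Disjoint (R ∪ R') F := by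
    rw [disjoint_left]
    intro i hi hF
    simp only [R, R', F, mem_union, mem_filter, mem_univ, true_and] at hi hF
    rw [hF] at hi
    exact hi.elim (lt_irrefl _) (lt_irrefl _)
  have hall : R ∪ R' ∪ F = univ := by
    refine eq_univ_of_forall fun i => ?_
    simp only [R, R', F, mem_union, mem_filter, mem_univ, true_and]
    rcases lt_trichotomy (ord i) (ord (μ i)) with h | h | h
    exacts [Or.inl (Or.inl h), Or.inr (ord.injective h).symm, Or.inl (Or.inr h)]
  have hcF : F.card + 2 * R.card = Fintype.card Ω := by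
    rw [← card_univ, ← hall, card_union_of_disjoint hdisjF, card_union_of_disjoint hdisj]
    omega
  obtain ⟨m, hm⟩ : ∃ m, F.card = m * 2 := ⟨F.card / 2, by rw [Nat.even_iff] at hcard; omega⟩
  let f : Fin m × Fin 2 ≃ F := finProdFinEquiv.trans ((finCongr hm.symm).trans (F.equivFin).symm)
  have hfmem : ∀ z, μ (f z : Ω) = f z := fun z => (mem_filter.1 (f z).2).2
  have hRne : ∀ i : R, μ (i : Ω) ≠ i := fun i e => by
    have h := (mem_filter.1 i.2).2
    rw [e] at h
    exact lt_irrefl _ h
  let p : R ⊕ Fin m → Ω := Sum.elim (fun i => i) fun l => f (l, 0)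
  let q : R ⊕ Fin m → Ω := Sum.elim (fun i => μ i) fun l => f (l, 1)
  let a : R ⊕ Fin m → Wm Ω := Sum.elim (fun i => Wm.bs (ev (i : Ω))) fun l => Wm.pm (swap (f (l, 0)) (f (l, 1)))
  let u : R ⊕ Fin m → Vec Ω := fun l => ev (p l) + ev (q l)
  -- the points are distinct
  have hpinj : Function.Injective (fun z : (R ⊕ Fin m) × Fin 2 => if z.2 = 0 then p z.1 else q z.1) := by
    have hfi : ∀ {z z'}, (f z : Ω) = f z' → z = z' := fun h => f.injective (Subtype.ext h)
    have hmixed : ∀ (i : R) z, (i : Ω) ≠ f z ∧ μ (i : Ω) ≠ f z := fun i z =>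
      ⟨fun e => hRne i (by rw [e]; exact hfmem z), fun e => hRne i (by
        have h := congrArg μ e
        rw [hμμ, hfmem, ← e] at h
        exact h.symm)⟩
    have hRR : ∀ i j : R, (i : Ω) ≠ μ j := fun i j e => by
      have h := (mem_filter.1 i.2).2
      have h' := (mem_filter.1 j.2).2
      rw [e, hμμ] at h
      exact lt_asymm h h'
    rintro ⟨l, s⟩ ⟨l', s'⟩ h
    dsimp only at h
    fin_cases s <;> fin_cases s' <;> rcases l with i | l <;> rcases l' with j | l' <;>
      simp [p, q] at h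
    all_goals first
      | exact absurd h (hmixed _ _).1
      | exact absurd h (hmixed _ _).2
      | exact absurd h.symm (hmixed _ _).1
      | exact absurd h.symm (hmixed _ _).2
      | exact absurd h (hRR _ _)
      | exact absurd h.symm (hRR _ _)
      | (simp [Subtype.ext_iff, h]; done)
      | (simpa [Prod.ext_iff] using hfi h)
      | skip
  have hp2 : ∀ {l l'}, p l = p l' → l = l' := fun {l l'} h => (Prod.ext_iff.1 (@hpinj (l, 0) (l', 0) h)).1
  have hq2 : ∀ {l l'}, q l = q l' → l = l' := fun {l l'} h => (Prod.ext_iff.1 (@hpinj (l, 1) (l', 1) h)).1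
  have hpq : ∀ l l', p l ≠ q l' := fun l l' h => by
    have := (Prod.ext_iff.1 (@hpinj (l, 0) (l', 1) h)).2
    simp at this
  have hcardI : 2 * Fintype.card (R ⊕ Fin m) = Fintype.card Ω := by
    rw [Fintype.card_sum, Fintype.card_coe, Fintype.card_fin]
    omega
  let e := Fintype.equivFin (R ⊕ Fin m)
  refine ⟨_, fun l => a (e.symm l), fun l => u (e.symm l), hcardI, fun l l' h => ?_, fun l h => ?_, ?_,
    fun l l' => ?_, fun l => ?_, fun l => ?_⟩
  · dsimp only at h
    have h1 := congrFun h (p (e.symm l))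
    simp only [u, Pi.add_apply, ev_apply, if_pos rfl, if_neg (hpq _ _), add_zero] at h1
    by_contra hne
    rw [if_neg fun h2 => hne (e.symm.injective (hp2 h2))] at h1
    exact one_ne_zero h1
  · have h1 := congrFun h (p (e.symm l))
    simp [u, ev_apply, hpq] at h1
  · rw [Equiv.sum_comp e.symm u]
    have hbij := (Fintype.bijective_iff_injective_and_card _).2 ⟨hpinj, by
      rw [Fintype.card_prod, Fintype.card_fin]; omega⟩
    funext x
    rw [Finset.sum_apply, Pi.one_apply]
    obtain ⟨⟨l, s⟩, hl⟩ := hbij.2 x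
    rw [sum_eq_single l]
    · dsimp only at hl
      fin_cases s <;> simp at hl <;> subst hl
      · simp [u, ev_apply, hpq]
      · simp [u, ev_apply, (hpq _ _).symm]
    · intro l' _ hne
      dsimp only at hl
      fin_cases s <;> simp at hl <;> subst hl
      · have h0 : p l ≠ p l' := fun h => hne (hp2 h).symm
        simp [u, ev_apply, hpq, h0]
      · have h0 : q l ≠ q l' := fun h => hne (hq2 h).symm
        simp [u, ev_apply, (hpq _ _).symm, h0]
    · exact fun h => absurd (mem_univ l) h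
  · -- commuting
    have hmix : ∀ (i : R) (l : Fin m),
        Wm.bs (ev (i : Ω)) * Wm.pm (swap (f (l, 0) : Ω) (f (l, 1))) =
          Wm.pm (swap (f (l, 0) : Ω) (f (l, 1))) * Wm.bs (ev (i : Ω)) := by
      intro i l
      refine (mul_inv_eq_iff_eq_mul.1 ?_).symm
      rw [Wm.conj_bs, Wm.prm_pm]
      refine congrArg Wm.bs (Eq.trans (pe_ev _ _) ?_)
      rw [swap_apply_of_ne_of_ne]
      · exact fun h => absurd (hp2 (show p (Sum.inl i) = p (Sum.inr l) from h)) Sum.inl_ne_inr
      · exact fun h => hpq (Sum.inl i) (Sum.inr l) h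
    show a (e.symm l) * a (e.symm l') = a (e.symm l') * a (e.symm l)
    rcases e.symm l with i | s <;> rcases e.symm l' with j | s'
    · exact Wm.bs_comm _ _
    · exact hmix i s'
    · exact (hmix j s).symm
    · show Wm.pm _ * Wm.pm _ = Wm.pm _ * Wm.pm _
      rw [← Wm.pm_mul, ← Wm.pm_mul]
      rcases eq_or_ne s s' with rfl | hss
      · rfl
      have hne : ∀ {x y : Fin 2}, (f (s, x) : Ω) ≠ f (s', y) := fun h =>
        hss (congrArg Prod.fst (f.injective (Subtype.ext h)))
      rw [mul_swap_eq_swap_mul, swap_apply_of_ne_of_ne hne.symm hne.symm, swap_apply_of_ne_of_ne hne.symm hne.symm]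
  · rw [Wm.bs_mem_blk hμ]
    intro x
    show u (e.symm l) (μ x) = u (e.symm l) x
    have key : ∀ z, ev z (μ x) = ev (μ z) x := fun z => by
      rw [ev_apply, ev_apply]
      exact if_congr ⟨fun h => by rw [← h, hμμ], fun h => by rw [h, hμμ]⟩ rfl rfl
    show ev _ (μ x) + ev _ (μ x) = ev _ x + ev _ x
    rw [key, key]
    rcases e.symm l with i | s
    · simp only [p, q, Sum.elim_inl, hμμ]
      exact add_comm _ _
    · simp only [p, q, Sum.elim_inr, hfmem]
  · dsimp only
    rcases e.symm l with i | s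
    · -- a base element
      constructor
      · intro x hx
        have hconj : Wm.bs (ev (i : Ω)) * x * (Wm.bs (ev (i : Ω)))⁻¹ =
            Wm.bs (ev (i : Ω) + ev (Wm.prm x i)) * x := by
          rw [Wm.bs_inv, Wm.bs_add, ← pe_ev, mul_assoc, mul_assoc]
          refine congrArg _ ?_
          rw [show Wm.bs (pe (Wm.prm x) (ev (i : Ω))) = x * Wm.bs (ev (i : Ω)) * x⁻¹ from
            (Wm.conj_bs x (ev (i : Ω))).symm, inv_mul_cancel_right]
        show Wm.bs (ev (i : Ω)) * x * (Wm.bs (ev (i : Ω)))⁻¹ = x ∨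
          Wm.bs (ev (i : Ω)) * x * (Wm.bs (ev (i : Ω)))⁻¹ = x * Wm.bs (ev (i : Ω) + ev (μ i))
        rw [hconj]
        rcases hx.1 i with h | h <;> rw [h]
        · exact Or.inl (by rw [vec_add_self, Wm.bs_zero, one_mul])
        · refine Or.inr (Wm.blk_comm hμ ((Wm.bs_mem_blk hμ).2 fun y => ?_) hx)
          simp only [Pi.add_apply, ev_apply]
          rw [add_comm]
          congr 1 <;> refine if_congr ⟨fun h => ?_, fun h => ?_⟩ rfl rfl
          all_goals first
            | exact μ.injective h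
            | exact hμμ _
            | (rw [h]; exact hμμ _)
            | rw [h]
            | rw [← h, hμμ]
            | rw [h, hμμ]
      · refine ⟨Wm.pm (swap (i : Ω) (μ i)), ⟨fun y => ?_, fun y => rfl⟩, fun h => ?_⟩
        · rw [Wm.prm_pm]
          rcases eq_or_ne y i with rfl | hy
          · exact Or.inr (swap_apply_left _ _)
          rcases eq_or_ne y (μ i) with rfl | hy'
          · exact Or.inr (by rw [swap_apply_right, hμμ])
          · exact Or.inl (swap_apply_of_ne_of_ne hy hy')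
        · have h1 := congrArg (fun z => Wm.vec z (i : Ω)) h
          simp [a, Wm.vec_mul, Wm.vec_inv, ev_apply, hRne i] at h1
    · constructor
      · intro x hx
        have hfix : ∀ z, Wm.prm x (f z : Ω) = f z := fun z => by
          rcases hx.1 (f z) with h | h
          · exact h
          · rw [h, hfmem]
        have hprm : Wm.prm (Wm.pm (swap (f (s, 0) : Ω) (f (s, 1))) * x *
            (Wm.pm (swap (f (s, 0) : Ω) (f (s, 1))))⁻¹) = Wm.prm x := by
          rw [Wm.prm_mul, Wm.prm_mul, Wm.prm_inv, Wm.prm_pm, mul_inv_eq_iff_eq_mul]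
          rw [mul_swap_eq_swap_mul, hfix, hfix]
        have hvec : Wm.vec (Wm.pm (swap (f (s, 0) : Ω) (f (s, 1))) * x *
            (Wm.pm (swap (f (s, 0) : Ω) (f (s, 1))))⁻¹) =
            pe (swap (f (s, 0) : Ω) (f (s, 1))) (Wm.vec x) := by
          funext y
          simp [Wm.vec_mul, Wm.vec_inv, pe_apply]
        rcases z2_cases (Wm.vec x (f (s, 0) : Ω) + Wm.vec x (f (s, 1) : Ω)) with h | h
        · left
          refine Wm.ext' (hvec.trans ?_) hprm
          rw [pe_swap_eq, h, zero_smul, add_zero]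
        · right
          refine Wm.ext' (hvec.trans ?_) (hprm.trans ?_)
          · rw [pe_swap_eq, h, one_smul]
            funext y
            rw [Pi.add_apply, Wm.vec_mul, Wm.vec_bs]
            refine congrArg _ ?_
            show ev _ y + ev _ y = ev _ _ + ev _ _
            simp only [p, q, Sum.elim_inr,
              show ∀ z, ev z ((Wm.prm x)⁻¹ y) = ev (Wm.prm x z) y from fun z => congrFun (pe_ev _ _) y, hfix]
          · rw [Wm.prm_mul, Wm.prm_bs, mul_one]
      · refine ⟨Wm.bs (ev (f (s, 0) : Ω)), (Wm.bs_mem_blk hμ).2 fun y => ?_, fun h => ?_⟩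
        · rw [ev_apply, ev_apply]
          exact if_congr ⟨fun h => by rw [← hμμ y, h, hfmem], fun h => by rw [h, hfmem]⟩ rfl rfl
        · have h1 := congrFun (congrArg Wm.vec h) (f (s, 0) : Ω)
          simp [a, Wm.conj_bs, ev_apply, hpq (Sum.inr s) (Sum.inr s) |>.symm, show (f (s, 1) : Ω) ≠ f (s, 0) from
            fun h => hpq (Sum.inr s) (Sum.inr s) h.symm] at h1

/-- `n` commuting transvections of the symmetric group move the all-one vector to a point of the orbit -/
theorem StabSym.exists_map_one {X : Subgroup (Perm (Vec Ω))} (hX : StabSym X) (hcard : Even (Fintype.card Ω))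
    {k : ℕ} (hk : 2 * k = Fintype.card Ω) (x : Fin k → Perm (Vec Ω)) (d : Fin k → Vec Ω)
    (hx : ∀ l, x l ∈ X) (hx1 : ∀ l, x l ≠ 1) (hd : Function.Injective d)
    (hcomm : ∀ l l', x l * x l' = x l' * x l) (htr : ∀ l v, x l v = v ∨ x l v = v + d l) :
    ∃ y ∈ X, y 1 = ∑ l, d l := by
  classical
  obtain ⟨θ, hθ, hfwd, hrev⟩ : ∃ θ : Perm (Vec Ω), (θ = 1 ∨ θ = theta hcard) ∧
      (∀ z ∈ X, ∃ π, θ * z * θ = peE π) ∧ ((∀ z ∈ X, z 1 = 1) ∨ ∀ π, θ * peE π * θ ∈ X) := by
    rcases hX.trivial_or_symmetric hcard with h | ⟨θ, hθ, h⟩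
    · refine ⟨1, Or.inl rfl, fun z hz => ?_, Or.inl h⟩
      obtain ⟨π, rfl⟩ := hX.stab z hz (h z hz)
      exact ⟨Equiv.optionCongr π, by rw [one_mul, mul_one, peE_optionCongr]⟩
    · refine ⟨θ, hθ, fun z hz => (h z).1 hz, Or.inr fun π => (h _).2 ⟨π, ?_⟩⟩
      have h2 : θ * θ = 1 := by rcases hθ with rfl | rfl; exacts [one_mul 1, theta_mul_self hcard]
      simp only [← mul_assoc, h2, one_mul]
      rw [mul_assoc, h2, mul_one]
  have hθθ : θ * θ = 1 := by rcases hθ with rfl | rfl; exacts [one_mul 1, theta_mul_self hcard]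
  have hθv : ∀ v, θ (θ v) = v := fun v => by rw [← Perm.mul_apply, hθθ]; rfl
  have hθadd : ∀ v w, θ (v + w) = θ v + θ w := by
    rcases hθ with rfl | rfl; exacts [fun v w => rfl, theta_add hcard]
  have hθ1 : θ 1 = 1 := by rcases hθ with rfl | rfl; exacts [rfl, theta_one hcard]
  choose π hπ using fun l => hfwd _ (hx l)
  have hπ1 : ∀ l, π l ≠ 1 := fun l e => hx1 l (by
    have h := hπ l
    rw [e, map_one, mul_eq_one_iff_eq_inv] at h
    calc x l = θ * (θ * x l) := by rw [← mul_assoc, hθθ, one_mul]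
      _ = 1 := by rw [h, mul_inv_cancel])
  choose P Q hPQ hsw hext using fun l => eq_swap_of_peE_transvection hcard (hπ1 l) (c := θ (d l)) fun v => by
    rw [← hπ l, Perm.mul_apply, Perm.mul_apply]
    rcases htr l (θ v) with h | h <;> rw [h]
    · exact Or.inl (hθv v)
    · exact Or.inr (by rw [hθadd, hθv])
  -- the pairs are disjoint
  have hc : ∀ l l', π l * π l' = π l' * π l := fun l l' => by
    have hinj : Function.Injective (peE : Perm (Option Ω) → Perm (Vec Ω)) := by
      rw [injective_iff_map_eq_one]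
      intro ρ hρ
      refine Equiv.ext fun z => ?_
      obtain ⟨v, hv⟩ : ∃ v : Vec Ω, ext v = fun m => if m = z then 0 else 1 := ⟨op z, ext_op hcard z⟩
      have h1 := congrFun (ext_peE ρ v) (ρ z)
      rw [hρ, Perm.one_apply, hv, inv_apply] at h1
      dsimp only at h1
      by_contra hne
      rw [if_neg (show ¬ ρ z = z from hne), if_pos rfl] at h1
      exact one_ne_zero h1
    apply hinj
    rw [map_mul, map_mul, ← hπ, ← hπ,
      show θ * x l * θ * (θ * x l' * θ) = θ * (x l * ((θ * θ) * x l')) * θ by simp only [mul_assoc],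
      show θ * x l' * θ * (θ * x l * θ) = θ * (x l' * ((θ * θ) * x l)) * θ by simp only [mul_assoc],
      hθθ, one_mul, one_mul, hcomm]
  have hdisj : ∀ l l', l ≠ l' → P l ≠ P l' ∧ P l ≠ Q l' ∧ Q l ≠ P l' ∧ Q l ≠ Q l' := by
    intro l l' hne
    by_contra hcon
    have hll : ¬ ((P l' = P l ∧ Q l' = Q l) ∨ (P l' = Q l ∧ Q l' = P l)) := by
      intro h
      refine hne (hd (θ.injective (ext_injective ?_)))
      rw [hext, hext]
      rcases h with ⟨h1, h2⟩ | ⟨h1, h2⟩ <;> rw [h1, h2]
      exact add_comm _ _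
    push Not at hll
    have h := hc l l'
    rw [hsw, hsw] at h
    rcases (show P l = P l' ∨ P l = Q l' ∨ Q l = P l' ∨ Q l = Q l' by tauto) with e | e | e | e
    · rw [← e] at h
      exact swap_share_ne (hPQ l) (e ▸ hPQ l') (fun e' => hll.1 e.symm e'.symm) h
    · rw [swap_comm (P l') (Q l'), ← e] at h
      exact swap_share_ne (hPQ l) (e ▸ (hPQ l').symm) (fun e' => hll.2 e'.symm e.symm) h
    · rw [swap_comm (P l) (Q l), ← e] at h
      exact swap_share_ne (hPQ l).symm (e ▸ hPQ l') (fun e' => hll.2 e.symm e'.symm) h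
    · rw [swap_comm (P l) (Q l), swap_comm (P l') (Q l'), ← e] at h
      exact swap_share_ne (hPQ l).symm (e ▸ (hPQ l').symm) (fun e' => hll.1 e'.symm e.symm) h
  let pts : Fin k × Fin 2 → Option Ω := fun z => if z.2 = 0 then P z.1 else Q z.1
  have hptsinj : Function.Injective pts := by
    rintro ⟨l, s⟩ ⟨l', s'⟩ h
    rcases eq_or_ne l l' with rfl | hne
    · fin_cases s <;> fin_cases s' <;> simp [pts, hPQ l, (hPQ l).symm] at h ⊢
    · obtain ⟨h1, h2, h3, h4⟩ := hdisj l l' hne
      fin_cases s <;> fin_cases s' <;> simp [pts, h1, h2, h3, h4] at h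
  have himg : (univ.image pts)ᶜ.card = 1 := by
    rw [card_compl, card_image_of_injective _ hptsinj, card_univ, Fintype.card_prod, Fintype.card_fin,
      Fintype.card_fin, Fintype.card_option]
    omega
  obtain ⟨z, hz⟩ := card_eq_one.1 himg
  have hsum : ∑ l, θ (d l) = op z := by
    refine ext_injective ?_
    let F : Vec Ω →+ (Option Ω → ZMod 2) := AddMonoidHom.mk' ext ext_add
    show F _ = _
    rw [_root_.map_sum, ext_op hcard]
    funext m
    rw [Finset.sum_apply]
    rw [show (∑ l, F (θ (d l)) m) = ∑ l, (ind (P l) m + ind (Q l) m) from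
      sum_congr rfl fun l _ => congrFun (hext l) m]
    by_cases hm : m = z
    · rw [if_pos hm]
      refine sum_eq_zero fun l _ => ?_
      have hm' : ∀ w, pts w ≠ m := fun w e => by
        have h1 : m ∈ (univ.image pts)ᶜ := by rw [hz]; exact mem_singleton.2 hm
        exact mem_compl.1 h1 (mem_image.2 ⟨w, mem_univ _, e⟩)
      have e0 : P l ≠ m := hm' (l, 0)
      have e1 : Q l ≠ m := hm' (l, 1)
      simp [ind_apply, e0.symm, e1.symm]
    · rw [if_neg hm]
      obtain ⟨⟨l, s⟩, -, hls⟩ : ∃ w ∈ (univ : Finset (Fin k × Fin 2)), pts w = m := mem_image.1 (by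
        by_contra h1
        have h2 : m ∈ (univ.image pts)ᶜ := mem_compl.2 h1
        rw [hz, mem_singleton] at h2
        exact hm h2)
      rw [sum_eq_single l]
      · fin_cases s <;> simp [pts] at hls <;> subst hls <;> simp [ind_apply, hPQ l, (hPQ l).symm]
      · intro l' _ hne
        obtain ⟨h1, h2, h3, h4⟩ := hdisj l' l hne
        fin_cases s <;> simp [pts] at hls <;> subst hls <;> simp [ind_apply, h1.symm, h2.symm, h3.symm, h4.symm]
      · exact fun h1 => absurd (mem_univ l) h1
  -- the orbit point is reached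
  obtain ⟨y, hy, hy1⟩ : ∃ y ∈ X, θ (y 1) = op z := by
    rcases hrev with h | h
    · refine ⟨1, one_mem X, ?_⟩
      have hz0 : z = none := by
        by_contra hz0
        obtain ⟨l, hl⟩ : ∃ l, P l = none ∨ Q l = none := by
          obtain ⟨⟨l, s⟩, -, hls⟩ : ∃ w ∈ (univ : Finset (Fin k × Fin 2)), pts w = none := mem_image.1 (by
            by_contra h1
            have h2 : none ∈ (univ.image pts)ᶜ := mem_compl.2 h1
            rw [hz, mem_singleton] at h2
            exact hz0 h2.symm)
          exact ⟨l, by fin_cases s <;> simp [pts] at hls <;> tauto⟩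
        have h3 : peE (π l) 1 = (1 : Vec Ω) := by
          rw [← hπ l, Perm.mul_apply, Perm.mul_apply, hθ1, h _ (hx l), hθ1]
        rw [show (1 : Vec Ω) = op none from rfl, peE_op hcard] at h3
        have h4 := op_injective hcard h3
        rw [hsw] at h4
        rcases hl with e | e <;> rw [← e] at h4
        · rw [swap_apply_left] at h4
          exact hPQ l h4.symm
        · rw [swap_apply_right] at h4
          exact hPQ l h4
      rw [hz0, Perm.one_apply, hθ1]
      rfl
    · refine ⟨θ * peE (swap none z) * θ, h _, ?_⟩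
      rw [Perm.mul_apply, Perm.mul_apply, hθ1, hθv, show (1 : Vec Ω) = op none from rfl, peE_op hcard,
        swap_apply_left]
  refine ⟨y, hy, θ.injective ?_⟩
  rw [hy1, ← hsum]
  let F : Vec Ω →+ Vec Ω := AddMonoidHom.mk' θ hθadd
  exact (_root_.map_sum F d univ).symm

end CfsgLib.KondoAlt

namespace CfsgLib.KondoAlt

open Equiv Finset

variable {Ω : Type*} [Fintype Ω] [DecidableEq Ω] {G : Type*} [Group G] [Finite G]

namespace Data

variable (D : Data Ω G)

/-- **weak closure of `E`**: a conjugate of `E` inside the model is `E` -/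
theorem norm_of_into {g : G} (hg : D.Into g) : D.Norm g := by
  classical
  choose a ha using hg
  have hamul : ∀ v w, a (v + w) = a v * a w := fun v w => D.inj (by rw [map_mul, ← ha, ← ha, ← ha, D.b_add]; group)
  have hainj : Function.Injective a := fun v w e =>
    D.b_injective (mul_left_cancel (mul_right_cancel ((ha v).trans ((congrArg D.φ e).trans (ha w).symm))))
  have ha0 : a 0 = 1 := by
    have h := hamul 0 0
    rw [add_zero] at h
    exact left_eq_mul.1 h
  let af : Multiplicative (Vec Ω) →* Wm Ω := MonoidHom.mk' (fun v => a v.toAdd) fun v w => hamul _ _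
  have hA : ∃ (μ : Perm Ω) (hμ : μ * μ = 1), af.range = Wm.blk μ hμ := by
    refine exists_eq_blk af.range ?_ ?_ ?_
    · rintro _ ⟨v, rfl⟩ _ ⟨w, rfl⟩
      rw [← map_mul, ← map_mul, mul_comm]
    · rintro _ ⟨v, rfl⟩
      show a v.toAdd * a v.toAdd = 1
      rw [← hamul, vec_add_self, ha0]
    · rw [show Nat.card af.range = Nat.card (Multiplicative (Vec Ω)) from
        (Nat.card_congr (af.ofInjective fun v w e => Multiplicative.toAdd.injective (hainj e)).toEquiv).symm]
      exact Wm.card_vec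
  obtain ⟨μ, hμ, hA⟩ := hA
  have hmem : ∀ v, a v ∈ Wm.blk μ hμ := fun v => hA ▸ ⟨Multiplicative.ofAdd v, rfl⟩
  have hsurj : ∀ z ∈ Wm.blk μ hμ, ∃ v, a v = z := fun z hz => by
    rw [← hA] at hz
    obtain ⟨v, hv⟩ := hz
    exact ⟨_, hv⟩
  obtain ⟨k, c, u, hk, hu, hu0, hsum, hcomm, humem, htr⟩ := exists_block_transvections D.even_card μ hμ
  choose d hd using fun l => hsurj _ (humem l)
  have hnorm : ∀ l, D.Norm (g⁻¹ * D.φ (c l) * g) := fun l v => by
    rcases (htr l).1 (a v) (hmem v) with h | h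
    · refine ⟨v, ?_⟩
      calc g⁻¹ * D.φ (c l) * g * D.b v * (g⁻¹ * D.φ (c l) * g)⁻¹
          = g⁻¹ * (D.φ (c l) * (g * D.b v * g⁻¹) * (D.φ (c l))⁻¹) * g := by group
        _ = g⁻¹ * (g * D.b v * g⁻¹) * g := by rw [ha, ← map_inv, ← map_mul, ← map_mul, h]
        _ = D.b v := by group
    · refine ⟨v + d l, ?_⟩
      rw [← hd l, ← hamul] at h
      calc g⁻¹ * D.φ (c l) * g * D.b v * (g⁻¹ * D.φ (c l) * g)⁻¹
          = g⁻¹ * (D.φ (c l) * (g * D.b v * g⁻¹) * (D.φ (c l))⁻¹) * g := by group
        _ = g⁻¹ * (g * D.b (v + d l) * g⁻¹) * g := by rw [ha, ha, ← map_inv, ← map_mul, ← map_mul, h]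
        _ = D.b (v + d l) := by group
  choose x hxX hx using fun l => D.exists_aut (hnorm l)
  have hax : ∀ l v, a (x l v) = c l * a v * (c l)⁻¹ := fun l v => D.inj (by
    rw [map_mul, map_mul, map_inv, ← ha, ← ha, ← hx]
    group)
  have hxcomm : ∀ l l', x l * x l' = x l' * x l := fun l l' => Equiv.ext fun v => hainj (by
    simp only [Perm.mul_apply, hax]
    rw [show c l * (c l' * a v * (c l')⁻¹) * (c l)⁻¹ = (c l * c l') * a v * (c l * c l')⁻¹ by group, hcomm]
    group)
  obtain ⟨y, ⟨n, hn⟩, hy1⟩ := (D.stabSym).exists_map_one D.even_card hk x d hxX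
    (fun l e => by
      obtain ⟨z, hz, hne⟩ := (htr l).2
      obtain ⟨v, rfl⟩ := hsurj z hz
      exact hne (by rw [← hax, e, Perm.one_apply]))
    (fun l l' e => hu (Wm.bs_injective (by rw [← hd l, ← hd l', e])))
    hxcomm
    (fun l v => by
      rcases (htr l).1 (a v) (hmem v) with h | h
      · exact Or.inl (hainj ((hax l v).trans h))
      · exact Or.inr (hainj ((hax l v).trans (h.trans (by rw [hamul, hd]))))
      )
  have hsum' : a (∑ l, d l) = Wm.bs (∑ l, u l) := by
    induction (univ : Finset (Fin k)) using Finset.induction_on with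
    | empty => rw [sum_empty, sum_empty, ha0, Wm.bs_zero]
    | insert i s hi ih => rw [sum_insert hi, sum_insert hi, hamul, Wm.bs_add, hd, ih]
  -- move `g` into the centralizer of `t`
  have hgn : g * n * D.t = D.t * (g * n) := by
    have h1 := hn 1
    rw [hy1, D.b_one] at h1
    have h2 := ha (∑ l, d l)
    rw [hsum', hsum, ← h1] at h2
    have h3 : g * n * D.t * (g * n)⁻¹ = D.t := by
      rw [show g * n * D.t * (g * n)⁻¹ = g * (n * D.t * n⁻¹) * g⁻¹ by group, h2]
      rfl
    exact mul_inv_eq_iff_eq_mul.1 h3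
  have hgnN : D.Norm (g * n) := by
    intro v
    obtain ⟨r, hr⟩ : ∃ r : Subgroup.centralizer ({D.φ (Wm.tm Ω)} : Set G), (r : G) = g * n :=
      ⟨⟨g * n, Subgroup.mem_centralizer_singleton_iff.2 hgn⟩, rfl⟩
    have h2 : (r : G) * D.b v * (r : G)⁻¹ = D.φ (a (y v)) := by
      rw [hr, ← ha, ← hn]; group
    have h3 := congrArg D.ρ (show r * ⟨D.b v, D.phi_mem _⟩ * r⁻¹ = ⟨D.φ (a (y v)), D.phi_mem _⟩ from
      Subtype.ext h2)
    rw [map_mul, map_mul, map_inv, show D.ρ ⟨D.b v, D.phi_mem _⟩ = Wm.bs v from D.retr' _, D.retr',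
      Wm.conj_bs] at h3
    refine ⟨pe (Wm.prm (D.ρ r)) v, ?_⟩
    rw [← hr, h2, ← h3]
    rfl
  have h := D.norm_mul hgnN (D.norm_inv (n := n) fun v => ⟨_, hn v⟩)
  rwa [mul_inv_cancel_right] at h

end Data

end CfsgLib.KondoAlt
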